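import Cfsg.Agent.Recognition.USixtyFortyEight.Almost
import Cfsg.Agent.Chev.St.Present
import Cfsg.Agent.S0283
import Cfsg.Agent.S0280
import Cfsg.Agent.S2366
import Cfsg.Agent.S0815
import Cfsg.Agent.S1057
import Cfsg.Agent.S1059

/-!
# The group `G₂(2)` by order and element orders
-/

set_option autoImplicit false
set_option linter.unusedSectionVars false

namespace Cfsg.Lib.UThreeOrder

open Subgroup
open scoped _root_.Classical

universe u v

/-- The field with nine elements. -/
abbrev NineField : Type := GaloisField 3 2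

theorem card_nineField [Fintype NineField] : Fintype.card NineField = 3 ^ 2 := by
  rw [← Nat.card_eq_fintype_card, GaloisField.card 3 2 two_ne_zero]

/-- `PSU(3,3)` satisfies the hypotheses. -/
theorem hyp_psu [Fintype NineField] : Hyp (Cfsg.PSU 3 NineField 3) := by
  have : Fact (Nat.Prime 3) := ⟨Nat.prime_three⟩
  refine ⟨Cfsg.Agent.S0283.result card_nineField 3 le_rfl (by norm_num), ?_, fun g => ?_⟩
  · have h := Cfsg.Agent.S0280.result card_nineField 3 (by norm_num)
    norm_num [Finset.prod_range_succ, Nat.even_iff] at h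
    rw [Nat.card_eq_fintype_card]
    omega
  · have h : orderOf g ∈ Set.range (orderOf : Cfsg.PSU 3 NineField 3 → ℕ) := ⟨g, rfl⟩
    rw [Cfsg.Agent.S2366.result 3 (by norm_num) 3 card_nineField] at h
    norm_num at h
    refine ⟨fun e => ?_, fun e => ?_, fun e => ?_⟩ <;> rw [e] at h <;> norm_num at h

/-- A group of order 12096 without elements of order 9, 14 or 21 is the automorphism group of `PSU(3,3)`. -/
theorem nonempty_aut [Fintype NineField] {G : Type u} [Group G] [Finite G] (hG : Nat.card G = 12096)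
    (hno : ∀ g : G, orderOf g ≠ 9 ∧ orderOf g ≠ 14 ∧ orderOf g ≠ 21) :
    Nonempty (G ≃* MulAut (Cfsg.PSU 3 NineField 3)) := by
  have : Fact (Nat.Prime 3) := ⟨Nat.prime_three⟩
  have : Finite (Cfsg.PSU 3 NineField 3) := Nat.finite_of_card_ne_zero (by rw [hyp_psu.card]; norm_num)
  obtain ⟨T, hTn, hT, hC⟩ := exists_socle hG hno
  obtain ⟨e⟩ := equiv hT hyp_psu
  have := hTn
  let φ : G →* MulAut T := MulAut.conjNormal
  have hφ : Function.Injective φ := by
    refine (injective_iff_map_eq_one φ).2 fun g hg => ?_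
    have : g ∈ centralizer (T : Set G) := mem_centralizer_iff.2 fun t ht => by
      have h1 : φ g ⟨t, ht⟩ = ⟨t, ht⟩ := by rw [hg]; rfl
      have h2 : g * t * g⁻¹ = t := (MulAut.conjNormal_apply g ⟨t, ht⟩).symm.trans (congrArg Subtype.val h1)
      exact (mul_inv_eq_iff_eq_mul.1 h2).symm
    rwa [hC, mem_bot] at this
  let ψ : G →* MulAut (Cfsg.PSU 3 NineField 3) := (MulAut.congr e).toMonoidHom.comp φ
  have hψ : Function.Injective ψ := (MulAut.congr e).injective.comp hφ
  have hc : Nat.card (MulAut (Cfsg.PSU 3 NineField 3)) = 12096 := by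
    rw [Cfsg.Agent.S0815.result 3 1 le_rfl (pow_one 3).symm card_nineField 3 le_rfl (by norm_num), hyp_psu.card]
    norm_num
  have : Finite (MulAut (Cfsg.PSU 3 NineField 3)) := Nat.finite_of_card_ne_zero (by rw [hc]; norm_num)
  exact ⟨MulEquiv.ofBijective ψ
    ((Nat.bijective_iff_injective_and_card ψ).2 ⟨hψ, hG.trans hc.symm⟩)⟩

variable {F : Type v} [Field F] [Fintype F]

theorem card_group (hF : Fintype.card F = 2) : Nat.card ↥(Cfsg.Lie.chevG2.group F) = 12096 := by
  rw [Cfsg.Agent.S1059.result hF]; norm_num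

/-- `G₂(2)` has no elements of order 9, 14 or 21. -/
theorem no_orders [Fintype NineField] (hF : Fintype.card F = 2) (g : ↥(Cfsg.Lie.chevG2.group F)) :
    orderOf g ≠ 9 ∧ orderOf g ≠ 14 ∧ orderOf g ≠ 21 := by
  have hcard := card_group hF
  have : Finite ↥(Cfsg.Lie.chevG2.group F) := Nat.finite_of_card_ne_zero (by rw [hcard]; norm_num)
  have := Fintype.ofFinite ↥(Cfsg.Lie.chevG2.group F)
  obtain ⟨e⟩ := Cfsg.Agent.S1057.result hF (K := NineField) (card_nineField.trans (by norm_num))
  have hT : Hyp ↥(commutator ↥(Cfsg.Lie.chevG2.group F)) :=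
    ⟨have := hyp_psu.simple; e.isSimpleGroup, (Nat.card_congr e.toEquiv).trans hyp_psu.card,
      fun t => by rw [← e.orderOf_eq]; exact hyp_psu.no _⟩
  have hindex : (commutator ↥(Cfsg.Lie.chevG2.group F)).index = 2 := by
    have h := (commutator ↥(Cfsg.Lie.chevG2.group F)).card_mul_index
    rw [hT.card, hcard] at h
    omega
  have hC : centralizer (commutator ↥(Cfsg.Lie.chevG2.group F) : Set ↥(Cfsg.Lie.chevG2.group F)) = ⊥ := by
    rw [eq_bot_iff]
    intro c hc
    rw [← Cfsg.Lib.Chev.St.center_group_bot (D := Cfsg.Lie.chevG2) (K := F) List.mem_cons_self,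
      Subgroup.mem_center_iff]
    intro m
    have key : ∀ d ∈ centralizer (commutator ↥(Cfsg.Lie.chevG2.group F) : Set ↥(Cfsg.Lie.chevG2.group F)), d ∈ commutator ↥(Cfsg.Lie.chevG2.group F) → d = 1 := by
      intro d hd hdT
      have := hT.simple
      have hmem : (⟨d, hdT⟩ : ↥(commutator ↥(Cfsg.Lie.chevG2.group F))) ∈ Subgroup.center ↥(commutator ↥(Cfsg.Lie.chevG2.group F)) :=
        Subgroup.mem_center_iff.2 fun t => Subtype.ext (mem_centralizer_iff.1 hd t t.2)
      rcases (inferInstance : (Subgroup.center ↥(commutator ↥(Cfsg.Lie.chevG2.group F))).Normal).eq_bot_or_eq_top with h | h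
      · rw [h, mem_bot] at hmem
        exact congrArg Subtype.val hmem
      · exfalso
        let _ : CommGroup ↥(commutator ↥(Cfsg.Lie.chevG2.group F)) :=
          { (inferInstance : Group ↥(commutator ↥(Cfsg.Lie.chevG2.group F))) with
            mul_comm := fun a b => (Subgroup.mem_center_iff.1 (h ▸ mem_top a : a ∈ Subgroup.center _) b).symm }
        have hp : (Nat.card ↥(commutator ↥(Cfsg.Lie.chevG2.group F))).Prime := IsSimpleGroup.prime_card
        rw [hT.card] at hp
        norm_num at hp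
    have h1 : m * c * m⁻¹ * c⁻¹ ∈ commutator ↥(Cfsg.Lie.chevG2.group F) := commutator_mem_commutator (mem_top m) (mem_top c)
    have h2 : m * c * m⁻¹ * c⁻¹ ∈ centralizer (commutator ↥(Cfsg.Lie.chevG2.group F) : Set ↥(Cfsg.Lie.chevG2.group F)) :=
      mul_mem ((inferInstance : (centralizer (commutator ↥(Cfsg.Lie.chevG2.group F) : Set ↥(Cfsg.Lie.chevG2.group F))).Normal).conj_mem c hc m) (inv_mem hc)
    exact mul_inv_eq_iff_eq_mul.1 (mul_inv_eq_one.1 (key _ h2 h1))
  have hodd : ∀ k, orderOf g = 2 * k + 1 → g ∈ commutator ↥(Cfsg.Lie.chevG2.group F) := fun k hk => by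
    have h := pow_mem (Subgroup.sq_mem_of_index_two hindex g) (k + 1)
    rwa [← pow_mul, show 2 * (k + 1) = orderOf g + 1 by omega, pow_succ, pow_orderOf_eq_one, one_mul] at h
  have hno : g ∈ commutator ↥(Cfsg.Lie.chevG2.group F) → orderOf g ≠ 9 ∧ orderOf g ≠ 14 ∧ orderOf g ≠ 21 := fun hg => by
    rw [← Subgroup.orderOf_mk g hg]
    exact hT.no _
  exact ⟨fun h => (hno (hodd 4 h)).1 h, fun h => no_fourteen hT hC h (Subgroup.sq_mem_of_index_two hindex g),
    fun h => (hno (hodd 10 h)).2.2 h⟩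

theorem main {G : Type u} [Group G] [Finite G] (hF : Fintype.card F = 2) :
    Nonempty (G ≃* ↥(Cfsg.Lie.chevG2.group F)) ↔
      (Set.range (orderOf : G → ℕ) = Set.range (orderOf : ↥(Cfsg.Lie.chevG2.group F) → ℕ) ∧
        Nat.card G = Nat.card ↥(Cfsg.Lie.chevG2.group F)) := by
  have := Fintype.ofFinite NineField
  have hcard := card_group hF
  have : Finite ↥(Cfsg.Lie.chevG2.group F) := Nat.finite_of_card_ne_zero (by rw [hcard]; norm_num)
  constructor
  · rintro ⟨e⟩
    refine ⟨Set.ext fun n => ⟨?_, ?_⟩, Nat.card_congr e.toEquiv⟩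
    · rintro ⟨g, rfl⟩
      exact ⟨e g, e.orderOf_eq g⟩
    · rintro ⟨g, rfl⟩
      exact ⟨e.symm g, e.symm.orderOf_eq g⟩
  · rintro ⟨hr, hc⟩
    have hno : ∀ g : G, orderOf g ≠ 9 ∧ orderOf g ≠ 14 ∧ orderOf g ≠ 21 := fun g => by
      obtain ⟨m, hm⟩ : orderOf g ∈ Set.range (orderOf : ↥(Cfsg.Lie.chevG2.group F) → ℕ) := hr ▸ ⟨g, rfl⟩
      rw [← hm]
      exact no_orders hF m
    obtain ⟨e⟩ := nonempty_aut (hc.trans hcard) hno
    obtain ⟨e'⟩ := nonempty_aut hcard (no_orders hF)
    exact ⟨e.trans e'.symm⟩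

end Cfsg.Lib.UThreeOrder
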