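import Cfsg.Agent.Recognition.USixtyFortyEight.Values

/-!
# There is no simple group of order 12096 with 288 self-centralising subgroups of order seven

The principal 7-block, the central characters at the inverting involution and the divisibility of
the order of its centraliser by three leave no values.
-/

set_option autoImplicit false
set_option linter.unusedSectionVars false

namespace Cfsg.Lib.UThreeOrder

open Cfsg.Lib.Chars Cfsg.Lib.Blocks Cfsg.Lib.Blocks.SmallOrder Cfsg.Lib.Blocks.SylowCount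
  Cfsg.Lib.Blocks.DegreeEquation
open scoped _root_.Classical

universe u

/-- The weight of a degree. -/
def wt (z : ℤ) : ℤ := 1728 / z

/-- The possible values at the involution. -/
def vals (z : ℤ) (K : ℕ) : List ℤ :=
  ((List.range (z.natAbs / 2 + 1)).map fun i : ℕ => if 0 < z then z - 4 * (i : ℤ) else z + 4 * (i : ℤ)).filter
    fun R => decide (((K : ℤ) * R) % z = 0)

/-- The search for the values. -/
def searchR (K : ℕ) (T a : ℤ) : List ℤ → ℤ → ℤ → ℤ → Bool
  | [], E, sr, bud => decide (bud < sr * sr) || decide (((K : ℤ) * sr) % a ≠ 0) ||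
      decide (E - wt a * (sr * sr) ≠ T)
  | z :: zs, E, sr, bud => decide (E + 288 * bud < T) || decide (T < E - 288 * bud) ||
      (vals z K).all fun R => decide (bud < R * R) || searchR K T a zs (E + wt z * (R * R)) (sr + R) (bud - R * R)

/-- All unordered choices of degrees. -/
def allS (f : List ℤ → Bool) : List ℤ → ℕ → List ℤ → Bool
  | [], k, acc => decide (k ≠ 0) || f acc
  | z :: L, k, acc => (List.range (k + 1)).all fun j => allS f L (k - j) (List.replicate j z ++ acc)

/-- The possible class sizes. -/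
def sizes : List ℕ :=
  (List.range 7).flatMap fun i => (List.range 3).flatMap fun j => (List.range 2).map fun k => 2 ^ i * 3 ^ j * 7 ^ k

/-- The test for given degrees. -/
def testDeg (A zs : List ℤ) : Bool :=
  !A.contains (1 + zs.sum) || sizes.all fun K =>
    searchR K (((12096 / K : ℕ) : ℤ) * ((12096 / K : ℕ) : ℤ)) (1 + zs.sum) zs 1728 1 (((12096 / K : ℕ) : ℤ) - 1)

theorem terms_eq : terms 7 (288 * 6) 12096 1 110 6 = [6, -8, 27, -36, 48, -64] ∧
    terms 7 (288 * 6) 12096 1 110 1 = [-6, 8, -27, 36, -48, 64] := by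
  decide +kernel

theorem test_all : allS (testDeg [6, -8, 27, -36, 48, -64]) [-6, 8, -27, 36, -48, 64] 5 [] = true := by
  decide +kernel

theorem term_props : ∀ z ∈ ([-6, 8, -27, 36, -48, 64, 6, -8, 27, -36] : List ℤ) ++ [48, -64],
    z ≠ 0 ∧ (wt z).natAbs ≤ 288 ∧ z * wt z = 1728 := by
  decide +kernel

theorem allS_spec {f : List ℤ → Bool} : ∀ (L : List ℤ) (k : ℕ) (acc : List ℤ), allS f L k acc = true →
    ∀ l : List (ℤ × ℤ), l.length = k → (∀ q ∈ l, q.1 ∈ L) →
      ∃ l' : List (ℤ × ℤ), l'.Perm l ∧ f (l'.map Prod.fst ++ acc) = true := by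
  intro L
  induction L with
  | nil =>
    intro k acc h l hl hm
    have hl0 : l = [] := List.eq_nil_iff_forall_not_mem.2 fun q hq => List.not_mem_nil (hm q hq)
    subst hl0
    refine ⟨[], List.Perm.refl _, ?_⟩
    simpa [allS, ← hl] using h
  | cons z L ih =>
    intro k acc h l hl hm
    set P : ℤ × ℤ → Bool := fun q => decide (q.1 = z)
    have hsplit := List.filter_append_perm P l
    have hlen : (l.filter P).length + (l.filter fun q => !P q).length = k := by
      rw [← List.length_append, hsplit.length_eq, hl]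
    rw [allS, List.all_eq_true] at h
    obtain ⟨l', hp, hf⟩ := ih _ _ (h (l.filter P).length (List.mem_range.2 (by omega)))
      (l.filter fun q => !P q) (by omega) fun q hq => by
        obtain ⟨h1, h2⟩ := List.mem_filter.1 hq
        exact (List.mem_cons.1 (hm q h1)).resolve_left (by simpa [P] using h2)
    refine ⟨l' ++ l.filter P, ((hp.append_right _).trans List.perm_append_comm).trans hsplit, ?_⟩
    have hrep : (l.filter P).map Prod.fst = List.replicate (l.filter P).length z :=
      List.eq_replicate_iff.2 ⟨List.length_map _, fun w hw => by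
        obtain ⟨q, hq, rfl⟩ := List.mem_map.1 hw
        simpa [P] using (List.mem_filter.1 hq).2⟩
    rwa [List.map_append, List.append_assoc, hrep]

theorem mem_vals {z R : ℤ} {K : ℕ} (h4 : (4 : ℤ) ∣ z - R) (hle : R.natAbs ≤ z.natAbs)
    (hK : z ∣ (K : ℤ) * R) : R ∈ vals z K := by
  refine List.mem_filter.2 ⟨?_, decide_eq_true (Int.emod_eq_zero_of_dvd hK)⟩
  obtain ⟨j, hj⟩ := h4
  refine List.mem_map.2 ⟨j.natAbs, List.mem_range.2 (by omega), ?_⟩
  split <;> omega

theorem searchR_spec (K : ℕ) (T a : ℤ) (ha : (wt a).natAbs ≤ 288) : ∀ (l : List (ℤ × ℤ)) (E sr bud : ℤ),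
    searchR K T a (l.map Prod.fst) E sr bud = true →
    (∀ q ∈ l, (4 : ℤ) ∣ q.1 - q.2 ∧ q.2.natAbs ≤ q.1.natAbs ∧ q.1 ∣ (K : ℤ) * q.2 ∧ (wt q.1).natAbs ≤ 288) →
    (l.map fun q => q.2 * q.2).sum + (sr + (l.map Prod.snd).sum) * (sr + (l.map Prod.snd).sum) ≤ bud →
    a ∣ (K : ℤ) * (sr + (l.map Prod.snd).sum) →
    E + (l.map fun q => wt q.1 * (q.2 * q.2)).sum -
      wt a * ((sr + (l.map Prod.snd).sum) * (sr + (l.map Prod.snd).sum)) ≠ T := by
  have key : ∀ w x : ℤ, w.natAbs ≤ 288 → 0 ≤ x → -(288 * x) ≤ w * x ∧ w * x ≤ 288 * x := fun w x hw hx =>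
    ⟨by nlinarith [show -288 ≤ w by omega], by nlinarith [show w ≤ 288 by omega]⟩
  have bound : ∀ l : List (ℤ × ℤ), (∀ q ∈ l, (wt q.1).natAbs ≤ 288) →
      -(288 * (l.map fun q => q.2 * q.2).sum) ≤ (l.map fun q => wt q.1 * (q.2 * q.2)).sum ∧
      (l.map fun q => wt q.1 * (q.2 * q.2)).sum ≤ 288 * (l.map fun q => q.2 * q.2).sum := by
    intro l
    induction l with
    | nil => simp
    | cons q l ih =>
      intro h
      obtain ⟨h1, h2⟩ := ih fun r hr => h r (List.mem_cons_of_mem _ hr)
      obtain ⟨h3, h4⟩ := key _ _ (h q List.mem_cons_self) (mul_self_nonneg q.2)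
      simp only [List.map_cons, List.sum_cons]
      constructor <;> linarith
  intro l
  induction l with
  | nil =>
    intro E sr bud h _ hb hd
    simp only [List.map_nil, List.sum_nil, add_zero, zero_add] at hb hd ⊢
    simp only [List.map_nil, searchR, Bool.or_eq_true, decide_eq_true_eq] at h
    rcases h with (h | h) | h
    · omega
    · exact absurd (Int.emod_eq_zero_of_dvd hd) h
    · exact h
  | cons q l ih =>
    intro E sr bud h hq hb hd
    obtain ⟨h4, hle, hK, hw⟩ := hq q List.mem_cons_self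
    obtain ⟨b1, b2⟩ := bound (q :: l) fun r hr => (hq r hr).2.2.2
    have hsq := mul_self_nonneg (sr + ((q :: l).map Prod.snd).sum)
    obtain ⟨b3, b4⟩ := key _ _ ha hsq
    rw [List.map_cons, searchR, Bool.or_eq_true, Bool.or_eq_true, decide_eq_true_eq, decide_eq_true_eq,
      List.all_eq_true] at h
    rcases h with (h | h) | h
    · intro e; linarith
    · intro e; linarith
    · simp only [List.map_cons, List.sum_cons] at hb hd hsq ⊢
      have h' := h q.2 (mem_vals h4 hle hK)
      rw [Bool.or_eq_true, decide_eq_true_eq] at h'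
      have hs : (0 : ℤ) ≤ (l.map fun q => q.2 * q.2).sum :=
        List.sum_nonneg fun x hx => by
          obtain ⟨r, -, rfl⟩ := List.mem_map.1 hx
          exact mul_self_nonneg r.2
      have h'' := ih _ _ _ (h'.resolve_left (by intro; linarith)) (fun r hr => hq r (List.mem_cons_of_mem _ hr))
        (by rw [add_assoc sr]; linarith) (by rwa [add_assoc sr])
      rw [add_assoc sr] at h''
      rwa [← add_assoc E]

theorem fracs_scaled : ∀ l : List (ℤ × ℤ), (∀ q ∈ l, q.1 * wt q.1 = 1728) →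
    1728 * (fracs l).1 = (fracs l).2 * (1728 + (l.map fun q => wt q.1 * (q.2 * q.2)).sum)
  | [], _ => by simp [fracs]
  | (z, R) :: l, h => by
    have ih := fracs_scaled l fun q hq => h q (List.mem_cons_of_mem _ hq)
    have hz : z * wt z = 1728 := h (z, R) List.mem_cons_self
    simp only [fracs, List.map_cons, List.sum_cons]
    linear_combination z * ih - (R * R * (fracs l).2) * hz

variable {G : Type u} [Group G]

/-- A simple group of order 12096 with a self-centralising subgroup of order seven has fewer than 288 of them. -/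
theorem false_of_whole [Fintype G] [IsSimpleGroup G] (hcard : Nat.card G = 12096)
    (hcyc : ¬ IsCyclic G) (hn : Nat.card (Sylow 7 G) = 288)
    (hself : ∀ y : G, orderOf y = 7 → ∀ g : G, g * y = y * g → g ∈ Subgroup.zpowers y) : False := by
  have : Fact (Nat.Prime 7) := ⟨Nat.prime_seven⟩
  have hsq : ¬ 7 ^ 2 ∣ Nat.card G := by rw [hcard]; norm_num
  obtain ⟨P⟩ : Nonempty (Sylow 7 G) := inferInstance
  obtain ⟨C, hC⟩ := exists_cyc (by rw [hcard]; norm_num) hsq P
  have hcore : Core C := ⟨BrauerTuan.perfect_of_simple hcyc, ⟨P, hC⟩, fun N hN hne => by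
    rw [hN.eq_bot_or_eq_top.resolve_left hne]
    exact Subgroup.mem_top _⟩
  have hidx : idx C = 288 := by
    rw [idx, hC, ← hn]
    exact P.card_eq_index_normalizer.symm
  have hVc : Nat.card C.V = 1 := by
    refine Nat.card_eq_one_iff_unique.2 ⟨⟨fun v w => ?_⟩, ⟨1⟩⟩
    have key : ∀ v : C.V, v = 1 := fun v => by
      have h1 := C.commute_V v 1
      rw [C.yP_one] at h1
      have h2 : orderOf ((v : C.H) : G) ∣ 7 :=
        (orderOf_dvd_of_mem_zpowers (hself C.y C.order _ h1.eq)).trans (dvd_of_eq C.order)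
      rw [Subgroup.orderOf_coe] at h2
      rcases (Nat.dvd_prime Nat.prime_seven).1 h2 with h3 | h3
      · exact Subtype.ext (orderOf_eq_one_iff.1 h3)
      · exact absurd (h3.symm.dvd.trans (orderOf_dvd_natCard (v : C.H))) C.not_dvd
    rw [key v, key w]
  have he : eC C = 6 := by
    have h := SmallOrder.card_eq C
    rw [hcard, hidx, hVc] at h
    omega
  obtain ⟨Mi, hM⟩ := exists_isPModular (Nat.prime_seven)
  obtain ⟨ν, δ, hD⟩ := C.exists_orbitData hM C.oneV
  obtain ⟨s, a, l, hlen, hss, hs1, ⟨u, hu, hus⟩, hql, hal, hsum, ⟨haT, haA⟩, hl, -, hKd, hE, hS⟩ :=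
    exists_invValues hcore hM hD hVc (by rw [he]; norm_num) (by rw [he]; norm_num)
  rw [he, hidx, hcard] at haT
  rw [hVc, hcard] at haA
  rw [he, hidx, hVc, hcard] at hl
  rw [hcard] at hE hS hKd
  rw [he] at hlen hS
  set K := Nat.card {x : G // IsConj s x}
  have h3c : 3 ∣ Nat.card (Subgroup.centralizer ({s} : Set G)) :=
    hu.symm.dvd.trans (Subgroup.orderOf_dvd_natCard _ (Subgroup.mem_centralizer_singleton_iff.2 hus))
  set c := Nat.card (Subgroup.centralizer ({s} : Set G))
  have hKc : K * c = 12096 := by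
    rw [show K = (Subgroup.centralizer ({s} : Set G)).index from card_isConj s, ← hcard]
    exact Subgroup.index_mul_card _
  have hK4 : K ∣ 4032 := by
    obtain ⟨d, hd⟩ := h3c
    exact ⟨d, by rw [hd] at hKc; linarith⟩
  have hKmem : K ∈ sizes := by
    obtain ⟨x, y, hx, hy, e⟩ := exists_dvd_and_dvd_of_dvd_mul (show K ∣ 576 * 7 from hK4)
    obtain ⟨x1, x2, hx1, hx2, e'⟩ := exists_dvd_and_dvd_of_dvd_mul (show x ∣ 2 ^ 6 * 3 ^ 2 from hx)
    obtain ⟨i, hi, rfl⟩ := (Nat.dvd_prime_pow Nat.prime_two).1 hx1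
    obtain ⟨j, hj, rfl⟩ := (Nat.dvd_prime_pow Nat.prime_three).1 hx2
    obtain ⟨k, hk, rfl⟩ := (Nat.dvd_prime_pow Nat.prime_seven).1 (show y ∣ 7 ^ 1 from hy)
    rw [e, e']
    exact List.mem_flatMap.2 ⟨i, List.mem_range.2 (by omega), List.mem_flatMap.2 ⟨j, List.mem_range.2 (by omega),
      List.mem_map.2 ⟨k, List.mem_range.2 (by omega), rfl⟩⟩⟩
  have hA : a ∈ ([6, -8, 27, -36, 48, -64] : List ℤ) := terms_eq.1 ▸ mem_terms (by norm_num) haT haA
  have hL : ∀ q ∈ l, q.1 ∈ ([-6, 8, -27, 36, -48, 64] : List ℤ) := fun q hq =>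
    terms_eq.2 ▸ mem_terms (by norm_num) (hl q hq).1.1 (hl q hq).1.2
  have hprop : ∀ q ∈ l, q.1 ≠ 0 ∧ (wt q.1).natAbs ≤ 288 ∧ q.1 * wt q.1 = 1728 := fun q hq =>
    term_props q.1 (by have := hL q hq; simp only [List.mem_cons, List.not_mem_nil, List.cons_append, List.nil_append] at this ⊢; tauto)
  obtain ⟨ha0, haw, ha1728⟩ := term_props a (by simp only [List.mem_cons, List.not_mem_nil, List.cons_append, List.nil_append] at hA ⊢; tauto)
  obtain ⟨l', hp, hf⟩ := allS_spec _ 5 [] test_all l (by omega) hL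
  rw [List.append_nil, testDeg, (hp.map Prod.fst).sum_eq, hsum, List.contains_iff_mem.2 hA, Bool.not_true,
    Bool.false_or, List.all_eq_true] at hf
  have hKpos : 0 < K := Nat.pos_of_ne_zero fun e => by rw [e] at hKc; omega
  have hf' := hf K hKmem
  rw [show 12096 / K = c from Nat.div_eq_of_eq_mul_right hKpos hKc.symm] at hf'
  refine searchR_spec K _ a haw l' 1728 1 _ hf' (fun q hq => ?_) ?_ ?_ ?_
  · exact ⟨(hl q (hp.mem_iff.1 hq)).2.1, (hl q (hp.mem_iff.1 hq)).2.2, hql q (hp.mem_iff.1 hq),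
      (hprop q (hp.mem_iff.1 hq)).2.1⟩
  · rw [(hp.map Prod.snd).sum_eq, (hp.map fun q : ℤ × ℤ => q.2 * q.2).sum_eq]
    have hKcZ : (K : ℤ) * c = 12096 := by exact_mod_cast hKc
    have h7 : (((7 - 1) / 6 : ℕ) : ℤ) = 1 := by norm_num
    rw [h7, one_mul] at hS
    push_cast at hS
    nlinarith [show (0 : ℤ) < K by exact_mod_cast hKpos]
  · rw [(hp.map Prod.snd).sum_eq]
    exact hal
  · rw [(hp.map Prod.snd).sum_eq, (hp.map fun q : ℤ × ℤ => wt q.1 * (q.2 * q.2)).sum_eq]
    have hfs := fracs_scaled l fun q hq => (hprop q hq).2.2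
    have hd0 : (fracs l).2 ≠ 0 := (fracs_spec l fun q hq => (hprop q hq).1).1
    have hKcZ : (K : ℤ) * c = 12096 := by exact_mod_cast hKc
    push_cast at hE
    set X := (l.map fun q => wt q.1 * (q.2 * q.2)).sum
    set Ra := 1 + (l.map Prod.snd).sum
    have h1 : ((K : ℤ) * K * (1728 + X - wt a * (Ra * Ra)) - 12096 * 12096) * ((fracs l).2 * a) = 0 := by
      linear_combination 1728 * hE - (K : ℤ) * K * a * hfs - (K : ℤ) * K * (Ra * Ra) * (fracs l).2 * ha1728
    have h2 := (mul_eq_zero.1 h1).resolve_right (mul_ne_zero hd0 ha0)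
    refine mul_left_cancel₀ (show ((K : ℤ) * K) ≠ 0 from mul_ne_zero (by omega) (by omega)) ?_
    linear_combination h2 - ((K : ℤ) * c + 12096) * hKcZ

end Cfsg.Lib.UThreeOrder
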