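import Cfsg.Agent.Recognition.USixtyFortyEight.Perm
import Cfsg.Agent.Recognition.USixtyFortyEight.Whole
import Cfsg.Agent.S0976
import Cfsg.Agent.Components.PComponents
import Cfsg.Agent.Components.Cores

/-!
# Groups of order 12096 without elements of order 9, 14 or 21
-/

set_option autoImplicit false
set_option linter.unusedSectionVars false

namespace Cfsg.Lib.UThreeOrder

open Subgroup MulAction
open scoped Pointwise _root_.Classical

universe u

variable {G : Type u} [Group G]

theorem seven_divisors : ∀ n ∈ Nat.divisors 1728, n % 7 = 1 → n = 1 ∨ n = 8 ∨ n = 36 ∨ n = 64 ∨ n = 288 := by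
  decide +kernel

theorem seven_divisors' : ∀ n ∈ Nat.divisors 864, n % 7 = 1 → n = 1 ∨ n = 8 ∨ n = 36 ∨ n = 288 := by
  decide +kernel

theorem check_part : Blocks.DegreeEquation.check 7 288 45 = true := by decide +kernel

/-- A self-centralising subgroup of order seven acts without fixed points on the subgroups it normalises. -/
theorem card_mod_seven [Finite G] {y : G} (hy : orderOf y = 7)
    (hself : ∀ g : G, g * y = y * g → g ∈ zpowers y) (K : Subgroup G)
    (hK : y ∈ normalizer (K : Set G)) (hyK : y ∉ K) : Nat.card K % 7 = 1 := by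
  have : Fact (Nat.Prime 7) := ⟨Nat.prime_seven⟩
  letI : MulAction (zpowers y) K :=
    { smul := fun g k => ⟨(g : G) * k * (g : G)⁻¹, (mem_normalizer_iff.1 (zpowers_le.2 hK g.2) k).1 k.2⟩
      one_smul := fun k => Subtype.ext (show (1 : G) * k * 1⁻¹ = k by group)
      mul_smul := fun g g' k => Subtype.ext (show (g : G) * g' * k * ((g : G) * g')⁻¹ =
        (g : G) * ((g' : G) * k * (g' : G)⁻¹) * (g : G)⁻¹ by group) }
  have hP : IsPGroup 7 (zpowers y) := IsPGroup.of_card (n := 1) (by rw [Nat.card_zpowers, hy, pow_one])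
  have hfix : Nat.card (MulAction.fixedPoints (zpowers y) K) = 1 := by
    refine Nat.card_eq_one_iff_unique.2 ⟨⟨fun p q => ?_⟩, ⟨⟨1, fun g => Subtype.ext (by
      show (g : G) * 1 * (g : G)⁻¹ = 1
      group)⟩⟩⟩
    have key : ∀ p : MulAction.fixedPoints (zpowers y) K, (p.1 : G) = 1 := by
      rintro ⟨p, hp⟩
      have h1 : y * (p : G) * y⁻¹ = p := congrArg Subtype.val (hp ⟨y, mem_zpowers y⟩)
      have h2 := hself p (mul_inv_eq_iff_eq_mul.1 h1).symm
      by_contra hne
      have htop : zpowers (⟨p, h2⟩ : zpowers y) = ⊤ :=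
        zpowers_eq_top_of_prime_card (p := 7) (by rw [Nat.card_zpowers, hy]) fun e => hne (congrArg Subtype.val e)
      obtain ⟨j, hj⟩ := mem_zpowers_iff.1 (htop ▸ mem_top (⟨y, mem_zpowers y⟩ : zpowers y))
      exact hyK ((show (p : G) ^ j = y by simpa using congrArg Subtype.val hj) ▸ zpow_mem p.2 j)
    exact Subtype.ext (Subtype.ext ((key p).trans (key q).symm))
  have h := hP.card_modEq_card_fixedPoints K
  rw [hfix] at h
  exact h

/-- An element of order seven with no element of order 14 or 21 above it is self-centralising. -/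
theorem self_centralizing [Finite G] {n : ℕ} (hcard : Nat.card G = 7 * n) (h7 : ¬ 7 ∣ n) (h864 : n ∣ 1728)
    (hno : ∀ g : G, orderOf g ≠ 14 ∧ orderOf g ≠ 21) {y : G} (hy : orderOf y = 7) {g : G} (hg : g * y = y * g) :
    g ∈ zpowers y := by
  have : Fact (Nat.Prime 7) := ⟨Nat.prime_seven⟩
  set C := centralizer ({y} : Set G)
  have hyC : zpowers y ≤ C := zpowers_le.2 (mem_centralizer_singleton_iff.2 rfl)
  have h14 : ∀ r : ℕ, r = 2 ∨ r = 3 → ¬ r ∣ Nat.card C := by
    intro r hr hd
    have : Fact r.Prime := ⟨by rcases hr with rfl | rfl <;> norm_num⟩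
    obtain ⟨v, hv⟩ := exists_prime_orderOf_dvd_card' (G := C) r hd
    have ho : orderOf (y * (v : G)) = 7 * r := by
      rw [(show Commute y (v : G) from (mem_centralizer_singleton_iff.1 v.2).symm).orderOf_mul_eq_mul_orderOf_of_coprime
        (by rw [hy, Subgroup.orderOf_coe, hv]; rcases hr with rfl | rfl <;> norm_num), hy, Subgroup.orderOf_coe, hv]
    rcases hr with rfl | rfl
    · exact (hno _).1 ho
    · exact (hno _).2 ho
  have hC : Nat.card C ∣ 7 * 1728 :=
    ((card_subgroup_dvd_card C).trans (hcard ▸ dvd_rfl)).trans (Nat.mul_dvd_mul_left 7 h864)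
  have hcop : Nat.Coprime (Nat.card C) 1728 := by
    rw [show (1728 : ℕ) = 2 ^ 6 * 3 ^ 3 by norm_num]
    exact Nat.Coprime.mul_right (Nat.Coprime.pow_right _ (Nat.prime_two.coprime_iff_not_dvd.2 (h14 2 (Or.inl rfl))).symm)
      (Nat.Coprime.pow_right _ (Nat.prime_three.coprime_iff_not_dvd.2 (h14 3 (Or.inr rfl))).symm)
  have hle : Nat.card C ≤ 7 := Nat.le_of_dvd (by norm_num) (hcop.dvd_of_dvd_mul_right hC)
  rw [eq_of_le_of_card_ge hyC (by rw [Nat.card_zpowers, hy]; exact hle)]
  exact mem_centralizer_singleton_iff.2 hg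

/-- The normaliser of a subgroup of order seven has order at most 42. -/
theorem normalizer_le [Finite G] {y : G} (hy : orderOf y = 7) (hself : ∀ g : G, g * y = y * g → g ∈ zpowers y) :
    Nat.card (normalizer (zpowers y : Set G)) ≤ 42 := by
  have : Fact (Nat.Prime 7) := ⟨Nat.prime_seven⟩
  set N := normalizer (zpowers y : Set G)
  have hk : Nat.card (normalizerMonoidHom (zpowers y)).ker ≤ 7 := by
    rw [normalizerMonoidHom_ker]
    refine le_trans (Nat.card_le_card_of_injective
      (fun g => (⟨((g : N) : G), hself _ ((mem_centralizer_iff.1 g.2 y (mem_zpowers y)).symm)⟩ : zpowers y))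
      fun g g' e => Subtype.ext (Subtype.ext (congrArg (fun w : zpowers y => (w : G)) e))) ?_
    rw [Nat.card_zpowers, hy]
  have hr : Nat.card (normalizerMonoidHom (zpowers y)).range ≤ 6 := by
    refine le_trans (Nat.card_le_card_of_injective _ Subtype.val_injective) ?_
    rw [IsCyclic.card_mulAut, Nat.card_zpowers, hy, Nat.totient_prime Nat.prime_seven]
  have h := Subgroup.card_mul_index (normalizerMonoidHom (zpowers y)).ker
  rw [Subgroup.index_ker] at h
  change _ = Nat.card N at h
  nlinarith

/-- In a simple group of order 6048 the outer part of a group acting faithfully contains no element of order 14. -/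
theorem no_fourteen [Fintype G] {T : Subgroup G} [T.Normal] (hT : Hyp T)
    (hC : centralizer (T : Set G) = ⊥) {x : G} (hx : orderOf x = 14) (hxT : x ^ 2 ∈ T) : False := by
  have : Fact (Nat.Prime 7) := ⟨Nat.prime_seven⟩
  have : Fact (Nat.Prime 3) := ⟨Nat.prime_three⟩
  have := hT.simple
  obtain ⟨a, b, c, S⟩ := exists_ctx hT
  set y : T := ⟨x ^ 2, hxT⟩ with hy_def
  have hy : orderOf y = 7 := by
    rw [← Subgroup.orderOf_coe, hy_def]
    show orderOf (x ^ 2) = 7
    rw [orderOf_pow' x two_ne_zero, hx]
    norm_num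
  set s := x ^ 7 with hs_def
  have hs : s * s = 1 := by
    rw [hs_def, ← pow_add, show 7 + 7 = orderOf x by rw [hx], pow_orderOf_eq_one]
  have hs1 : s ≠ 1 := fun e => by
    have := orderOf_dvd_of_pow_eq_one (show x ^ 7 = 1 from e)
    rw [hx] at this
    norm_num at this
  let α : MulAut T := MulAut.conjNormal s
  have hα : ∀ t : T, ((α t : T) : G) = s * (t : G) * s⁻¹ := fun t => MulAut.conjNormal_apply s t
  have hαy : α y = y := by
    refine Subtype.ext ?_
    rw [hα]
    show s * x ^ 2 * s⁻¹ = x ^ 2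
    rw [mul_inv_eq_iff_eq_mul, hs_def, ← pow_add, ← pow_add, add_comm]
  have hαα : ∀ t : T, α (α t) = t := fun t => Subtype.ext (by
    rw [hα, hα, show s * (s * (t : G) * s⁻¹) * s⁻¹ = s * s * (t : G) * (s * s)⁻¹ by group, hs]; group)
  have hself : ∀ g : T, g * y = y * g → g ∈ zpowers y := fun g hg =>
    self_centralizing (n := 864) hT.card (by norm_num) (by norm_num) (fun g => ⟨(hT.no g).2.1, (hT.no g).2.2⟩) hy hg
  -- an element of order three normalising the subgroup of order seven
  obtain ⟨u, hu, huy⟩ : ∃ u : T, orderOf u = 3 ∧ u ∈ normalizer (zpowers y : Set T) := by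
    let P : Sylow 7 T := Sylow.ofCard (zpowers y) (by
      rw [Nat.card_zpowers, hy, hT.card, show (6048 : ℕ) = 7 * 864 by norm_num,
        Nat.factorization_mul (by norm_num) (by norm_num), Finsupp.add_apply, Nat.Prime.factorization_self Nat.prime_seven,
        Nat.factorization_eq_zero_of_not_dvd (show ¬ 7 ∣ 864 by norm_num), add_zero, pow_one])
    have h1 := normalizer_le hy hself
    have h2 : Nat.card (normalizer (zpowers y : Set T)) * Nat.card (Sylow 7 T) = 6048 := by
      rw [P.card_eq_index_normalizer, ← hT.card]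
      exact Subgroup.card_mul_index _
    have h3 : Nat.card (Sylow 7 T) % 7 = 1 % 7 := card_sylow_modEq_one 7 T
    have h4 : Nat.card (Sylow 7 T) ∣ 864 := by
      have h5 := P.card_dvd_index
      have h6 := (zpowers y).card_mul_index
      rw [Nat.card_zpowers, hy, hT.card] at h6
      have h7 : (P : Subgroup T).index = 864 := by
        show (zpowers y).index = 864
        omega
      rwa [h7] at h5
    have h7 : Nat.card (normalizer (zpowers y : Set T)) = 21 := by
      rcases seven_divisors' _ (Nat.mem_divisors.2 ⟨h4, by norm_num⟩) h3 with e | e | e | e <;>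
        rw [e] at h2 <;> omega
    obtain ⟨u, hu⟩ := exists_prime_orderOf_dvd_card' (G := normalizer (zpowers y : Set T)) 3 (by rw [h7]; norm_num)
    exact ⟨u, by rw [Subgroup.orderOf_coe, hu], u.2⟩
  have hαu : α u = u := by
    have h1 : u * y * u⁻¹ ∈ zpowers y := (mem_normalizer_iff.1 huy y).1 (mem_zpowers y)
    obtain ⟨j, hj⟩ := mem_zpowers_iff.1 h1
    have h2 : α u * y * (α u)⁻¹ = u * y * u⁻¹ := by
      nth_rewrite 1 [← hαy]
      rw [← map_inv, ← map_mul, ← map_mul, ← hj, map_zpow, hαy]
    have h3 : (u⁻¹ * α u) * y = y * (u⁻¹ * α u) := by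
      calc u⁻¹ * α u * y = u⁻¹ * (α u * y * (α u)⁻¹) * α u := by group
        _ = y * (u⁻¹ * α u) := by rw [h2]; group
    obtain ⟨i, hi⟩ := mem_zpowers_iff.1 (hself _ h3)
    have h4 : α u = u * y ^ i := by rw [hi]; group
    have h5 : u = u * y ^ i * y ^ i := by
      conv_lhs => rw [← hαα u, h4, map_mul, h4, map_zpow, hαy]
    rw [mul_assoc, left_eq_mul, ← zpow_add, ← orderOf_dvd_iff_zpow_eq_one, hy] at h5
    have h6 : y ^ i = 1 := by
      rw [← orderOf_dvd_iff_zpow_eq_one, hy]
      omega
    rw [h4, h6, mul_one]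
  -- the fixed Sylow subgroups
  obtain ⟨W0, hW0⟩ := (IsPGroup.of_card (p := 3) (n := 1) (G := zpowers u)
    (by rw [Nat.card_zpowers, hu, pow_one])).exists_le_sylow
  have huW : u ∈ (W0 : Subgroup T) := hW0 (mem_zpowers u)
  have hu1 : u ≠ 1 := fun e => by rw [e, orderOf_one] at hu; omega
  have mem_smul' : ∀ (W : Sylow 3 T) (t : T), t ∈ (W : Subgroup T) → α t ∈ ((α • W : Sylow 3 T) : Subgroup T) := by
    intro W t ht
    rw [Sylow.pointwise_smul_def]
    exact Subgroup.smul_mem_pointwise_smul t α (W : Subgroup T) ht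
  have hW0fix : α • W0 = W0 := (S.ti (U := α • W0) (V := W0) (by
    have := mem_smul' W0 u huW
    rwa [hαu] at this) huW hu1)
  have hcomm : ∀ (t : T) (W : Sylow 3 T), α • (t • W) = α t • (α • W) := by
    intro t W
    refine Sylow.ext ?_
    rw [Sylow.pointwise_smul_def, Sylow.coe_subgroup_smul, Sylow.coe_subgroup_smul, Sylow.pointwise_smul_def,
      ← mul_smul, ← mul_smul]
    congr 1
    refine MulEquiv.ext fun w => ?_
    show α (t * w * t⁻¹) = α t * α w * (α t)⁻¹
    simp
  set Φ := (Finset.univ : Finset (Sylow 3 T)).filter fun W => α • W = W with hΦ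
  have hmove : y • W0 ≠ W0 := by
    intro e
    have h1 := Subgroup.orderOf_dvd_natCard _ ((fix_mem W0).1 e)
    have h2 : Nat.card (normalizer ((W0 : Subgroup T) : Set T)) = 216 := by
      have h3 := W0.card_eq_index_normalizer
      have h4 := (normalizer ((W0 : Subgroup T) : Set T)).card_mul_index
      rw [S.card_sylow W0] at h3
      have h3' : (normalizer ((W0 : Subgroup T) : Set T)).index = 28 := h3.symm
      rw [hT.card, h3'] at h4
      omega
    rw [hy, h2] at h1
    norm_num at h1
  have hfix : ∀ U V : Sylow 3 T, U ≠ V → α • U = U → α • V = V →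
      (∀ t ∈ (U : Subgroup T), α t = t) ∨ ¬ 7 ∣ Φ.card := by
    intro U V hne hU hV
    let R : Subgroup T := (U : Subgroup T) ⊓ (α.toMonoidHom.eqLocus (MonoidHom.id T))
    have hcard : Φ.card = 1 + Nat.card R := by
      have h1 : (Φ.erase U).card = Nat.card R := by
        rw [← Nat.card_eq_finsetCard]
        refine (Nat.card_congr (Equiv.ofBijective (fun r : R => (⟨(r : T) • V, Finset.mem_erase.2
          ⟨fun e => hne (MulAction.injective (r : T) ((S.smul_self r.2.1).trans e.symm)),
            Finset.mem_filter.2 ⟨Finset.mem_univ _, by rw [hcomm, show α (r : T) = r from r.2.2, hV]⟩⟩⟩ :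
              {W // W ∈ Φ.erase U})) ⟨?_, ?_⟩)).symm
        · intro p q e
          have e' : (p : T) • V = (q : T) • V := congrArg Subtype.val e
          have := S.free hne (mul_mem (inv_mem q.2.1) p.2.1) (by rw [mul_smul, e', inv_smul_smul])
          exact Subtype.ext (inv_mul_eq_one.1 this).symm
        · rintro ⟨W, hW⟩
          obtain ⟨h1, h2⟩ := Finset.mem_erase.1 hW
          obtain ⟨t, ht, htW⟩ := S.regular hne h1
          have h3 : α t • V = W := by
            have h4 := (Finset.mem_filter.1 h2).2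
            rwa [← htW, hcomm, hV, htW] at h4
          have h4 : α t ∈ (U : Subgroup T) := hU ▸ mem_smul' U t ht
          have h5 := S.free hne (mul_mem (inv_mem ht) h4) (by rw [mul_smul, h3, ← htW, inv_smul_smul])
          exact ⟨⟨t, ht, (inv_mul_eq_one.1 h5).symm⟩, Subtype.ext htW⟩
      have hUΦ : U ∈ Φ := Finset.mem_filter.2 ⟨Finset.mem_univ U, hU⟩
      have h2 := Finset.card_erase_add_one hUΦ
      omega
    by_cases hR : R = (U : Subgroup T)
    · exact Or.inl fun t ht => (hR.symm ▸ ht : t ∈ R).2
    · refine Or.inr fun h7 => ?_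
      have hd : Nat.card R ∣ 3 ^ 3 := by
        have := card_dvd_of_le (inf_le_left : R ≤ (U : Subgroup T))
        rwa [S.card_sylow_three U] at this
      obtain ⟨e, he, heR⟩ := (Nat.dvd_prime_pow Nat.prime_three).1 hd
      have hne3 : e ≠ 3 := fun h => hR (eq_of_le_of_card_ge inf_le_left (by
        rw [S.card_sylow_three U, heR, h]; norm_num))
      rw [hcard, heR] at h7
      rcases (show e = 0 ∨ e = 1 ∨ e = 2 by omega) with rfl | rfl | rfl <;> norm_num at h7
  have h7 : 7 ∣ Φ.card := by
    letI : MulAction (zpowers y) {W // W ∈ Φ} :=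
      { smul := fun g W => ⟨(g : T) • W.1, Finset.mem_filter.2 ⟨Finset.mem_univ _, by
          obtain ⟨j, hj⟩ := mem_zpowers_iff.1 g.2
          rw [hcomm, (Finset.mem_filter.1 W.2).2, ← hj, map_zpow, hαy]⟩⟩
        one_smul := fun W => Subtype.ext (one_smul T W.1)
        mul_smul := fun g g' W => Subtype.ext (mul_smul (g : T) (g' : T) W.1) }
    have hP : IsPGroup 7 (zpowers y) := IsPGroup.of_card (n := 1) (by rw [Nat.card_zpowers, hy, pow_one])
    have h := hP.card_modEq_card_fixedPoints {W // W ∈ Φ}
    have h0 : Nat.card (MulAction.fixedPoints (zpowers y) {W // W ∈ Φ}) = 0 := by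
      rw [Nat.card_eq_zero]
      refine Or.inl ⟨fun W => ?_⟩
      have h1 : y • W.1.1 = W.1.1 := congrArg Subtype.val (W.2 ⟨y, mem_zpowers y⟩)
      have h2 := Subgroup.orderOf_dvd_natCard _ ((fix_mem W.1.1).1 h1)
      have h3 : Nat.card (normalizer ((W.1.1 : Subgroup T) : Set T)) = 216 := by
        have h3 := W.1.1.card_eq_index_normalizer
        have h4 := (normalizer ((W.1.1 : Subgroup T) : Set T)).card_mul_index
        rw [S.card_sylow W0] at h3
        have h3' : (normalizer ((W.1.1 : Subgroup T) : Set T)).index = 28 := h3.symm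
        rw [hT.card, h3'] at h4
        omega
      rw [hy, h3] at h2
      norm_num at h2
    rw [h0, Nat.card_eq_finsetCard] at h
    exact Nat.modEq_zero_iff_dvd.1 h
  have hyW : α • (y • W0) = y • W0 := by rw [hcomm, hαy, hW0fix]
  have hpt := (hfix W0 (y • W0) (Ne.symm hmove) hW0fix hyW).resolve_right (not_not.2 h7)
  have hall : ∀ W : Sylow 3 T, α • W = W := by
    intro W
    by_cases hW : W = W0
    · rw [hW]; exact hW0fix
    · obtain ⟨t, ht, rfl⟩ := S.regular (Ne.symm hmove) hW
      rw [hcomm, hpt t ht, hyW]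
  have hid : ∀ t : T, α t = t := by
    intro t
    obtain ⟨U, V, x₁, y₁, z₁, k₁, g⟩ := S.exists_gens
    refine g.pi_injective (Equiv.ext fun i => ?_)
    apply g.pt_bijective.1
    rw [g.pt_pi, g.pt_pi]
    have := hcomm t (g.pt i)
    rwa [hall, hall, eq_comm] at this
  have hsC : s ∈ centralizer (T : Set G) := mem_centralizer_iff.2 fun t ht => by
    have e := congrArg Subtype.val (hid ⟨t, ht⟩)
    rw [hα] at e
    exact (mul_inv_eq_iff_eq_mul.1 e).symm
  rw [hC, mem_bot] at hsC
  exact hs1 hsC

/-- A group of order 12096 without elements of order 9, 14 or 21 is almost simple. -/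
theorem exists_socle [Finite G] (hG : Nat.card G = 12096)
    (hno : ∀ g : G, orderOf g ≠ 9 ∧ orderOf g ≠ 14 ∧ orderOf g ≠ 21) :
    ∃ T : Subgroup G, T.Normal ∧ Hyp T ∧ centralizer (T : Set G) = ⊥ := by
  have : Fact (Nat.Prime 7) := ⟨Nat.prime_seven⟩
  have : Fact (Nat.Prime 2) := ⟨Nat.prime_two⟩
  obtain ⟨y, hy⟩ := exists_prime_orderOf_dvd_card' (G := G) 7 (by rw [hG]; norm_num)
  have hself : ∀ g : G, g * y = y * g → g ∈ zpowers y := fun g hg =>
    self_centralizing (n := 1728) hG (by norm_num) dvd_rfl (fun g => ⟨(hno g).2.1, (hno g).2.2⟩) hy hg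
  let P : Sylow 7 G := Sylow.ofCard (zpowers y) (by
    rw [Nat.card_zpowers, hy, hG, show (12096 : ℕ) = 7 * 1728 by norm_num,
      Nat.factorization_mul (by norm_num) (by norm_num), Finsupp.add_apply, Nat.Prime.factorization_self Nat.prime_seven,
      Nat.factorization_eq_zero_of_not_dvd (show ¬ 7 ∣ 1728 by norm_num), add_zero, pow_one])
  have hPy : (P : Subgroup G) = zpowers y := rfl
  have hn : Nat.card (Sylow 7 G) = 288 := by
    have h1 := normalizer_le hy hself
    have h2 : Nat.card (normalizer (zpowers y : Set G)) * Nat.card (Sylow 7 G) = 12096 := by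
      rw [P.card_eq_index_normalizer, ← hG]
      exact Subgroup.card_mul_index _
    have h3 : Nat.card (Sylow 7 G) % 7 = 1 % 7 := card_sylow_modEq_one 7 G
    have h4 : Nat.card (Sylow 7 G) ∣ 1728 := by
      have h5 := P.card_dvd_index
      have h6 := (zpowers y).card_mul_index
      rw [Nat.card_zpowers, hy, hG] at h6
      rwa [show (P : Subgroup G).index = 1728 by rw [hPy]; omega] at h5
    rcases seven_divisors _ (Nat.mem_divisors.2 ⟨h4, by norm_num⟩) h3 with e | e | e | e | e
    all_goals first | exact e | (rw [e] at h2; omega)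
  -- a subgroup containing the Sylow subgroup, its count
  have hcount : ∀ H : Subgroup G, H.Normal → y ∈ H → 7 * 288 ≤ Nat.card H := by
    intro H hH hyH
    have hall : ∀ Q : Sylow 7 G, (Q : Subgroup G) ≤ H := by
      intro Q
      obtain ⟨g, rfl⟩ := MulAction.exists_smul_eq G P Q
      rw [Sylow.coe_subgroup_smul]
      rintro _ ⟨w, hw, rfl⟩
      exact hH.conj_mem w (zpowers_le.2 hyH (hPy ▸ hw)) g
    have hinj : Function.Injective (fun Q : Sylow 7 G => Q.subtype (hall Q)) := fun Q Q' e =>
      Sylow.subtype_injective e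
    have h1 := Nat.card_le_card_of_injective _ hinj
    rw [hn] at h1
    obtain ⟨Q⟩ : Nonempty (Sylow 7 H) := inferInstance
    have h2 := Nat.le_of_dvd (Nat.pos_of_ne_zero Subgroup.index_ne_zero_of_finite) Q.card_dvd_index
    have h3 := (Q : Subgroup H).card_mul_index
    have h4 : 7 ≤ Nat.card (Q : Subgroup H) := Nat.le_of_dvd Nat.card_pos (Q.dvd_card_of_dvd_card (by
      rw [← hy]; exact Subgroup.orderOf_dvd_natCard H hyH))
    nlinarith
  -- normal subgroups of order prime to seven
  have hsmall : ∀ K : Subgroup G, K.Normal → ¬ 7 ∣ Nat.card K →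
      Nat.card K = 1 ∨ Nat.card K = 8 ∨ Nat.card K = 64 := by
    intro K hK h7
    have hyK : y ∉ K := fun h => h7 (hy ▸ Subgroup.orderOf_dvd_natCard K h)
    have hm := card_mod_seven hy hself K (by rw [normalizer_eq_top (h := hK)]; exact mem_top _) hyK
    have hd : Nat.card K ∣ 1728 := ((Nat.prime_seven.coprime_iff_not_dvd.2 h7).symm).dvd_of_dvd_mul_left
      (show Nat.card K ∣ 7 * 1728 from (card_subgroup_dvd_card K).trans (dvd_of_eq hG))
    have h2part : ¬ (Nat.card K = 36 ∨ Nat.card K = 288) := by
      intro hKc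
      obtain ⟨S⟩ : Nonempty (Sylow 2 K) := inferInstance
      set H := (S : Subgroup K).map K.subtype
      have hs : Nat.card H = 4 ∨ Nat.card H = 32 := by
        rw [card_map_of_injective (subtype_injective _), S.card_eq_multiplicity]
        rcases hKc with e | e <;> rw [e]
        · left
          rw [show (36 : ℕ) = 2 ^ 2 * 9 by norm_num, Nat.factorization_mul (by norm_num) (by norm_num), Finsupp.add_apply,
            Nat.Prime.factorization_pow Nat.prime_two, Finsupp.single_eq_same,
            Nat.factorization_eq_zero_of_not_dvd (show ¬ 2 ∣ 9 by norm_num)]; norm_num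
        · right
          rw [show (288 : ℕ) = 2 ^ 5 * 9 by norm_num, Nat.factorization_mul (by norm_num) (by norm_num), Finsupp.add_apply,
            Nat.Prime.factorization_pow Nat.prime_two, Finsupp.single_eq_same,
            Nat.factorization_eq_zero_of_not_dvd (show ¬ 2 ∣ 9 by norm_num)]; norm_num
      have htop := Sylow.normalizer_sup_eq_top S
      have h7N : 7 ∣ Nat.card (normalizer (H : Set G)) := by
        have hq : ∀ g : G, ∃ k ∈ K, ∃ n ∈ normalizer (H : Set G), n * k = g := by
          intro g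
          have hg : g ∈ normalizer (H : Set G) ⊔ K := htop ▸ mem_top g
          obtain ⟨n, hn', k, hk, e⟩ := Subgroup.mem_sup_of_normal_right.1 hg
          exact ⟨k, hk, n, hn', e⟩
        obtain ⟨k, hk, n, hnm, e⟩ := hq y
        let f : normalizer (H : Set G) →* G ⧸ K := (QuotientGroup.mk' K).comp (normalizer (H : Set G)).subtype
        have hord : orderOf (f ⟨n, hnm⟩) = 7 := by
          refine orderOf_eq_prime ?_ ?_
          · rw [← map_pow]
            show ((n ^ 7 : G) : G ⧸ K) = 1
            have hk1 : ((k : G) : G ⧸ K) = 1 := (QuotientGroup.eq_one_iff k).2 hk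
            rw [QuotientGroup.mk_pow, show (n : G ⧸ K) = ((y : G) : G ⧸ K) by rw [← e, QuotientGroup.mk_mul, hk1, mul_one],
              ← QuotientGroup.mk_pow, ← hy, pow_orderOf_eq_one, QuotientGroup.mk_one]
          · intro h1
            refine hyK ?_
            rw [← e]
            exact mul_mem ((QuotientGroup.eq_one_iff n).1 h1) hk
        exact hord ▸ (orderOf_map_dvd f _).trans (orderOf_dvd_natCard _)
      obtain ⟨v, hv⟩ := exists_prime_orderOf_dvd_card' (G := normalizer (H : Set G)) 7 h7N
      have hvo : orderOf (v : G) = 7 := by rw [Subgroup.orderOf_coe, hv]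
      have hvH : (v : G) ∉ H := fun h => by
        have := hvo ▸ Subgroup.orderOf_dvd_natCard H h
        rcases hs with e | e <;> rw [e] at this <;> norm_num at this
      have := card_mod_seven hvo (fun g hg => self_centralizing (n := 1728) hG (by norm_num) dvd_rfl
        (fun g => ⟨(hno g).2.1, (hno g).2.2⟩) hvo hg) H v.2 hvH
      rcases hs with e | e <;> rw [e] at this <;> omega
    rcases seven_divisors _ (Nat.mem_divisors.2 ⟨hd, by norm_num⟩) hm with e | e | e | e | e
    · exact Or.inl e
    · exact Or.inr (Or.inl e)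
    · exact absurd (Or.inl e) h2part
    · exact Or.inr (Or.inr e)
    · exact absurd (Or.inr e) h2part
  -- there are none
  have hcore : ∀ K : Subgroup G, K.Normal → ¬ 7 ∣ Nat.card K → Nat.card K = 1 := by
    intro K hK h7
    rcases hsmall K hK h7 with e | e | e
    · exact e
    · exfalso
      letI : MulAction G {k : K // k ≠ 1} :=
        { smul := fun g k => ⟨⟨g * k.1 * g⁻¹, hK.conj_mem _ k.1.2 g⟩, fun h => k.2 (Subtype.ext (conj_eq_one_iff.1 (congrArg Subtype.val h)))⟩
          one_smul := fun k => Subtype.ext (Subtype.ext (show (1 : G) * k.1 * 1⁻¹ = k.1 by group))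
          mul_smul := fun g g' k => Subtype.ext (Subtype.ext (show g * g' * k.1 * (g * g')⁻¹ = g * (g' * k.1 * g'⁻¹) * g⁻¹ by group)) }
      let f : G →* Equiv.Perm {k : K // k ≠ 1} := MulAction.toPermHom G _
      have hcp : Nat.card {k : K // k ≠ 1} = 7 := by
        have := Fintype.ofFinite K
        rw [Nat.card_eq_fintype_card, Fintype.card_subtype_compl, Fintype.card_subtype_eq, ← Nat.card_eq_fintype_card, e]
      have hker7 : ¬ 7 ∣ Nat.card f.ker := by
        intro h
        obtain ⟨v, hv⟩ := exists_prime_orderOf_dvd_card' (G := f.ker) 7 h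
        have hvo : orderOf (v : G) = 7 := by rw [Subgroup.orderOf_coe, hv]
        obtain ⟨⟨k, hk1⟩⟩ : Nonempty {k : K // k ≠ 1} := (Nat.card_pos_iff.1 (by omega)).1
        have h1 := Equiv.congr_fun (MonoidHom.mem_ker.1 v.2) ⟨k, hk1⟩
        have h2 : (v : G) * (k : G) * (v : G)⁻¹ = k := congrArg (fun w : {k : K // k ≠ 1} => ((w.1 : K) : G)) h1
        have h3 := self_centralizing (n := 1728) hG (by norm_num) dvd_rfl (fun g => ⟨(hno g).2.1, (hno g).2.2⟩) hvo
          (g := (k : G)) (mul_inv_eq_iff_eq_mul.1 h2).symm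
        have h4 : orderOf (k : G) ∣ 7 := hvo ▸ orderOf_dvd_of_mem_zpowers h3
        have h5 : orderOf (k : G) ∣ 8 := e ▸ Subgroup.orderOf_dvd_natCard K k.2
        exact hk1 (Subtype.ext (orderOf_eq_one_iff.1 (Nat.dvd_one.1 (Nat.dvd_gcd h4 h5))))
      have h5 := Subgroup.card_mul_index f.ker
      rw [Subgroup.index_ker, hG] at h5
      have h6 : Nat.card f.range ∣ 5040 := by
        refine (card_subgroup_dvd_card f.range).trans ?_
        rw [Nat.card_perm, hcp]; norm_num [Nat.factorial]
      rcases hsmall f.ker (MonoidHom.normal_ker f) hker7 with e' | e' | e' <;> rw [e'] at h5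
      · rw [show Nat.card f.range = 12096 by omega] at h6; norm_num at h6
      · rw [show Nat.card f.range = 1512 by omega] at h6; norm_num at h6
      · rw [show Nat.card f.range = 189 by omega] at h6; norm_num at h6
    · exfalso
      have := hK
      let q : G →* G ⧸ K := QuotientGroup.mk' K
      have hQ : Nat.card (G ⧸ K) = 189 := by
        have := K.card_eq_card_quotient_mul_card_subgroup
        rw [hG, e] at this; omega
      have h1 : Nat.card (Sylow 7 (G ⧸ K)) = 1 := by
        obtain ⟨Q⟩ : Nonempty (Sylow 7 (G ⧸ K)) := inferInstance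
        have h3 : Nat.card (Sylow 7 (G ⧸ K)) % 7 = 1 % 7 := card_sylow_modEq_one 7 _
        have h4 := Q.card_dvd_index
        have h5 := (Q : Subgroup (G ⧸ K)).card_mul_index
        have h6 : Nat.card (Q : Subgroup (G ⧸ K)) = 7 := by
          rw [Q.card_eq_multiplicity, hQ, show (189 : ℕ) = 7 * 27 by norm_num,
            Nat.factorization_mul (by norm_num) (by norm_num), Finsupp.add_apply, Nat.Prime.factorization_self Nat.prime_seven,
            Nat.factorization_eq_zero_of_not_dvd (show ¬ 7 ∣ 27 by norm_num), add_zero, pow_one]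
        rw [h6, hQ] at h5
        have h7 : (Q : Subgroup (G ⧸ K)).index = 27 := by omega
        rw [h7] at h4
        exact (show ∀ n ∈ Nat.divisors 27, n % 7 = 1 → n = 1 by decide +kernel) _ (Nat.mem_divisors.2 ⟨h4, by norm_num⟩) h3
      obtain ⟨Q⟩ : Nonempty (Sylow 7 (G ⧸ K)) := inferInstance
      have := (Nat.card_eq_one_iff_unique.1 h1).1
      have hQn := Sylow.normal_of_subsingleton (P := Q)
      have hQ7 : Nat.card (Q : Subgroup (G ⧸ K)) = 7 := by
        rw [Q.card_eq_multiplicity, hQ, show (189 : ℕ) = 7 * 27 by norm_num,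
          Nat.factorization_mul (by norm_num) (by norm_num), Finsupp.add_apply, Nat.Prime.factorization_self Nat.prime_seven,
          Nat.factorization_eq_zero_of_not_dvd (show ¬ 7 ∣ 27 by norm_num), add_zero, pow_one]
      set H := (Q : Subgroup (G ⧸ K)).comap q with hH
      have hHn : H.Normal := Normal.comap hQn q
      have hyH : y ∈ H := by
        have ho : orderOf (q y) ∣ 7 := hy ▸ orderOf_map_dvd q y
        obtain ⟨Q', hQ'⟩ := (IsPGroup.iff_card.2 ((Nat.dvd_prime_pow Nat.prime_seven).1 (show Nat.card (zpowers (q y)) ∣ 7 ^ 1 by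
          rw [Nat.card_zpowers, pow_one]; exact ho) |>.imp fun _ h => h.2)).exists_le_sylow
        rw [Subsingleton.elim Q' Q] at hQ'
        exact hQ' (mem_zpowers _)
      have hc := hcount H hHn hyH
      have hi : H.index = 27 := by
        rw [hH, Subgroup.index_comap_of_surjective _ (QuotientGroup.mk'_surjective K)]
        have := (Q : Subgroup (G ⧸ K)).card_mul_index
        rw [hQ, hQ7] at this; omega
      have := H.card_mul_index
      rw [hi, hG] at this; omega
  -- the subgroup generated by the elements of order seven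
  set T := Subgroup.normalClosure ({y} : Set G) with hT
  have hTn : T.Normal := Subgroup.normalClosure_normal
  have hyT : y ∈ T := Subgroup.subset_normalClosure rfl
  have hTall : ∀ Q : Sylow 7 G, (Q : Subgroup G) ≤ T := by
    intro Q
    obtain ⟨g, rfl⟩ := MulAction.exists_smul_eq G P Q
    rw [Sylow.coe_subgroup_smul]
    rintro _ ⟨w, hw, rfl⟩
    exact hTn.conj_mem w (zpowers_le.2 hyT (hPy ▸ hw)) g
  have hTsimple : IsSimpleGroup T := by
    have : Nontrivial T := ⟨⟨⟨y, hyT⟩, 1, fun e => by
      have := congrArg Subtype.val e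
      rw [show y = (1 : G) from this, orderOf_one] at hy
      omega⟩⟩
    refine ⟨fun N hN => ?_⟩
    by_cases h7 : 7 ∣ Nat.card N
    · right
      obtain ⟨v, hv⟩ := exists_prime_orderOf_dvd_card' (G := N) 7 h7
      have hvo : orderOf (((v : T) : G)) = 7 := by rw [Subgroup.orderOf_coe, Subgroup.orderOf_coe, hv]
      -- all Sylow subgroups of `T` lie in `N`
      have hTP : ∀ Q : Sylow 7 T, (Q : Subgroup T) ≤ N := by
        obtain ⟨R, hR⟩ := (IsPGroup.of_card (p := 7) (n := 1) (G := zpowers (v : T))
          (by rw [Nat.card_zpowers, Subgroup.orderOf_coe, hv, pow_one])).exists_le_sylow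
        have hRc : Nat.card (R : Subgroup T) ≤ 7 := by
          obtain ⟨i, hi⟩ := IsPGroup.iff_card.1 R.2
          have h2 : 7 ^ i ∣ 12096 := hi ▸ (card_subgroup_dvd_card _).trans (hG ▸ card_subgroup_dvd_card T)
          rcases Nat.lt_or_ge i 2 with h | h
          · rw [hi]; exact (Nat.pow_le_pow_right (by norm_num) (show i ≤ 1 by omega)).trans (by norm_num)
          · exact absurd ((pow_dvd_pow 7 h).trans h2) (by norm_num)
        have hRN : (R : Subgroup T) ≤ N := by
          rw [← eq_of_le_of_card_ge hR (by rw [Nat.card_zpowers, Subgroup.orderOf_coe, hv]; exact hRc)]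
          exact zpowers_le.2 v.2
        intro Q
        obtain ⟨g, rfl⟩ := MulAction.exists_smul_eq T R Q
        rw [Sylow.coe_subgroup_smul]
        rintro _ ⟨w, hw, rfl⟩
        exact hN.conj_mem w (hRN hw) g
      refine eq_top_iff.2 fun t _ => ?_
      have hle : T ≤ N.map T.subtype := by
        have hc : ∀ g : G, g * y * g⁻¹ ∈ N.map T.subtype := fun g => by
          obtain ⟨Q, hQ⟩ := (IsPGroup.of_card (p := 7) (n := 1) (G := zpowers (⟨g * y * g⁻¹, hTn.conj_mem y hyT g⟩ : T))
            (by rw [Nat.card_zpowers, ← Subgroup.orderOf_coe, pow_one]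
                exact ((MulEquiv.orderOf_eq (MulAut.conj g) y).trans hy))).exists_le_sylow
          exact ⟨_, hTP Q (hQ (mem_zpowers _)), rfl⟩
        intro t ht
        refine (Subgroup.closure_le _).2 ?_ (show t ∈ Subgroup.closure (Group.conjugatesOfSet {y}) from ht)
        intro w hw
        obtain ⟨y', rfl, hw'⟩ := Group.mem_conjugatesOfSet_iff.1 hw
        obtain ⟨g, rfl⟩ := isConj_iff.1 hw'
        exact hc g
      obtain ⟨t', ht', e⟩ := hle t.2
      exact (Subtype.ext e : t' = t) ▸ ht'
    · left
      have hle : N ≤ Cfsg.pPrimeCore 7 T :=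
        Cfsg.Lib.Components.le_pPrimeCore (Nat.prime_seven.coprime_iff_not_dvd.2 h7).symm
      set K := (Cfsg.pPrimeCore 7 ↥T).map T.subtype with hKdef
      have hKn : K.Normal := ConjAct.normal_of_characteristic_of_normal
      have hKc : Nat.card K = 1 := by
        refine hcore K hKn ?_
        rw [hKdef, card_map_of_injective (subtype_injective _)]
        exact Nat.prime_seven.coprime_iff_not_dvd.1 (Cfsg.Lib.Components.coprime_card_pPrimeCore 7).symm
      rw [hKdef, card_map_of_injective (subtype_injective _)] at hKc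
      exact le_bot_iff.1 (hle.trans (eq_bot_of_card_eq _ hKc).le)
  have hTd : Nat.card T ∣ 12096 := hG ▸ card_subgroup_dvd_card T
  have hTno : ∀ g : T, orderOf g ≠ 9 ∧ orderOf g ≠ 14 ∧ orderOf g ≠ 21 := fun g => by
    rw [← Subgroup.orderOf_coe]; exact hno _
  have hTG : centralizer (T : Set G) = ⊥ := by
    rw [eq_bot_iff]
    intro g hg
    have hgy : g ∈ zpowers y := hself g (mem_centralizer_iff.1 hg y hyT).symm
    by_contra hne
    rw [mem_bot] at hne
    have hmem : (⟨g, zpowers_le.2 hyT hgy⟩ : T) ∈ Subgroup.center T := Subgroup.mem_center_iff.2 fun t =>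
      Subtype.ext (mem_centralizer_iff.1 hg t t.2)
    rcases (inferInstance : (Subgroup.center T).Normal).eq_bot_or_eq_top with h | h
    · rw [h, mem_bot] at hmem
      exact hne (congrArg Subtype.val hmem)
    · have : ∀ t : T, (t : G) ∈ zpowers y := fun t => hself t <| by
        have := Subgroup.mem_center_iff.1 (h ▸ mem_top t : t ∈ Subgroup.center T) ⟨y, hyT⟩
        exact congrArg Subtype.val this.symm
      have h7 := hcount T hTn hyT
      have := card_le_of_le (show T ≤ zpowers y from fun t ht => this ⟨t, ht⟩)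
      rw [Nat.card_zpowers, hy] at this
      omega
  have hcyc : ¬ IsCyclic T := by
    intro hc
    let _ : CommGroup T := IsCyclic.commGroup
    have hp : (Nat.card T).Prime := IsSimpleGroup.prime_card
    have h7 : 7 ∣ Nat.card T := hy ▸ Subgroup.orderOf_dvd_natCard T hyT
    have := (Nat.prime_dvd_prime_iff_eq Nat.prime_seven hp).1 h7
    have := hcount T hTn hyT
    omega
  have h288 : 2016 ∣ Nat.card T := by
    have hinj : Function.Bijective (fun Q : Sylow 7 G => Q.subtype (hTall Q)) := by
      refine ⟨fun Q Q' e => Sylow.subtype_injective e, fun R => ?_⟩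
      obtain ⟨Q, hQ⟩ := (R.2.map T.subtype).exists_le_sylow
      refine ⟨Q, Sylow.ext (R.3 (Q.2.comap_of_injective _ (subtype_injective T)) ?_).symm.symm⟩
      exact fun w hw => hQ ⟨w, hw, rfl⟩
    obtain ⟨Q⟩ : Nonempty (Sylow 7 T) := inferInstance
    have hQ7 : 7 ∣ Nat.card (Q : Subgroup T) :=
      Q.dvd_card_of_dvd_card (hy ▸ Subgroup.orderOf_dvd_natCard T hyT)
    have h1 := Q.card_dvd_index
    rw [← Nat.card_congr (Equiv.ofBijective _ hinj), hn] at h1
    rw [← (Q : Subgroup T).card_mul_index]
    exact (show 2016 = 7 * 288 by norm_num) ▸ Nat.mul_dvd_mul hQ7 h1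
  obtain ⟨m, hm⟩ := h288
  have hm6 : m ∈ Nat.divisors 6 := Nat.mem_divisors.2
    ⟨Nat.dvd_of_mul_dvd_mul_left (k := 2016) (by norm_num) (by rw [← hm]; exact hTd), by norm_num⟩
  refine ⟨T, hTn, ⟨hTsimple, ?_, hTno⟩, hTG⟩
  rcases (show m = 1 ∨ m = 2 ∨ m = 3 ∨ m = 6 by
    exact (show ∀ m ∈ Nat.divisors 6, m = 1 ∨ m = 2 ∨ m = 3 ∨ m = 6 by decide) m hm6) with rfl | rfl | rfl | rfl
  · exfalso
    haveI := hTsimple
    have := Fintype.ofFinite T
    exact Blocks.DegreeEquation.false_of_check hcyc 7 288 45 (by rw [hm]) (by norm_num) (by norm_num) check_part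
  · exfalso
    haveI := hTsimple
    exact Cfsg.Agent.S0976.result (G := T) (by rw [hm])
  · rw [hm]
  · exfalso
    haveI := hTsimple
    have := Fintype.ofFinite T
    have hns : Nat.card (Sylow 7 T) = 288 := by
      rw [← hn]
      exact (Nat.card_congr (Equiv.ofBijective (fun Q : Sylow 7 G => Q.subtype (hTall Q))
        ⟨fun Q Q' e => Sylow.subtype_injective e, fun R => by
          obtain ⟨Q, hQ⟩ := (R.2.map T.subtype).exists_le_sylow
          exact ⟨Q, Sylow.ext (R.3 (Q.2.comap_of_injective _ (subtype_injective T)) fun w hw => hQ ⟨w, hw, rfl⟩)⟩⟩)).symm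
    exact false_of_whole (G := T) (by rw [hm]) hcyc hns fun t ht g hg =>
      self_centralizing (n := 1728) (by rw [hm]) (by norm_num) dvd_rfl (fun w => ⟨(hTno w).2.1, (hTno w).2.2⟩) ht hg

end Cfsg.Lib.UThreeOrder
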