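import Mathlib
import Cfsg.Agent.Blocks.DegreeEquation.Check
import Cfsg.Agent.Chars.DefectZero
import Cfsg.Agent.Chars.Real
import Cfsg.Agent.Known.POver.Small

/-!
# The principal `7`-block of a simple group of order 6048

Three ordinary characters of degrees 6, 27 and 32 carry all the information needed later: they have the known values
at involutions and at elements of order three, and they count the pairs of conjugates with a product of order seven.
-/

set_option autoImplicit false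
set_option linter.unusedSectionVars false

namespace Cfsg.Lib.UThreeOrder

open Cfsg.Lib.Chars Cfsg.Lib.Blocks Cfsg.Lib.Blocks.SmallOrder Cfsg.Lib.Blocks.SylowCount
  Cfsg.Lib.Blocks.DegreeEquation
open scoped ComplexConjugate _root_.Classical

universe u

/-- A simple group of order 6048 without elements of order 9, 14 or 21. -/
structure Hyp (G : Type u) [Group G] : Prop where
  simple : IsSimpleGroup G
  card : Nat.card G = 6048
  no : ∀ g : G, orderOf g ≠ 9 ∧ orderOf g ≠ 14 ∧ orderOf g ≠ 21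

variable {G : Type u} [Group G] [Fintype G]

/-- The sum of a character over a subgroup is a natural multiple of its order. -/
theorem sum_subgroup {χ : G → ℂ} (hχ : Cfsg.IsCharacter G χ) (H : Subgroup G) [Fintype H] :
    ∃ k : ℕ, ∑ x : H, χ x = (k : ℂ) * (Nat.card H : ℂ) := by
  obtain ⟨k, hk⟩ := classInner_char_nat (IsCharacter.restrict hχ H) (isCharacter_one (G := H))
  refine ⟨k, ?_⟩
  have hH : (Nat.card H : ℂ) ≠ 0 := Nat.cast_ne_zero.2 Nat.card_pos.ne'
  rw [← hk, Cfsg.classInner]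
  simp only [map_one, mul_one]
  field_simp

/-- The values used later. -/
structure Vals (G : Type u) [Group G] [Fintype G] (a b c : G → ℂ) : Prop where
  charA : Cfsg.IsCharacter G a
  charB : Cfsg.IsCharacter G b
  charC : Cfsg.IsCharacter G c
  a_one : a 1 = 6
  b_one : b 1 = 27
  c_one : c 1 = 32
  faithful : ∀ g, a g = a 1 → g = 1
  b_zero : ∀ g : G, 3 ∣ orderOf g → b g = 0
  c_zero : ∀ g : G, 2 ∣ orderOf g → c g = 0
  rel : ∀ g : G, ¬ 7 ∣ orderOf g → c g = a g + b g - 1
  pairs : ∀ g g' : G, ¬ 7 ∣ orderOf g → ¬ 7 ∣ orderOf g' → ∃ N : ℕ,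
    (Nat.card {x : G // IsConj g x} : ℂ) * (Nat.card {x : G // IsConj g' x} : ℂ) *
      (1 - a g * a g' / 6 - b g * b g' / 27 + c g * c g' / 32) = (N : ℂ) * 6048
  invol : ∀ s : G, orderOf s = 2 → a s = -2 ∧ b s = 3 ∧ c s = 0
  three : ∀ u : G, orderOf u = 3 → a u = 0 ∨ a u = -3

theorem deg_list : ∀ z ∈ terms 7 864 6048 1 78 1, ∀ w ∈ terms 7 864 6048 1 78 1,
    1 + z + w ∈ terms 7 864 6048 1 78 3 →
    (z = -6 ∧ w = -27) ∨ (z = -27 ∧ w = -6) ∨ (z = 8 ∧ w = -27) ∨ (z = -27 ∧ w = 8) := by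
  decide +kernel

theorem idx_cases : ∀ i e : ℕ, e < 7 → i < 865 → i * e = 864 → 2 ≤ e → 6 % e = 0 → i % 7 = 1 →
    i = 288 ∧ e = 3 := by
  intro i e he _ h h2 h6 h7
  interval_cases e <;> omega

/-- The values at an involution: first case. -/
theorem invol_six (r t : ℤ) (hr : r.natAbs ≤ 6) (ht : t.natAbs ≤ 27) (hr4 : (4 : ℤ) ∣ 6 - r)
    (ht4 : (4 : ℤ) ∣ 27 - t) (h6 : r ≠ 6)
    (hF : 32 * 6 * 27 - 32 * 27 * r * r - 32 * 6 * t * t + 6 * 27 * (r + t - 1) * (r + t - 1) = 0) :
    (r = -2 ∧ t = 3) ∨ 600 ≤ 1 + r * r + t * t + 2 * ((r + t - 1) * (r + t - 1)) := by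
  have key : ∀ r ∈ Finset.Icc (-6 : ℤ) 6, ∀ t ∈ Finset.Icc (-27 : ℤ) 27,
      (6 - r) % 4 = 0 → (27 - t) % 4 = 0 → r ≠ 6 →
      32 * 6 * 27 - 32 * 27 * r * r - 32 * 6 * t * t + 6 * 27 * (r + t - 1) * (r + t - 1) = 0 →
      (r = -2 ∧ t = 3) ∨ 600 ≤ 1 + r * r + t * t + 2 * ((r + t - 1) * (r + t - 1)) := by decide +kernel
  exact key r (Finset.mem_Icc.2 (by omega)) t (Finset.mem_Icc.2 (by omega)) (by omega) (by omega) h6 hF

/-- The values at an involution: second case. -/
theorem invol_eight (r t : ℤ) (hr : r.natAbs ≤ 8) (ht : t.natAbs ≤ 27) (hr4 : (4 : ℤ) ∣ 8 - r)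
    (ht4 : (4 : ℤ) ∣ 27 - t) (h8 : r ≠ 8)
    (hF : 18 * 8 * 27 + 18 * 27 * r * r - 18 * 8 * t * t + 8 * 27 * (1 + r - t) * (1 + r - t) = 0) :
    False := by
  have key : ∀ r ∈ Finset.Icc (-8 : ℤ) 8, ∀ t ∈ Finset.Icc (-27 : ℤ) 27,
      (8 - r) % 4 = 0 → (27 - t) % 4 = 0 → r ≠ 8 →
      18 * 8 * 27 + 18 * 27 * r * r - 18 * 8 * t * t + 8 * 27 * (1 + r - t) * (1 + r - t) ≠ 0 := by
    decide +kernel
  exact key r (Finset.mem_Icc.2 (by omega)) t (Finset.mem_Icc.2 (by omega)) (by omega) (by omega) h8 hF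

theorem exists_vals (h : Hyp G) : ∃ a b c : G → ℂ, Vals G a b c := by
  haveI := h.simple
  haveI : Fact (Nat.Prime 7) := ⟨by norm_num⟩
  haveI : Fact (Nat.Prime 2) := ⟨Nat.prime_two⟩
  have hG : ¬ IsCyclic G := by
    intro hc
    let _ : CommGroup G := IsCyclic.commGroup
    exact (show ¬ Nat.Prime 6048 by norm_num) (h.card ▸ IsSimpleGroup.prime_card)
  have hperf := BrauerTuan.perfect_of_simple hG
  have hsq : ¬ 7 ^ 2 ∣ Nat.card G := by rw [h.card]; norm_num
  obtain ⟨P⟩ : Nonempty (Sylow 7 G) := inferInstance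
  obtain ⟨C, hC⟩ := exists_cyc (by rw [h.card]; norm_num) hsq P
  have hcore : Core C := ⟨hperf, ⟨P, hC⟩, fun N hN hne => by
    rw [hN.eq_bot_or_eq_top.resolve_left hne]
    exact Subgroup.mem_top _⟩
  obtain ⟨M, hM⟩ := exists_isPModular (show Nat.Prime 7 by norm_num)
  obtain ⟨ν, δ, hD⟩ := C.exists_orbitData hM C.oneV
  -- the normaliser
  have hV : Nat.card C.V = 1 := by
    by_contra hne
    obtain ⟨r, hr, hrd⟩ := Nat.exists_prime_and_dvd hne
    haveI := Fact.mk hr
    obtain ⟨v, hv⟩ := exists_prime_orderOf_dvd_card' r hrd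
    have hvo : orderOf ((v : C.H) : G) = r := by rw [Subgroup.orderOf_coe, Subgroup.orderOf_coe, hv]
    have hr7 : r ≠ 7 := fun e =>
      C.not_dvd ((e ▸ hrd).trans (Subgroup.card_subgroup_dvd_card C.V))
    have hmul : orderOf (C.y * ((v : C.H) : G)) = 7 * r := by
      have hc : Commute C.y ((v : C.H) : G) := by
        have := (C.commute_V v 1).symm
        rwa [C.yP_one] at this
      rw [hc.orderOf_mul_eq_mul_orderOf_of_coprime (by
        rw [C.order, hvo]
        exact (Nat.coprime_primes (by norm_num) hr).2 (Ne.symm hr7)), C.order, hvo]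
    have hrG : r ∣ 6048 := h.card ▸ hvo ▸ orderOf_dvd_natCard _
    have h6 : r = 2 ∨ r = 3 := by
      have h7 : r ∈ Nat.primeFactors 6048 := Nat.mem_primeFactors.2 ⟨hr, hrG, by norm_num⟩
      rw [show (6048 : ℕ) = 2 ^ 5 * 3 ^ 3 * 7 by norm_num, Nat.primeFactors_mul (by norm_num) (by norm_num),
        Nat.primeFactors_mul (by norm_num) (by norm_num), Nat.primeFactors_prime_pow (by norm_num) Nat.prime_two,
        Nat.primeFactors_prime_pow (by norm_num) Nat.prime_three,
        Nat.Prime.primeFactors (by norm_num)] at h7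
      simp at h7
      omega
    rcases h6 with e | e <;> subst e
    · exact (h.no _).2.1 hmul
    · exact (h.no _).2.2 hmul
  have hie : idx C = 288 ∧ eC C = 3 := by
    have hc := card_eq C
    rw [h.card, hV, mul_one] at hc
    obtain ⟨n, -, hn⟩ := hcore.exists_idx
    have he := eC_dvd C
    have h2 := hcore.two_le_eC
    have he6 : eC C ≤ 6 := Nat.le_of_dvd (by norm_num) he
    refine idx_cases _ _ (by omega) ?_ (by linarith) h2 (Nat.mod_eq_zero_of_dvd he) (by omega)
    have : idx C * 1 ≤ idx C * eC C := Nat.mul_le_mul_left _ (by omega)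
    have : idx C * eC C = 864 := by linarith
    omega
  obtain ⟨hidx, he⟩ := hie
  have hr1 : oneG G ∉ Set.range ν := by
    rintro ⟨u, hu⟩
    have hx0 : deg (ν 1 : G → ℂ) = 1 := by rw [← deg_exc hD u, hu, deg_oneG]
    have hcong := congr_exc hM hD
    rw [hx0, he] at hcong
    rcases hD.sign with e | e <;> rw [e] at hcong <;> norm_num at hcong
  have hm1 : oneG G ∈ ordSet C ν := mem_ordSet.2 ⟨lies_oneG, hr1⟩
  obtain ⟨χ, χ', hχχ, hχe⟩ : ∃ χ χ', χ ≠ χ' ∧ (ordSet C ν).erase (oneG G) = {χ, χ'} :=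
    Finset.card_eq_two.1 (by rw [Finset.card_erase_of_mem hm1, card_ordSet hD, he])
  have hmem : ∀ η ∈ (ordSet C ν).erase (oneG G), η ∈ ordSet C ν ∧ η ≠ oneG G := fun η hη =>
    ⟨Finset.mem_of_mem_erase hη, Finset.ne_of_mem_erase hη⟩
  obtain ⟨hχ, hχ1⟩ := hmem χ (hχe ▸ Finset.mem_insert_self _ _)
  obtain ⟨hχ', hχ1'⟩ := hmem χ' (hχe ▸ Finset.mem_insert_of_mem (Finset.mem_singleton_self _))
  -- the regular elements
  have hreg : ∀ g : G, ¬ 7 ∣ orderOf g →
      1 + (C.bI χ C.oneV 1 : ℂ) * (χ : G → ℂ) g + (C.bI χ' C.oneV 1 : ℂ) * (χ' : G → ℂ) g =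
        (δ : ℂ) * (ν 1 : G → ℂ) g := by
    intro g hg
    have h1 := hD.regular_sum hg 1
    have h2 : ∑ η ∈ ordSet C ν, (C.bI η C.oneV 1 : ℂ) * (η : G → ℂ) g =
        1 + (C.bI χ C.oneV 1 : ℂ) * (χ : G → ℂ) g + (C.bI χ' C.oneV 1 : ℂ) * (χ' : G → ℂ) g := by
      rw [← Finset.add_sum_erase _ _ hm1, hχe, Finset.sum_pair hχχ, bI_oneG' hM hD hr1,
        show (oneG G : G → ℂ) g = 1 from rfl]
      push_cast
      ring
    rw [← h2]
    push_cast at h1
    unfold ordSet
    linear_combination h1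
  -- the pairs
  obtain ⟨P', hP'⟩ := hcore.sylow
  have hv : ∀ v : C.V, v = 1 := fun v => (Nat.card_eq_one_iff_unique.1 hV).1.elim v 1
  have hone : ∀ θ : IrrCharacter C.V, θ = C.oneV := fun θ => by
    refine Subtype.ext (funext fun v => ?_)
    rw [hv v, irr_deg_one_of_comm (fun a b => by rw [hv a, hv b]) θ.2]
    rfl
  have hzero : ∀ η : IrrCharacter G, ¬ C.Lies η C.oneV → (η : G → ℂ) C.y = 0 := fun η hl =>
    C.apply_singular_of_forall_not_lies (fun θ => hone θ ▸ hl) P' hP' (dvd_of_eq C.order.symm)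
  have hdisj : Disjoint (ordSet C ν) (Finset.univ.image ν) := Finset.disjoint_left.2 fun η h1 h2 => by
    obtain ⟨u, -, rfl⟩ := Finset.mem_image.1 h2
    exact (mem_ordSet.1 h1).2 ⟨u, rfl⟩
  have hy : ∀ η ∈ ordSet C ν, (η : G → ℂ) C.y = (C.bI η C.oneV 1 : ℂ) := fun η hη => by
    rw [← C.yP_one]
    exact apply_yP_ord hM hD (mem_ordSet.1 hη).2 (mem_ordSet.1 hη).1 one_ne_zero
  have hpairs : ∀ g g' : G, ¬ 7 ∣ orderOf g → ¬ 7 ∣ orderOf g' →
      (Nat.card {w : G × G // IsConj g w.1 ∧ IsConj g' w.2 ∧ w.1 * w.2 = C.y} : ℂ) =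
        (Nat.card {x : G // IsConj g x} : ℂ) * (Nat.card {x : G // IsConj g' x} : ℂ) / 6048 *
          (1 + (C.bI χ C.oneV 1 : ℂ) * ((χ : G → ℂ) g * (χ : G → ℂ) g') / (deg (χ : G → ℂ) : ℂ) +
            (C.bI χ' C.oneV 1 : ℂ) * ((χ' : G → ℂ) g * (χ' : G → ℂ) g') / (deg (χ' : G → ℂ) : ℂ) -
            (δ : ℂ) * ((ν 1 : G → ℂ) g * (ν 1 : G → ℂ) g') / (deg (ν 1 : G → ℂ) : ℂ)) := by
    intro g g' hg hg'
    rw [class_mult_formula, h.card,
      ← Finset.sum_subset (Finset.subset_univ (ordSet C ν ∪ Finset.univ.image ν)) (fun η _ hη => by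
        rw [hzero η fun hl => hη ?_, map_zero, mul_zero, zero_div]
        rw [Finset.mem_union]
        by_cases hn : η ∈ Set.range ν
        · obtain ⟨u, rfl⟩ := hn
          exact Or.inr (Finset.mem_image_of_mem _ (Finset.mem_univ _))
        · exact Or.inl (mem_ordSet.2 ⟨hl, hn⟩)),
      Finset.sum_union hdisj, ← Finset.add_sum_erase _ _ hm1, hχe, Finset.sum_pair hχχ,
      Finset.sum_congr (s₁ := Finset.univ.image ν) rfl (g := fun η : IrrCharacter G =>
        (ν 1 : G → ℂ) g * (ν 1 : G → ℂ) g' / (deg (ν 1 : G → ℂ) : ℂ) * conj ((η : G → ℂ) C.y))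
        (fun η hη => by
          obtain ⟨u, -, rfl⟩ := Finset.mem_image.1 hη
          rw [apply_exc_regular hD u hg, apply_exc_regular hD u hg', irr_apply_one_eq_deg, deg_exc hD u]
          ring),
      ← Finset.mul_sum, ← map_sum, hy χ hχ, hy χ' hχ', ← C.yP_one, sum_exc hM hD one_ne_zero,
      irr_apply_one_eq_deg, irr_apply_one_eq_deg, irr_apply_one_eq_deg, deg_oneG,
      show (oneG G : G → ℂ) g = 1 from rfl, show (oneG G : G → ℂ) g' = 1 from rfl, C.yP_one,
      show (oneG G : G → ℂ) C.y = 1 from rfl]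
    simp only [map_neg, map_intCast, map_one, Nat.cast_one, Nat.cast_ofNat]
    ring
  -- the degrees
  have hterm : ∀ η ∈ (ordSet C ν).erase (oneG G),
      C.bI η C.oneV 1 * (deg (η : G → ℂ) : ℤ) ∈ terms 7 864 6048 1 78 1 := by
    intro η hη
    obtain ⟨h1, h2⟩ := hmem η hη
    have e1 := isTerm_ord hcore hM hD h1 h2
    rw [hidx, he, h.card] at e1
    refine mem_terms (by norm_num) e1 ?_
    rw [show (C.bI η C.oneV 1 * (deg (η : G → ℂ) : ℤ)).natAbs = deg (η : G → ℂ) by
      rcases hD.sign_diff (χ := η) (mem_ordSet.1 h1) with e | e <;> simp [e]]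
    have := allowed_of_lies hcore hM (by norm_num) (mem_ordSet.1 h1).1 h2
    rwa [h.card, hV] at this
  have hexc : δ * (deg (ν 1 : G → ℂ) : ℤ) ∈ terms 7 864 6048 1 78 3 := by
    have e1 := isTerm_exc hcore hM hD hr1
    rw [hidx, he, h.card] at e1
    refine mem_terms (by norm_num) e1 ?_
    rw [show (δ * (deg (ν 1 : G → ℂ) : ℤ)).natAbs = deg (ν 1 : G → ℂ) by
      rcases hD.sign with e | e <;> simp [e]]
    have := allowed_of_lies hcore hM (by norm_num) (lies_exc hD 1) fun e => hr1 ⟨1, e⟩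
    rwa [h.card, hV] at this
  have hrel := relation hD
  rw [← Finset.add_sum_erase _ _ hm1, hχe, Finset.sum_pair hχχ, bI_oneG' hM hD hr1, deg_oneG,
    Nat.cast_one, mul_one, ← add_assoc] at hrel
  -- no element inverts `y`
  have hnoinv : ∀ s : G, s * s = 1 →
      Nat.card {w : G × G // IsConj s w.1 ∧ IsConj s w.2 ∧ w.1 * w.2 = C.y} = 0 := by
    intro s hs
    rw [Nat.card_eq_zero]
    refine Or.inl ⟨fun ⟨⟨u, w⟩, hu, hw, huw⟩ => ?_⟩
    simp only at hu hw huw
    have hsq : ∀ {x : G}, IsConj s x → x * x = 1 := fun {x} hx => by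
      obtain ⟨k, rfl⟩ := isConj_iff.1 hx
      rw [show k * s * k⁻¹ * (k * s * k⁻¹) = k * (s * s) * k⁻¹ by group, hs]
      group
    have hiu : u⁻¹ = u := inv_eq_of_mul_eq_one_left (hsq hu)
    have hiw : w⁻¹ = w := inv_eq_of_mul_eq_one_left (hsq hw)
    have h1 : u * C.y * u⁻¹ = C.y⁻¹ := by
      rw [← huw, mul_inv_rev, hiw, hiu, ← mul_assoc, hsq hu, one_mul]
    have hn : u⁻¹ ∈ Subgroup.normalizer (Subgroup.zpowers C.y : Set G) :=
      C.norm_of_mem (i := 1) (j := -1) one_ne_zero (by rw [inv_inv, C.yP_neg, C.yP_one, h1])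
    have hNc : Nat.card (Subgroup.normalizer (Subgroup.zpowers C.y : Set G)) = 21 := by
      rw [HalfDegree.card_normalizer_eq, card_H C, hV, he]
    have h2 : orderOf u ∣ 21 := hNc ▸ Subgroup.orderOf_dvd_natCard _ (hiu ▸ hn)
    have h3 : orderOf u ∣ 2 := orderOf_dvd_of_pow_eq_one (by rw [pow_two, hsq hu])
    have h4 : u = 1 := orderOf_eq_one_iff.1 (Nat.dvd_one.1 (Nat.dvd_gcd h2 h3))
    rw [h4, one_mul] at huw
    have h5 := orderOf_dvd_of_pow_eq_one (x := C.y) (n := 2) (by rw [pow_two, ← huw, hsq hw])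
    rw [C.order] at h5
    norm_num at h5
  obtain ⟨s₀, hs₀⟩ := exists_prime_orderOf_dvd_card' (G := G) 2 (by rw [h.card]; norm_num)
  have hreg2 : ∀ s : G, orderOf s = 2 → ¬ 7 ∣ orderOf s := fun s hs => by rw [hs]; norm_num
  have hsq2 : ∀ s : G, orderOf s = 2 → s * s = 1 := fun s hs => by
    rw [← pow_two, ← hs, pow_orderOf_eq_one]
  have hne1 : ∀ s : G, orderOf s = 2 → s ≠ 1 := fun s hs e => by rw [e, orderOf_one] at hs; omega
  have hpos : ∀ g : G, (Nat.card {x : G // IsConj g x} : ℂ) ≠ 0 := fun g =>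
    Nat.cast_ne_zero.2 (card_isConj_pos g).ne'
  -- the two cases
  have sgn : ∀ η ∈ ordSet C ν, ∀ d : ℕ, C.bI η C.oneV 1 * (deg (η : G → ℂ) : ℤ) = -(d : ℤ) →
      C.bI η C.oneV 1 = -1 ∧ deg (η : G → ℂ) = d := by
    intro η hη d hd
    have := deg_irr_pos η
    rcases hD.sign_diff (χ := η) (mem_ordSet.1 hη) with e | e <;> rw [e] at hd ⊢ <;> omega
  have sgn' : ∀ η ∈ ordSet C ν, ∀ d : ℕ, C.bI η C.oneV 1 * (deg (η : G → ℂ) : ℤ) = (d : ℤ) →
      C.bI η C.oneV 1 = 1 ∧ deg (η : G → ℂ) = d := by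
    intro η hη d hd
    have := deg_irr_pos η
    rcases hD.sign_diff (χ := η) (mem_ordSet.1 hη) with e | e <;> rw [e] at hd ⊢ <;> omega
  have main : ∀ ξ ξ' : IrrCharacter G, ξ ∈ ordSet C ν → ξ ≠ oneG G → ξ' ∈ ordSet C ν → ξ' ≠ oneG G →
      (ordSet C ν).erase (oneG G) = {ξ, ξ'} →
      (∀ g : G, ¬ 7 ∣ orderOf g →
        1 + (C.bI ξ C.oneV 1 : ℂ) * (ξ : G → ℂ) g + (C.bI ξ' C.oneV 1 : ℂ) * (ξ' : G → ℂ) g =
          (δ : ℂ) * (ν 1 : G → ℂ) g) →
      (∀ g g' : G, ¬ 7 ∣ orderOf g → ¬ 7 ∣ orderOf g' →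
      (Nat.card {w : G × G // IsConj g w.1 ∧ IsConj g' w.2 ∧ w.1 * w.2 = C.y} : ℂ) =
        (Nat.card {x : G // IsConj g x} : ℂ) * (Nat.card {x : G // IsConj g' x} : ℂ) / 6048 *
          (1 + (C.bI ξ C.oneV 1 : ℂ) * ((ξ : G → ℂ) g * (ξ : G → ℂ) g') / (deg (ξ : G → ℂ) : ℂ) +
            (C.bI ξ' C.oneV 1 : ℂ) * ((ξ' : G → ℂ) g * (ξ' : G → ℂ) g') / (deg (ξ' : G → ℂ) : ℂ) -
            (δ : ℂ) * ((ν 1 : G → ℂ) g * (ν 1 : G → ℂ) g') / (deg (ν 1 : G → ℂ) : ℂ))) →
      C.bI ξ' C.oneV 1 * (deg (ξ' : G → ℂ) : ℤ) = -27 →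
      ((C.bI ξ C.oneV 1 * (deg (ξ : G → ℂ) : ℤ) = -6 ∧ δ * (deg (ν 1 : G → ℂ) : ℤ) = -32) ∨
        (C.bI ξ C.oneV 1 * (deg (ξ : G → ℂ) : ℤ) = 8 ∧ δ * (deg (ν 1 : G → ℂ) : ℤ) = -18)) →
      ∃ a b c : G → ℂ, Vals G a b c := by
    intro ξ ξ' hξ hξ1 hξ' hξ1' hset hreg hpairs h27 hcase
    obtain ⟨eb, db⟩ := sgn ξ' hξ' 27 h27
    have hδ : δ = -1 := by
      rcases hcase with ⟨-, e⟩ | ⟨-, e⟩ <;> rcases hD.sign with e' | e' <;> rw [e'] at e ⊢ <;> omega
    rcases hcase with ⟨ha, hc⟩ | ⟨ha, hc⟩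
    · obtain ⟨ea, da⟩ := sgn ξ hξ 6 ha
      have dc : deg (ν 1 : G → ℂ) = 32 := by rw [hδ] at hc; omega
      have a_one : (ξ : G → ℂ) 1 = 6 := by rw [irr_apply_one_eq_deg, da]; norm_num
      have hrel' : ∀ g : G, ¬ 7 ∣ orderOf g →
          (ν 1 : G → ℂ) g = (ξ : G → ℂ) g + (ξ' : G → ℂ) g - 1 := by
        intro g hg
        have h1 := hreg g hg
        rw [ea, eb, hδ] at h1
        push_cast at h1
        linear_combination h1
      have hP : ∀ g g' : G, ¬ 7 ∣ orderOf g → ¬ 7 ∣ orderOf g' →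
          (Nat.card {x : G // IsConj g x} : ℂ) * (Nat.card {x : G // IsConj g' x} : ℂ) *
            (1 - (ξ : G → ℂ) g * (ξ : G → ℂ) g' / 6 - (ξ' : G → ℂ) g * (ξ' : G → ℂ) g' / 27 +
              (ν 1 : G → ℂ) g * (ν 1 : G → ℂ) g' / 32) =
          (Nat.card {w : G × G // IsConj g w.1 ∧ IsConj g' w.2 ∧ w.1 * w.2 = C.y} : ℂ) * 6048 := by
        intro g g' hg hg'
        rw [hpairs g g' hg hg', ea, eb, hδ, da, db, dc]
        push_cast
        ring
      have hinv : ∀ s : G, orderOf s = 2 →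
          (ξ : G → ℂ) s = -2 ∧ (ξ' : G → ℂ) s = 3 ∧ (ν 1 : G → ℂ) s = 0 := by
        intro s hs
        obtain ⟨r, hr, hr4, hrd⟩ := value_involution hcore ξ (hsq2 s hs)
        obtain ⟨t, ht, ht4, htd⟩ := value_involution hcore ξ' (hsq2 s hs)
        rw [da] at hr4 hrd
        rw [db] at ht4 htd
        have hr6 : r ≠ 6 := fun e => hne1 s hs (faithful_of_ne_one hcore hξ1 s (by
          rw [hr, e, a_one]; norm_num))
        have h0 := hP s s (hreg2 s hs) (hreg2 s hs)
        rw [hnoinv s (hsq2 s hs), Nat.cast_zero, zero_mul, hrel' s (hreg2 s hs), hr, ht] at h0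
        have h1 := (mul_eq_zero.1 h0).resolve_left (mul_ne_zero (hpos s) (hpos s))
        have hF : 32 * 6 * 27 - 32 * 27 * r * r - 32 * 6 * t * t +
            6 * 27 * (r + t - 1) * (r + t - 1) = 0 := by
          apply Int.cast_injective (α := ℂ)
          push_cast
          linear_combination (32 * 6 * 27 : ℂ) * h1
        rcases invol_six r t hrd htd hr4 ht4 hr6 hF with ⟨rfl, rfl⟩ | hbig
        · rw [hrel' s (hreg2 s hs), hr, ht]
          norm_num
        · exfalso
          -- the centraliser would have index less than nine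
          have h3 := second_orthogonality s s
          rw [if_pos (IsConj.refl s)] at h3
          have h4 : ((Nat.card (Subgroup.centralizer ({s} : Set G)) : ℂ)).re =
              ∑ η : IrrCharacter G, Complex.normSq ((η : G → ℂ) s) := by
            rw [← h3, Complex.re_sum]
            refine Finset.sum_congr rfl fun η _ => ?_
            rw [Complex.mul_conj, Complex.ofReal_re]
          have h5 : ∑ η ∈ insert ξ (insert ξ' (Finset.univ.image ν)), Complex.normSq ((η : G → ℂ) s) ≤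
              ∑ η : IrrCharacter G, Complex.normSq ((η : G → ℂ) s) :=
            Finset.sum_le_sum_of_subset_of_nonneg (Finset.subset_univ _) fun η _ _ => Complex.normSq_nonneg _
          have hn : ξ' ∉ Finset.univ.image ν := Finset.disjoint_left.1 hdisj hξ'
          have hn' : ξ ∉ insert ξ' (Finset.univ.image ν) := by
            rw [Finset.mem_insert, not_or]
            exact ⟨fun e => by rw [e, db] at da; omega, Finset.disjoint_left.1 hdisj hξ⟩
          rw [Finset.sum_insert hn', Finset.sum_insert hn,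
            Finset.sum_congr rfl (g := fun _ : IrrCharacter G => Complex.normSq ((ν 1 : G → ℂ) s))
              (fun η hη => by
                obtain ⟨u, -, rfl⟩ := Finset.mem_image.1 hη
                rw [apply_exc_regular hD u (hreg2 s hs)]),
            Finset.sum_const, card_image hD, ← h4, Complex.natCast_re, hrel' s (hreg2 s hs), hr, ht,
            show (r : ℂ) + (t : ℂ) - 1 = (((r + t - 1 : ℤ) : ℝ) : ℂ) by push_cast; ring] at h5
          have hix : (C.E (C.oneV : C.V → ℂ)).index = 2 := by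
            have := SylowCount.index_eq (C := C)
            rw [he] at this
            omega
          rw [hix, show (r : ℂ) = (((r : ℤ) : ℝ) : ℂ) by push_cast; rfl,
            show (t : ℂ) = (((t : ℤ) : ℝ) : ℂ) by push_cast; rfl, Complex.normSq_ofReal,
            Complex.normSq_ofReal, Complex.normSq_ofReal, nsmul_eq_mul] at h5
          have h5' : r * r + (t * t + 2 * ((r + t - 1) * (r + t - 1))) ≤
              (Nat.card (Subgroup.centralizer ({s} : Set G)) : ℤ) := by exact_mod_cast h5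
          set H := Subgroup.centralizer ({s} : Set G)
          have htop : H ≠ ⊤ := by
            intro e
            have h6 : s ∈ Subgroup.center G := Subgroup.mem_center_iff.2 fun g =>
              Subgroup.mem_centralizer_singleton_iff.1 (show g ∈ H from e ▸ Subgroup.mem_top g)
            rw [hcore.center_eq_bot, Subgroup.mem_bot] at h6
            exact hne1 s hs h6
          have h6 := Known.POver.Small.dvd_index_factorial htop
          have h7 := H.card_mul_index
          rw [h.card] at h6 h7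
          have h10 : ¬ 7 ∣ Nat.card H := by
            intro h11
            obtain ⟨v, hv⟩ := exists_prime_orderOf_dvd_card' (G := H) 7 h11
            have hvs : Commute s (v : G) := (Subgroup.mem_centralizer_singleton_iff.1 v.2).symm
            refine (h.no (s * (v : G))).2.1 ?_
            rw [hvs.orderOf_mul_eq_mul_orderOf_of_coprime (by rw [hs, Subgroup.orderOf_coe, hv]; norm_num),
              hs, Subgroup.orderOf_coe, hv]
          have h8 : 599 ≤ Nat.card H := by omega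
          have h9 : H.index ≤ 10 := by nlinarith
          interval_cases H.index <;> norm_num [Nat.factorial] at h6 <;> omega
      refine ⟨(ξ : G → ℂ), (ξ' : G → ℂ), (ν 1 : G → ℂ), ?_⟩
      have hb0 : ∀ g : G, 3 ∣ orderOf g → (ξ' : G → ℂ) g = 0 := fun g hg =>
        eq_zero_of_defect_zero ξ'.2 Nat.prime_three (n := 3) (by rw [h.card]; norm_num)
          (by rw [h.card]; norm_num) (by rw [db]; norm_num) hg
      refine ⟨isCharacter_of_irr ξ.2, isCharacter_of_irr ξ'.2, isCharacter_of_irr (ν 1).2, a_one,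
        by rw [irr_apply_one_eq_deg, db]; norm_num, by rw [irr_apply_one_eq_deg, dc]; norm_num,
        faithful_of_ne_one hcore hξ1, hb0, fun g hg => eq_zero_of_defect_zero (ν 1).2 Nat.prime_two (n := 5)
          (by rw [h.card]; norm_num) (by rw [h.card]; norm_num) (by rw [dc]; norm_num) hg,
        hrel', fun g g' hg hg' => ⟨_, hP g g' hg hg'⟩, hinv, ?_⟩
      intro u hu
      have hu7 : ¬ 7 ∣ orderOf u := by rw [hu]; norm_num
      -- the character of degree six is real
      have hreal : conjIrr ξ = ξ := by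
        have hne : conjIrr ξ ≠ oneG G := fun e => by
          have := congrArg (fun η : IrrCharacter G => (η : G → ℂ) 1) e
          simp [conjIrr, a_one, oneG, map_ofNat] at this
        have hyv : ((conjIrr ξ : IrrCharacter G) : G → ℂ) C.y = -1 := by
          show conj ((ξ : G → ℂ) C.y) = -1
          rw [hy ξ hξ, ea]
          simp
        have hlies : C.Lies (conjIrr ξ) C.oneV := by
          by_contra hl
          rw [hzero _ hl] at hyv
          norm_num at hyv
        have hdeg : ((conjIrr ξ : IrrCharacter G) : G → ℂ) 1 = 6 := by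
          show conj ((ξ : G → ℂ) 1) = 6
          rw [a_one, map_ofNat]
        by_cases hr : conjIrr ξ ∈ Set.range ν
        · obtain ⟨v, hv⟩ := hr
          rw [← hv, irr_apply_one_eq_deg, deg_exc hD, dc] at hdeg
          norm_num at hdeg
        · have hm : conjIrr ξ ∈ (ordSet C ν).erase (oneG G) :=
            Finset.mem_erase.2 ⟨hne, mem_ordSet.2 ⟨hlies, hr⟩⟩
          rw [hset, Finset.mem_insert, Finset.mem_singleton] at hm
          refine hm.resolve_right fun e => ?_
          rw [e, irr_apply_one_eq_deg, db] at hdeg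
          norm_num at hdeg
      have him := (conjIrr_eq_self_iff ξ).1 hreal u
      obtain ⟨k, hk⟩ := sum_subgroup (isCharacter_of_irr ξ.2) (Subgroup.zpowers u)
      have hsum : ∑ x : Subgroup.zpowers u, (ξ : G → ℂ) x = 6 + (ξ : G → ℂ) u + (ξ : G → ℂ) u⁻¹ := by
        have hu1 : u ≠ 1 := fun e => by rw [e, orderOf_one] at hu; omega
        have hu2 : u⁻¹ ≠ u := fun e => by
          have := orderOf_dvd_of_pow_eq_one (x := u) (n := 2)
            (by rw [pow_two]; nth_rewrite 1 [← e]; exact inv_mul_cancel u)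
          rw [hu] at this
          norm_num at this
        have h1 : (Finset.univ : Finset (Subgroup.zpowers u)) =
            {1, ⟨u, Subgroup.mem_zpowers u⟩, ⟨u⁻¹, inv_mem (Subgroup.mem_zpowers u)⟩} := by
          refine (Finset.eq_univ_of_card _ ?_).symm
          rw [Finset.card_insert_of_notMem (by
              simp only [Finset.mem_insert, Finset.mem_singleton, Subtype.ext_iff, OneMemClass.coe_one]
              rintro (e | e)
              · exact hu1 e.symm
              · exact hu1 (inv_eq_one.1 e.symm)),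
            Finset.card_pair (by simp only [ne_eq, Subtype.mk.injEq]; exact Ne.symm hu2),
            ← Nat.card_eq_fintype_card, Nat.card_zpowers, hu]
        rw [h1, Finset.sum_insert (by
            simp only [Finset.mem_insert, Finset.mem_singleton, Subtype.ext_iff, OneMemClass.coe_one]
            rintro (e | e)
            · exact hu1 e.symm
            · exact hu1 (inv_eq_one.1 e.symm)),
          Finset.sum_pair (by simp only [ne_eq, Subtype.mk.injEq]; exact Ne.symm hu2),
          OneMemClass.coe_one, a_one]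
        ring
      have hinv' : (ξ : G → ℂ) u⁻¹ = (ξ : G → ℂ) u := by
        rw [IsCharacter.conj_inv (isCharacter_of_irr ξ.2)]
        exact Complex.conj_eq_iff_im.2 him
      rw [hsum, hinv', Nat.card_zpowers, hu] at hk
      have hb0u : (ξ' : G → ℂ) u = 0 := hb0 u (by rw [hu])
      have h0 := hP u u hu7 hu7
      rw [hb0u, hrel' u hu7, hb0u] at h0
      set N := Nat.card {w : G × G // IsConj u w.1 ∧ IsConj u w.2 ∧ w.1 * w.2 = C.y}
      set n := Nat.card {x : G // IsConj u x}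
      have hn : (0 : ℝ) < n := by exact_mod_cast card_isConj_pos u
      set v := ((ξ : G → ℂ) u).re
      have hv : (ξ : G → ℂ) u = (v : ℂ) := Complex.ext rfl (by simpa using him)
      rw [hv] at h0 hk
      have h0' : (n : ℝ) * n * (1 - v * v / 6 + (v - 1) * (v - 1) / 32) = (N : ℝ) * 6048 := by
        apply Complex.ofReal_injective
        push_cast
        linear_combination h0
      have hk' : (6 : ℝ) + 2 * v = 3 * k := by
        apply Complex.ofReal_injective
        push_cast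
        linear_combination hk
      have hF : 0 ≤ 1 - v * v / 6 + (v - 1) * (v - 1) / 32 :=
        nonneg_of_mul_nonneg_right (h0' ▸ by positivity) (mul_pos hn hn)
      have hint : IsIntegral ℤ ((ξ : G → ℂ) u) := by
        obtain ⟨d, ρ, hρ⟩ := isCharacter_of_irr ξ.2
        rw [← hρ]
        exact isIntegral_character ρ u
      have hhalf : ∀ m : ℤ, v = m / 2 → 2 ∣ m := by
        intro m hm
        rw [hv, hm, show (((m : ℝ) / 2 : ℝ) : ℂ) = algebraMap ℚ ℂ ((m : ℚ) / 2) by simp] at hint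
        have h2 : IsIntegral ℤ ((m : ℚ) / 2) :=
          (isIntegral_algebraMap_iff (algebraMap ℚ ℂ).injective).1 hint
        obtain ⟨j, hj⟩ := IsIntegrallyClosed.isIntegral_iff.1 h2
        refine ⟨j, ?_⟩
        have hj' : (j : ℚ) = (m : ℚ) / 2 := by simpa using hj
        exact_mod_cast (show (m : ℚ) = ((2 * j : ℤ) : ℚ) by push_cast; linarith)
      have hk4 : k ≤ 4 := by
        by_contra hk5
        have : (5 : ℝ) ≤ k := by exact_mod_cast (show 5 ≤ k by omega)
        nlinarith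
      rw [hv]
      have hv' : v = (3 * k - 6) / 2 := by linarith
      have hpar := hhalf (3 * (k : ℤ) - 6) (by rw [hv']; push_cast; ring)
      interval_cases k
      · right; rw [hv']; norm_num
      · norm_num at hpar
      · left; rw [hv']; norm_num
      · norm_num at hpar
      · exfalso; rw [hv'] at hF; norm_num at hF
    · exfalso
      obtain ⟨ea, da⟩ := sgn' ξ hξ 8 ha
      have dc : deg (ν 1 : G → ℂ) = 18 := by rw [hδ] at hc; omega
      obtain ⟨r, hr, hr4, hrd⟩ := value_involution hcore ξ (hsq2 s₀ hs₀)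
      obtain ⟨t, ht, ht4, htd⟩ := value_involution hcore ξ' (hsq2 s₀ hs₀)
      rw [da] at hr4 hrd
      rw [db] at ht4 htd
      have hr8 : r ≠ 8 := fun e => hne1 s₀ hs₀ (faithful_of_ne_one hcore hξ1 s₀ (by
        rw [hr, e, irr_apply_one_eq_deg, da]; norm_num))
      have h0 := hpairs s₀ s₀ (hreg2 s₀ hs₀) (hreg2 s₀ hs₀)
      have h1 := hreg s₀ (hreg2 s₀ hs₀)
      rw [ea, eb, hδ, hr, ht] at h1
      push_cast at h1
      have hc' : (ν 1 : G → ℂ) s₀ = (t : ℂ) - (r : ℂ) - 1 := by linear_combination h1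
      rw [hnoinv s₀ (hsq2 s₀ hs₀), Nat.cast_zero, ea, eb, hδ, da, db, dc, hr, ht, hc'] at h0
      push_cast at h0
      refine invol_eight r t hrd htd hr4 ht4 hr8 (Int.cast_injective (α := ℂ) ?_)
      have h2 := (mul_eq_zero.1 h0.symm).resolve_left
        (div_ne_zero (mul_ne_zero (hpos s₀) (hpos s₀)) (by norm_num))
      push_cast
      linear_combination (18 * 8 * 27 : ℂ) * h2
  have hcases := deg_list _ (hterm χ (hχe ▸ Finset.mem_insert_self _ _)) _
    (hterm χ' (hχe ▸ Finset.mem_insert_of_mem (Finset.mem_singleton_self _))) (hrel ▸ hexc)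
  rcases hcases with ⟨e, e'⟩ | ⟨e, e'⟩ | ⟨e, e'⟩ | ⟨e, e'⟩
  · exact main χ χ' hχ hχ1 hχ' hχ1' hχe hreg hpairs e' (Or.inl ⟨e, by rw [← hrel, e, e']; norm_num⟩)
  · refine main χ' χ hχ' hχ1' hχ hχ1 (by rw [hχe, Finset.pair_comm]) ?_ ?_ e
      (Or.inl ⟨e', by rw [← hrel, e, e']; norm_num⟩)
    · intro g hg; rw [← hreg g hg]; ring
    · intro g g' hg hg'; rw [hpairs g g' hg hg']; ring
  · exact main χ χ' hχ hχ1 hχ' hχ1' hχe hreg hpairs e' (Or.inr ⟨e, by rw [← hrel, e, e']; norm_num⟩)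
  · refine main χ' χ hχ' hχ1' hχ hχ1 (by rw [hχe, Finset.pair_comm]) ?_ ?_ e
      (Or.inr ⟨e', by rw [← hrel, e, e']; norm_num⟩)
    · intro g hg; rw [← hreg g hg]; ring
    · intro g g' hg hg'; rw [hpairs g g' hg hg']; ring

end Cfsg.Lib.UThreeOrder
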