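import Cfsg.Agent.Recognition.USixtyFortyEight.TI

/-!
# Normalised generators of a simple group of order 6048
-/

set_option autoImplicit false
set_option linter.unusedSectionVars false

namespace Cfsg.Lib.UThreeOrder

open Subgroup Cfsg.Lib.Chars MulAction
open scoped ComplexConjugate Pointwise _root_.Classical

universe u

variable {G : Type u} [Group G] [Fintype G] {a b c : G → ℂ}

/-- The stabiliser of two points. -/
abbrev two (U V : Sylow 3 G) : Subgroup G :=
  normalizer ((U : Subgroup G) : Set G) ⊓ normalizer ((V : Subgroup G) : Set G)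

theorem mem_two {U V : Sylow 3 G} {g : G} : g ∈ two U V ↔ g • U = U ∧ g • V = V := by
  rw [two, mem_inf, fix_mem, fix_mem]

/-- The generators: a commuting pair relation set for `U` and a generator of the stabiliser of two points. -/
structure Gens (S : Ctx G a b c) (U V : Sylow 3 G) (x y z k : G) : Prop where
  hne : U ≠ V
  x_mem : x ∈ (U : Subgroup G)
  y_mem : y ∈ (U : Subgroup G)
  z_mem : z ∈ (U : Subgroup G)
  z_ne : z ≠ 1
  z_def : x * y * x⁻¹ * y⁻¹ = z
  z_cent : ∀ u ∈ (U : Subgroup G), z * u = u * z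
  k_mem : k ∈ two U V
  kx : k * x * k⁻¹ = y
  ky : k * y * k⁻¹ = x * y
  kz : k * z * k⁻¹ = z⁻¹
  k_gen : zpowers k = two U V

theorem eight_cases : ∀ k0 ∈ Nat.divisors 8, ∀ f ∈ [1, 2], 28 % (k0 * f) = 0 → 4 ≤ k0 → k0 = 4 ∧ f = 1 := by
  decide +kernel

theorem cyc3 {G' : Type u} [Group G'] {z : G'} (hz : z ^ 3 = 1) {x : G'} (hx : x ∈ zpowers z) :
    ∃ i, i < 3 ∧ x = z ^ i := by
  obtain ⟨j, rfl⟩ := mem_zpowers_iff.1 hx
  refine ⟨(j % 3).toNat, by omega, ?_⟩
  rw [← zpow_natCast, Int.toNat_of_nonneg (Int.emod_nonneg _ (by norm_num))]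
  conv_lhs => rw [← Int.emod_add_mul_ediv j 3, zpow_add, zpow_mul, show z ^ (3 : ℤ) = 1 by exact_mod_cast hz,
    one_zpow, mul_one]

namespace Ctx

variable (S : Ctx G a b c)
include S

theorem free {U V : Sylow 3 G} (hne : U ≠ V) {u : G} (hu : u ∈ (U : Subgroup G)) (h : u • V = V) : u = 1 := by
  have : Fact (Nat.Prime 3) := ⟨Nat.prime_three⟩
  by_contra h1
  have h2 : u ∈ (U : Subgroup G) ⊓ normalizer (V : Set G) := ⟨hu, (fix_mem V).1 h⟩
  rw [U.2.inf_normalizer_sylow V] at h2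
  exact hne (S.ti hu h2.2 h1)

theorem smul_self {U : Sylow 3 G} {u : G} (hu : u ∈ (U : Subgroup G)) : u • U = U :=
  (fix_mem U).2 (le_normalizer hu)

theorem regular {U V : Sylow 3 G} (hne : U ≠ V) {W : Sylow 3 G} (hW : W ≠ U) :
    ∃ u ∈ (U : Subgroup G), u • V = W := by
  have : Fact (Nat.Prime 3) := ⟨Nat.prime_three⟩
  have := Fintype.ofFinite (Sylow 3 G)
  let f : ↥(U : Subgroup G) → {W : Sylow 3 G // W ≠ U} := fun u => ⟨(u : G) • V, fun e =>
    hne (MulAction.injective (u : G) ((S.smul_self u.2).trans e.symm))⟩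
  have hinj : Function.Injective f := by
    intro p q e
    have e' : (p : G) • V = (q : G) • V := congrArg Subtype.val e
    have h1 := S.free hne (mul_mem (inv_mem q.2) p.2) (by rw [mul_smul, e', inv_smul_smul])
    exact Subtype.ext (inv_mul_eq_one.1 h1).symm
  have hcard : Fintype.card (U : Subgroup G) = Fintype.card {W : Sylow 3 G // W ≠ U} := by
    rw [Fintype.card_subtype_compl, Fintype.card_subtype_eq, ← Nat.card_eq_fintype_card,
      ← Nat.card_eq_fintype_card, S.card_sylow_three U, S.card_sylow U]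
  obtain ⟨u, hu⟩ := ((Fintype.bijective_iff_injective_and_card f).2 ⟨hinj, hcard⟩).2 ⟨W, hW⟩
  exact ⟨u, u.2, congrArg Subtype.val hu⟩

theorem card_between {U V : Sylow 3 G} (hne : U ≠ V) (H : Subgroup G) (hUH : (U : Subgroup G) ≤ H)
    (hH : H ≤ normalizer ((U : Subgroup G) : Set G)) : Nat.card H = 27 * Nat.card ↥(H ⊓ two U V) := by
  rw [← S.card_sylow_three U, ← Nat.card_prod]
  refine (Nat.card_congr (Equiv.ofBijective (fun q : ↥(U : Subgroup G) × ↥(H ⊓ two U V) =>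
    (⟨(q.1 : G) * (q.2 : G), mul_mem (hUH q.1.2) q.2.2.1⟩ : H)) ⟨?_, ?_⟩)).symm
  · rintro ⟨u, k⟩ ⟨u', k'⟩ e
    have e' : (u : G) * (k : G) = (u' : G) * (k' : G) := congrArg Subtype.val e
    have h2 : ((u : G) * (k : G)) • V = ((u' : G) * (k' : G)) • V := by rw [e']
    rw [mul_smul, mul_smul, (mem_two.1 k.2.2).2, (mem_two.1 k'.2.2).2] at h2
    have h1 := S.free hne (mul_mem (inv_mem u'.2) u.2) (by rw [mul_smul, h2, inv_smul_smul])
    have hu : (u : G) = u' := (inv_mul_eq_one.1 h1).symm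
    rw [hu] at e'
    exact Prod.ext (Subtype.ext hu) (Subtype.ext (mul_left_cancel e'))
  · intro g
    have hg : (g : G) • U = U := (fix_mem U).2 (hH g.2)
    obtain ⟨u, hu, hu'⟩ := S.regular hne (W := (g : G) • V)
      (fun e => hne (MulAction.injective (g : G) (hg.trans e.symm)))
    refine ⟨⟨⟨u, hu⟩, ⟨u⁻¹ * (g : G), mem_inf.2 ⟨mul_mem (inv_mem (hUH hu)) g.2, mem_two.2 ⟨?_, ?_⟩⟩⟩⟩,
      Subtype.ext (mul_inv_cancel_left u _)⟩
    · rw [mul_smul, hg, inv_smul_eq_iff, S.smul_self hu]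
    · rw [mul_smul, ← hu', inv_smul_smul]

theorem card_two {U V : Sylow 3 G} (hne : U ≠ V) : Nat.card (two U V) = 8 := by
  have : Fact (Nat.Prime 3) := ⟨Nat.prime_three⟩
  have h1 := S.card_between hne _ le_normalizer le_rfl
  rw [inf_eq_right.2 (inf_le_left : two U V ≤ normalizer ((U : Subgroup G) : Set G))] at h1
  have h2 := (normalizer ((U : Subgroup G) : Set G)).card_mul_index
  have h3 := U.card_eq_index_normalizer
  rw [S.card_sylow U] at h3
  have h3' : (normalizer ((U : Subgroup G) : Set G)).index = 28 := h3.symm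
  rw [S.hyp.card, h3'] at h2
  change Nat.card _ = 27 * Nat.card ↥(two U V) at h1
  linarith

/-- The stabiliser of two points acts on the centre with kernel of order four and fixes no element with value
zero. -/
theorem two_facts {U V : Sylow 3 G} (hne : U ≠ V) {z : G} (hz : z ∈ (U : Subgroup G)) (hz3 : a z = -3) :
    (∀ g ∈ two U V, g * z * g⁻¹ = z ∨ g * z * g⁻¹ = z⁻¹) ∧
      Nat.card ↥(centralizer ({z} : Set G) ⊓ two U V) = 4 ∧
      ∀ d ∈ (U : Subgroup G), a d = 0 → ∀ g ∈ two U V, g * d = d * g → g = 1 := by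
  have : Fact (Nat.Prime 3) := ⟨Nat.prime_three⟩
  have hU := S.card_sylow_three U
  have hzo := S.z_order hU hz hz3
  have hact : ∀ g ∈ two U V, g * z * g⁻¹ = z ∨ g * z * g⁻¹ = z⁻¹ := fun g hg =>
    S.unique_z hU hz hz3 ((mem_normalizer_iff.1 hg.1 z).1 hz) (by rw [S.conj_eq S.vals.charA, hz3])
  set C := centralizer ({z} : Set G) with hC
  have hCN : C ≤ normalizer ((U : Subgroup G) : Set G) := by
    intro g hg
    refine (fix_mem U).1 (S.eq_of_z ?_ hz hz3)
    rw [Sylow.coe_subgroup_smul]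
    exact ⟨z, hz, show g * z * g⁻¹ = z by rw [mem_centralizer_singleton_iff.1 hg, mul_inv_cancel_right]⟩
  have hUC : (U : Subgroup G) ≤ C := fun g hg =>
    mem_centralizer_singleton_iff.2 (S.z_comm hU hz hz3 hg).symm
  have hCz := S.card_between hne C hUC hCN
  set k0 := Nat.card ↥(C ⊓ two U V) with hk0
  have hk08 : k0 ∣ 8 := S.card_two hne ▸ card_dvd_of_le inf_le_right
  have hk04 : 4 ≤ k0 := by
    obtain ⟨t, ht, htt⟩ : ∃ t ∈ two U V, ∀ g ∈ two U V, g ∈ C ∨ t⁻¹ * g ∈ C := by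
      by_cases hall : ∀ g ∈ two U V, g * z * g⁻¹ = z
      · exact ⟨1, one_mem _, fun g hg => Or.inl (mem_centralizer_singleton_iff.2 (mul_inv_eq_iff_eq_mul.1 (hall g hg)))⟩
      · push Not at hall
        obtain ⟨t, ht, htz⟩ := hall
        have ht' : t * z * t⁻¹ = z⁻¹ := (hact t ht).resolve_left htz
        refine ⟨t, ht, fun g hg => ?_⟩
        rcases hact g hg with e | e
        · exact Or.inl (mem_centralizer_singleton_iff.2 (mul_inv_eq_iff_eq_mul.1 e))
        · refine Or.inr (mem_centralizer_singleton_iff.2 ?_)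
          calc t⁻¹ * g * z = t⁻¹ * (g * z * g⁻¹) * g := by group
            _ = t⁻¹ * (t * z * t⁻¹) * g := by rw [e, ht']
            _ = z * (t⁻¹ * g) := by group
    let f : ↥(two U V) → Bool × ↥(C ⊓ two U V) := fun g =>
      if h : (g : G) ∈ C then (false, ⟨g, h, g.2⟩)
      else (true, ⟨t⁻¹ * (g : G), mem_inf.2 ⟨(htt g g.2).resolve_left h, mul_mem (inv_mem ht) g.2⟩⟩)
    have hf : Function.Injective f := by
      intro g g' e
      by_cases h : (g : G) ∈ C <;> by_cases h' : (g' : G) ∈ C <;> simp [f, h, h'] at e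
      · have e' := congrArg Subtype.val e
        exact Subtype.ext e'
      · have e' := congrArg Subtype.val e
        exact Subtype.ext e'
    have := Nat.card_le_card_of_injective f hf
    rw [S.card_two hne, Nat.card_prod, show Nat.card Bool = 2 by simp, ← hk0] at this
    omega
  -- the pairs
  have hzero : ∀ d ∈ (U : Subgroup G), a d = 0 → k0 = 4 ∧ Nat.card (centralizer ({d} : Set G)) = 9 := by
    intro d hd hd0
    have hdo : orderOf d = 3 := S.order_three U.2 hd fun e => by rw [e, S.vals.a_one] at hd0; norm_num at hd0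
    obtain ⟨N, hN⟩ := S.vals.pairs z d (by rw [hzo]; norm_num) (by rw [hdo]; norm_num)
    rw [S.vals.b_zero z (by rw [hzo]), S.vals.b_zero d (by rw [hdo]), S.c_three hzo, S.c_three hdo, hz3, hd0] at hN
    have hN' : Nat.card {x : G // IsConj z x} * Nat.card {x : G // IsConj d x} * 9 = N * 6048 * 8 := by
      exact_mod_cast (show ((Nat.card {x : G // IsConj z x} * Nat.card {x : G // IsConj d x} * 9 : ℕ) : ℂ) =
        ((N * 6048 * 8 : ℕ) : ℂ) by push_cast; linear_combination (8 : ℂ) * hN)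
    have e1 : Nat.card {x : G // IsConj z x} * Nat.card C = 6048 := by
      rw [card_isConj, mul_comm, Subgroup.card_mul_index, S.hyp.card]
    have e2 : Nat.card {x : G // IsConj d x} * Nat.card (centralizer ({d} : Set G)) = 6048 := by
      rw [card_isConj, mul_comm, Subgroup.card_mul_index, S.hyp.card]
    rw [hCz] at e1
    obtain ⟨-, -, hd9⟩ := S.centralizer_zero hd hd0 hz hz3
    obtain ⟨f, hf, hf'⟩ : ∃ f, Nat.card (centralizer ({d} : Set G)) = 9 * f ∧ f ∈ [1, 2] := by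
      rcases hd9 with e | e
      · exact ⟨1, e, List.mem_cons_self⟩
      · exact ⟨2, e, List.mem_cons_of_mem _ List.mem_cons_self⟩
    rw [hf] at e2
    have h28 : 28 = N * (k0 * f) := by
      have h1 : 6048 * (6048 * 9) = N * 6048 * 8 * ((27 * k0) * (9 * f)) := by
        rw [← hN']
        calc 6048 * (6048 * 9) = (Nat.card {x : G // IsConj z x} * (27 * k0)) *
              ((Nat.card {x : G // IsConj d x} * (9 * f)) * 9) := by rw [e1, e2]
          _ = _ := by ring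
      have h2 : 6048 * (6048 * 9) = 6048 * (N * (k0 * f) * 1944) := h1.trans (by ring)
      have := Nat.eq_of_mul_eq_mul_left (by norm_num) h2
      omega
    obtain ⟨h4, h1⟩ := eight_cases k0 (Nat.mem_divisors.2 ⟨hk08, by norm_num⟩) f hf'
      (by rw [h28]; exact Nat.mul_mod_left _ _) hk04
    exact ⟨h4, by rw [hf, h1]⟩
  refine ⟨hact, ?_, fun d hd hd0 g hg hgd => ?_⟩
  · obtain ⟨d, hd, hd0⟩ : ∃ d ∈ (U : Subgroup G), a d = 0 := by
      by_contra! hall
      have hle : (U : Subgroup G) ≤ zpowers z := fun d hd => by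
        by_cases h1 : d = 1
        · rw [h1]; exact one_mem _
        · exact S.mem_zp hU hz hz3 hd ((S.vals.three d (S.order_three U.2 hd h1)).resolve_left (hall d hd))
      have := card_le_of_le hle
      rw [hU, Nat.card_zpowers, hzo] at this
      omega
    exact (hzero d hd hd0).1
  · have h1 : g ∈ centralizer ({d} : Set G) := mem_centralizer_singleton_iff.2 hgd
    have h2 := Subgroup.orderOf_dvd_natCard _ h1
    rw [(hzero d hd hd0).2] at h2
    have h3 := Subgroup.orderOf_dvd_natCard _ hg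
    rw [S.card_two hne] at h3
    exact orderOf_eq_one_iff.1 (Nat.dvd_one.1 ((Nat.dvd_gcd h2 h3).trans (by norm_num)))

theorem exists_gens : ∃ U V : Sylow 3 G, ∃ x y z k : G, Gens S U V x y z k := by
  have : Fact (Nat.Prime 3) := ⟨Nat.prime_three⟩
  obtain ⟨U⟩ : Nonempty (Sylow 3 G) := inferInstance
  obtain ⟨V, hV⟩ : ∃ V : Sylow 3 G, U ≠ V := by
    by_contra! hall
    have := S.card_sylow U
    rw [Nat.card_eq_one_iff_exists.2 ⟨U, fun V => (hall V).symm⟩] at this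
    omega
  have hU := S.card_sylow_three U
  obtain ⟨z₀, hz₀, hz3⟩ := S.exists_z U
  obtain ⟨hact, hK4, hfree⟩ := S.two_facts hV hz₀ hz3
  have hK8 := S.card_two hV
  have hzc : ∀ u ∈ (U : Subgroup G), z₀ * u = u * z₀ := fun u hu => S.z_comm hU hz₀ hz3 hu
  have hzz : z₀ ^ 3 = 1 := S.cube U.2 hz₀
  have cube' : ∀ u ∈ (U : Subgroup G), u ^ 3 = 1 := fun u hu => S.cube U.2 hu
  have zero_of : ∀ u ∈ (U : Subgroup G), u ∉ zpowers z₀ → a u = 0 := fun u hu hn =>
    (S.vals.three u (S.order_three U.2 hu fun e => hn (e ▸ one_mem _))).resolve_right fun e =>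
      hn (S.mem_zp hU hz₀ hz3 hu e)
  have conjU : ∀ g ∈ two U V, ∀ u ∈ (U : Subgroup G), g * u * g⁻¹ ∈ (U : Subgroup G) := fun g hg u hu =>
    (mem_normalizer_iff.1 hg.1 u).1 hu
  -- no element fixes a coset of the centre
  have fixco : ∀ g ∈ two U V, ∀ d ∈ (U : Subgroup G), d ∉ zpowers z₀ →
      g * d * g⁻¹ * d⁻¹ ∈ zpowers z₀ → g = 1 := by
    intro g hg d hd hdz hm
    obtain ⟨i, hi, e⟩ := cyc3 hzz hm
    have e' : g * d * g⁻¹ = z₀ ^ i * d := by rw [← e, inv_mul_cancel_right]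
    rcases hact g hg with hp | hp
    · -- the coset is fixed by a power prime to three
      have hzi : g * z₀ ^ i * g⁻¹ = z₀ ^ i := by
        rw [show g * z₀ ^ i * g⁻¹ = MulAut.conj g (z₀ ^ i) from rfl, map_pow, MulAut.conj_apply, hp]
      have step : ∀ n : ℕ, g ^ n * d * (g ^ n)⁻¹ = z₀ ^ (i * n) * d := by
        intro n
        induction n with
        | zero => simp
        | succ n ih =>
          have hzn : g * z₀ ^ (i * n) * g⁻¹ = z₀ ^ (i * n) := by
            rw [show g * z₀ ^ (i * n) * g⁻¹ = MulAut.conj g (z₀ ^ (i * n)) from rfl, map_pow, MulAut.conj_apply, hp]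
          rw [show g ^ (n + 1) * d * (g ^ (n + 1))⁻¹ = g * (g ^ n * d * (g ^ n)⁻¹) * g⁻¹ by
            rw [pow_succ']; group, ih,
            show g * (z₀ ^ (i * n) * d) * g⁻¹ = g * z₀ ^ (i * n) * g⁻¹ * (g * d * g⁻¹) by group, hzn, e',
            ← mul_assoc, ← pow_add, Nat.mul_succ]
      have g8 : g ^ 8 = 1 := orderOf_dvd_iff_pow_eq_one.1 (hK8 ▸ Subgroup.orderOf_dvd_natCard _ hg)
      have h8 := step 8
      rw [g8, inv_one, mul_one, one_mul, right_eq_mul] at h8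
      have hi0 : i = 0 := by
        have := orderOf_dvd_of_pow_eq_one h8
        rw [S.z_order hU hz₀ hz3] at this
        omega
      refine hfree d hd (zero_of d hd hdz) g hg ?_
      rw [hi0, pow_zero, one_mul] at e'
      exact mul_inv_eq_iff_eq_mul.1 e'
    · have hmem : z₀ ^ (2 * i) * d ∈ (U : Subgroup G) := mul_mem (pow_mem hz₀ _) hd
      have hn : z₀ ^ (2 * i) * d ∉ zpowers z₀ := fun h =>
        hdz (by simpa using mul_mem (inv_mem (pow_mem (mem_zpowers z₀) (2 * i))) h)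
      refine hfree _ hmem (zero_of _ hmem hn) g hg ?_
      rw [← mul_inv_eq_iff_eq_mul]
      calc g * (z₀ ^ (2 * i) * d) * g⁻¹ = (g * z₀ ^ (2 * i) * g⁻¹) * (g * d * g⁻¹) := by group
        _ = (z₀⁻¹) ^ (2 * i) * (z₀ ^ i * d) := by
          rw [e', show g * z₀ ^ (2 * i) * g⁻¹ = MulAut.conj g (z₀ ^ (2 * i)) from rfl, map_pow, MulAut.conj_apply, hp]
        _ = z₀ ^ (2 * i) * d := by
          rw [← mul_assoc]
          congr 1
          rw [inv_pow, inv_mul_eq_iff_eq_mul, ← pow_add,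
            show 2 * i + 2 * i = i + 3 * i by ring, pow_add, pow_mul, hzz, one_pow, mul_one]
  -- an element inverting the centre
  obtain ⟨k, hk, hkz⟩ : ∃ k ∈ two U V, k * z₀ * k⁻¹ = z₀⁻¹ := by
    by_contra! hall
    have hle : two U V ≤ centralizer ({z₀} : Set G) ⊓ two U V := fun g hg =>
      ⟨mem_centralizer_singleton_iff.2 (mul_inv_eq_iff_eq_mul.1 ((hact g hg).resolve_right (hall g hg))), hg⟩
    have := card_le_of_le hle
    omega
  obtain ⟨x, hx, hxz⟩ : ∃ x ∈ (U : Subgroup G), x ∉ zpowers z₀ := by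
    by_contra! hall
    have := card_le_of_le (show (U : Subgroup G) ≤ zpowers z₀ from hall)
    rw [hU, Nat.card_zpowers, S.z_order hU hz₀ hz3] at this
    omega
  set y := k * x * k⁻¹ with hy_def
  have hy : y ∈ (U : Subgroup G) := conjU k hk x hx
  have hkzp : ∀ w ∈ zpowers z₀, k * w * k⁻¹ = w⁻¹ := by
    intro w hw
    obtain ⟨j, rfl⟩ := mem_zpowers_iff.1 hw
    rw [show k * z₀ ^ j * k⁻¹ = MulAut.conj k (z₀ ^ j) from rfl, map_zpow, MulAut.conj_apply, hkz, inv_zpow]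
  have hk1 : k ≠ 1 := fun e => by
    rw [e, one_mul, inv_one, mul_one] at hkz
    have := orderOf_dvd_of_pow_eq_one (x := z₀) (n := 2) (by
      rw [pow_two]; nth_rewrite 2 [hkz]; exact mul_inv_cancel z₀)
    rw [S.z_order hU hz₀ hz3] at this
    omega
  have hzmod : ∀ u ∈ (U : Subgroup G), ∀ w ∈ zpowers z₀, Commute w u := fun u hu w hw => by
    obtain ⟨j, rfl⟩ := mem_zpowers_iff.1 hw
    exact (show Commute z₀ u from hzc u hu).zpow_left j
  -- `k` is not an involution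
  have hk2 : k * k ≠ 1 := by
    intro hkk
    have hinv : ∀ e ∈ (U : Subgroup G), k * e * k⁻¹ * e ∈ zpowers z₀ := by
      intro e he
      by_contra hn
      set f := k * e * k⁻¹ with hf
      have hfU : f ∈ (U : Subgroup G) := conjU k hk e he
      have hkf : k * f * k⁻¹ = e := by
        rw [hf, show k * (k * e * k⁻¹) * k⁻¹ = (k * k) * e * (k * k)⁻¹ by group, hkk]; group
      refine hk1 (fixco k hk (f * e) (mul_mem hfU he) hn ?_)
      rw [show k * (f * e) * k⁻¹ * (f * e)⁻¹ = (k * f * k⁻¹) * (k * e * k⁻¹) * e⁻¹ * f⁻¹ by group, hkf]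
      exact S.comm_mem hU hz₀ hz3 he hfU
    obtain ⟨e, he, hxe⟩ : ∃ e ∈ (U : Subgroup G), x * e ≠ e * x := by
      by_contra! hall
      have hle : (U : Subgroup G) ≤ zpowers x ⊔ zpowers z₀ := fun e he =>
        S.commuting_span hU hz₀ hz3 hx (zero_of x hx hxz) he (hall e he)
      have := card_le_of_le hle
      by_cases h : z₀ ∈ zpowers x
      · rw [hU, sup_eq_left.2 (zpowers_le.2 h), Nat.card_zpowers,
          S.order_three U.2 hx (fun e => hxz (e ▸ one_mem _))] at this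
        omega
      · rw [hU, S.card_pair (S.order_three U.2 hx (fun e => hxz (e ▸ one_mem _))) (S.z_order hU hz₀ hz3)
          (hzc x hx).symm h] at this
        omega
    set w := x * e * x⁻¹ * e⁻¹ with hw
    have hwz : w ∈ zpowers z₀ := S.comm_mem hU hz₀ hz3 hx he
    have h1 : k * w * k⁻¹ = (k * x * k⁻¹) * (k * e * k⁻¹) * (k * x * k⁻¹)⁻¹ * (k * e * k⁻¹)⁻¹ := by
      rw [hw]; group
    obtain ⟨s, hs, hsx⟩ : ∃ s ∈ zpowers z₀, k * x * k⁻¹ = s * x⁻¹ :=
      ⟨_, hinv x hx, by rw [mul_inv_cancel_right]⟩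
    obtain ⟨t, ht, hte⟩ : ∃ t ∈ zpowers z₀, k * e * k⁻¹ = t * e⁻¹ :=
      ⟨_, hinv e he, by rw [mul_inv_cancel_right]⟩
    have hcx := hzmod x hx
    have hce := hzmod e he
    have h2 : s * x⁻¹ * (t * e⁻¹) * (s * x⁻¹)⁻¹ * (t * e⁻¹)⁻¹ = x⁻¹ * e⁻¹ * x * e := by
      have q1 : Commute s (x⁻¹ * e⁻¹ * x) :=
        (((hcx s hs).inv_right).mul_right (hce s hs).inv_right).mul_right (hcx s hs)
      have q2 : Commute t (e⁻¹ * x) := ((hce t ht).inv_right).mul_right (hcx t ht)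
      have q3 : Commute t s := hzmod s (zpowers_le.2 hz₀ hs) t ht
      calc s * x⁻¹ * (t * e⁻¹) * (s * x⁻¹)⁻¹ * (t * e⁻¹)⁻¹
          = s * x⁻¹ * (t * (e⁻¹ * x)) * s⁻¹ * e * t⁻¹ := by group
        _ = s * x⁻¹ * ((e⁻¹ * x) * t) * s⁻¹ * e * t⁻¹ := by rw [q2.eq]
        _ = s * (x⁻¹ * e⁻¹ * x) * (t * s⁻¹) * e * t⁻¹ := by group
        _ = (x⁻¹ * e⁻¹ * x) * s * (s⁻¹ * t) * e * t⁻¹ := by rw [q1.eq, q3.inv_right.eq]
        _ = (x⁻¹ * e⁻¹ * x) * (t * e) * t⁻¹ := by group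
        _ = (x⁻¹ * e⁻¹ * x) * (e * t) * t⁻¹ := by rw [(hce t ht).eq]
        _ = x⁻¹ * e⁻¹ * x * e := by group
    rw [hkzp w hwz, hsx, hte, h2] at h1
    -- so the commutator is its own inverse
    have h3 : x⁻¹ * e⁻¹ * x * e = w := by
      have q : Commute w (e * x) := (hce w hwz).mul_right (hcx w hwz)
      have e1 : x * e = w * (e * x) := by rw [hw]; group
      calc x⁻¹ * e⁻¹ * x * e = x⁻¹ * e⁻¹ * (x * e) := by group
        _ = x⁻¹ * e⁻¹ * ((e * x) * w) := by rw [e1, q.eq]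
        _ = w := by group
    rw [h3] at h1
    have hw1 : w ≠ 1 := fun h => hxe (mul_inv_eq_iff_eq_mul.1 (mul_inv_eq_one.1 h))
    have := orderOf_dvd_of_pow_eq_one (x := w) (n := 2) (by
      rw [pow_two]; nth_rewrite 1 [← h1]; exact inv_mul_cancel w)
    rw [S.order_three U.2 (zpowers_le.2 hz₀ hwz) hw1] at this
    omega
  -- `x` and its image generate
  have hsp : ∀ u ∈ (U : Subgroup G), ∃ i j l, i < 3 ∧ j < 3 ∧ l < 3 ∧ u = x ^ i * y ^ j * z₀ ^ l := by
    set Z := (zpowers z₀).subgroupOf (U : Subgroup G) with hZ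
    have hn : Z.Normal := ⟨fun n hn g => by
      rw [hZ, mem_subgroupOf] at hn ⊢
      show (g : G) * (n : G) * (g : G)⁻¹ ∈ zpowers z₀
      rw [← (hzmod (g : G) g.2 _ hn).eq, mul_inv_cancel_right]
      exact hn⟩
    have hq : Nat.card ((U : Subgroup G) ⧸ Z) = 9 := by
      have h1 := Z.card_eq_card_quotient_mul_card_subgroup
      rw [hU, Nat.card_congr (subgroupOfEquivOfLe (zpowers_le.2 hz₀)).toEquiv, Nat.card_zpowers,
        S.z_order hU hz₀ hz3] at h1
      omega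
    let q : Fin 3 × Fin 3 → (U : Subgroup G) ⧸ Z := fun p =>
      ((⟨x ^ (p.1 : ℕ) * y ^ (p.2 : ℕ), mul_mem (pow_mem hx _) (pow_mem hy _)⟩ : (U : Subgroup G)) : _ ⧸ Z)
    have hqi : Function.Injective q := by
      rintro ⟨i, j⟩ ⟨i', j'⟩ e
      rw [QuotientGroup.eq, hZ, mem_subgroupOf] at e
      change (x ^ (i : ℕ) * y ^ (j : ℕ))⁻¹ * (x ^ (i' : ℕ) * y ^ (j' : ℕ)) ∈ zpowers z₀ at e
      have hx3 := cube' x hx
      have hy3 := cube' y hy
      set H := zpowers x ⊔ zpowers z₀ with hH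
      have hHU : H ≤ (U : Subgroup G) := sup_le (zpowers_le.2 hx) (zpowers_le.2 hz₀)
      have hZH : zpowers z₀ ≤ H := le_sup_right
      -- `y` is not in the group spanned by `x` and the centre
      have hyH : y ∉ H := by
        intro hyH
        have hr : (pairHom (zpowers x) (zpowers z₀) fun u hu v hv =>
            (hzmod u (zpowers_le.2 hx hu) v hv).symm).range = H := by
          rw [show (pairHom (zpowers x) (zpowers z₀) _).range = _ from MonoidHom.noncommCoprod_range _ _ _,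
            range_subtype, range_subtype]
        obtain ⟨⟨p, v⟩, hpv⟩ := hr ▸ hyH
        change (p : G) * (v : G) = y at hpv
        obtain ⟨r, hr3, hp⟩ := cyc3 hx3 p.2
        rw [hp] at hpv
        interval_cases r
        · rw [pow_zero, one_mul] at hpv
          have hyz : y ∈ zpowers z₀ := hpv ▸ v.2
          refine hxz ?_
          have e2 : x = y⁻¹ := by
            have := hkzp y⁻¹ (inv_mem hyz)
            rw [inv_inv] at this
            calc x = k⁻¹ * y * k := by rw [hy_def]; group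
              _ = k⁻¹ * (k * y⁻¹ * k⁻¹) * k := by rw [this]
              _ = y⁻¹ := by group
          exact e2 ▸ inv_mem hyz
        · rw [pow_one] at hpv
          refine hk1 (fixco k hk x hx hxz ?_)
          rw [← hy_def, ← hpv, ← (hzmod x hx _ v.2).eq, mul_inv_cancel_right]
          exact v.2
        · refine hk2 (fixco (k * k) (mul_mem hk hk) x hx hxz ?_)
          have e1 : k * k * x * (k * k)⁻¹ = (k * x * k⁻¹) * (k * x * k⁻¹) * (k * (v : G) * k⁻¹) := by
            rw [show k * k * x * (k * k)⁻¹ = k * y * k⁻¹ by rw [hy_def]; group, ← hpv, pow_two]; group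
          rw [e1, hkzp _ v.2, ← hy_def, ← hpv]
          have c := hzmod x hx _ v.2
          have e7 : x ^ 2 * (v : G) * (x ^ 2 * (v : G)) * (v : G)⁻¹ * x⁻¹ = x ^ 3 * (v : G) := by
            calc x ^ 2 * (v : G) * (x ^ 2 * (v : G)) * (v : G)⁻¹ * x⁻¹ = x ^ 2 * ((v : G) * x) := by group
              _ = x ^ 3 * (v : G) := by rw [c.eq]; group
          rw [e7, hx3, one_mul]; exact v.2
      have hconj : ∀ u ∈ (U : Subgroup G), ∀ h ∈ H, u * h * u⁻¹ ∈ H := by
        intro u hu h hh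
        have := mul_mem (hZH (S.comm_mem hU hz₀ hz3 hu (hHU hh))) hh
        rwa [inv_mul_cancel_right] at this
      have hA : ((x ^ (i : ℕ))⁻¹ * x ^ (i' : ℕ)) ∈ H :=
        mul_mem (inv_mem (pow_mem (mem_sup_left (mem_zpowers x)) _)) (pow_mem (mem_sup_left (mem_zpowers x)) _)
      have hyr : (y ^ (j : ℕ))⁻¹ * y ^ (j' : ℕ) ∈ H := by
        have h1 := mul_mem (inv_mem (hconj _ (inv_mem (pow_mem hy (j : ℕ))) _ hA)) (hZH e)
        convert h1 using 1
        group
      by_cases hjj : j = j'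
      · subst hjj
        by_contra hne
        have hii : (i : ℕ) ≠ (i' : ℕ) := fun h => hne (Prod.ext (Fin.ext h) rfl)
        have hAz : (x ^ (i : ℕ))⁻¹ * x ^ (i' : ℕ) ∈ zpowers z₀ := by
          have h5 : y ^ (j : ℕ) * ((x ^ (i : ℕ) * y ^ (j : ℕ))⁻¹ * (x ^ (i' : ℕ) * y ^ (j : ℕ))) * (y ^ (j : ℕ))⁻¹ =
              (x ^ (i : ℕ))⁻¹ * x ^ (i' : ℕ) := by group
          rw [← h5, ← (hzmod _ (pow_mem hy (j : ℕ)) _ e).eq, mul_inv_cancel_right]
          exact e
        have h1 : ∀ r : Fin 3, (r : ℕ) ≠ 0 → x ^ (r : ℕ) ∈ zpowers z₀ → False := by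
          intro r hr0 hm
          rcases (show (r : ℕ) = 1 ∨ (r : ℕ) = 2 by omega) with h | h <;> rw [h] at hm
          · exact hxz (by simpa using hm)
          · have := inv_mem hm
            rw [show (x ^ 2)⁻¹ = x by rw [inv_eq_iff_mul_eq_one, ← pow_succ, hx3]] at this
            exact hxz this
        have e6 : (x ^ (i : ℕ))⁻¹ * x ^ (i' : ℕ) = x ^ ((i' - i : Fin 3) : ℕ) := by
          rw [inv_mul_eq_iff_eq_mul, ← pow_add]
          exact (pow_eq_pow_iff_modEq.2 (by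
            rw [S.order_three U.2 hx fun e => hxz (e ▸ one_mem _)]; unfold Nat.ModEq; omega))
        rw [e6] at hAz
        exact h1 _ (by omega) hAz
      · exfalso
        have hjj' : (j : ℕ) ≠ (j' : ℕ) := fun h => hjj (Fin.ext h)
        have e6 : (y ^ (j : ℕ))⁻¹ * y ^ (j' : ℕ) = y ^ ((j' - j : Fin 3) : ℕ) := by
          rw [inv_mul_eq_iff_eq_mul, ← pow_add]
          refine pow_eq_pow_iff_modEq.2 ?_
          rw [S.order_three U.2 hy fun e => hyH (e ▸ one_mem _)]; unfold Nat.ModEq; omega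
        rw [e6] at hyr
        rcases (show ((j' - j : Fin 3) : ℕ) = 1 ∨ ((j' - j : Fin 3) : ℕ) = 2 by omega) with h | h <;> rw [h] at hyr
        · exact hyH (by simpa using hyr)
        · have := inv_mem hyr
          rw [show (y ^ 2)⁻¹ = y by rw [inv_eq_iff_mul_eq_one, ← pow_succ, hy3]] at this
          exact hyH this
    have hcard : Fintype.card (Fin 3 × Fin 3) = Fintype.card ((U : Subgroup G) ⧸ Z) := by
      rw [← Nat.card_eq_fintype_card (α := (U : Subgroup G) ⧸ Z), hq]; rfl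
    have hqs := ((Fintype.bijective_iff_injective_and_card q).2 ⟨hqi, hcard⟩).2
    intro u hu
    obtain ⟨⟨i, j⟩, hij⟩ := hqs ((⟨u, hu⟩ : (U : Subgroup G)) : _ ⧸ Z)
    rw [QuotientGroup.eq, hZ, mem_subgroupOf] at hij
    obtain ⟨l, hl, e⟩ := cyc3 hzz hij
    refine ⟨i, j, l, i.2, j.2, hl, ?_⟩
    rw [← e]
    show u = _ * ((x ^ (i : ℕ) * y ^ (j : ℕ))⁻¹ * u)
    rw [mul_inv_cancel_left]
  set z := x * y * x⁻¹ * y⁻¹ with hz_def
  have hzU : z ∈ zpowers z₀ := S.comm_mem hU hz₀ hz3 hx hy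
  have hzne : z ≠ 1 := by
    intro h1
    have hxy : x * y = y * x := mul_inv_eq_iff_eq_mul.1 (mul_inv_eq_one.1 h1)
    have hle : ∀ u ∈ (U : Subgroup G), x * u = u * x := by
      intro u hu
      obtain ⟨i, j, l, -, -, -, rfl⟩ := hsp u hu
      have c1 : Commute x (x ^ i) := Commute.pow_right rfl i
      have c2 : Commute x (y ^ j) := (show Commute x y from hxy).pow_right j
      have c3 : Commute x (z₀ ^ l) := ((show Commute z₀ x from hzc x hx).symm).pow_right l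
      exact ((c1.mul_right c2).mul_right c3).eq
    have hsub : (U : Subgroup G) ≤ zpowers x ⊔ zpowers z₀ := fun u hu =>
      S.commuting_span hU hz₀ hz3 hx (zero_of x hx hxz) hu (hle u hu)
    have := card_le_of_le hsub
    by_cases h : z₀ ∈ zpowers x
    · rw [hU, sup_eq_left.2 (zpowers_le.2 h), Nat.card_zpowers,
        S.order_three U.2 hx (fun e => hxz (e ▸ one_mem _))] at this
      omega
    · rw [hU, S.card_pair (S.order_three U.2 hx (fun e => hxz (e ▸ one_mem _))) (S.z_order hU hz₀ hz3)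
        (hzc x hx).symm h] at this
      omega
  have hzcc : ∀ u ∈ (U : Subgroup G), z * u = u * z := fun u hu => (hzmod u hu z hzU).eq
  have hz1U : z ∈ (U : Subgroup G) := zpowers_le.2 hz₀ hzU
  have hpowz : zpowers z = zpowers z₀ := eq_of_le_of_card_ge (zpowers_le.2 hzU) (by
    rw [Nat.card_zpowers, Nat.card_zpowers, S.order_three U.2 hz1U hzne, S.z_order hU hz₀ hz3])
  -- the image of `y`
  obtain ⟨i, j, l, hi, hj, hl, hky⟩ := hsp (k * y * k⁻¹) (conjU k hk y hy)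
  have hx3 := cube' x hx
  have hy3 := cube' y hy
  have hz₀3 := hzz
  obtain ⟨l', hl', hl''⟩ := cyc3 (cube' z hz1U) (hpowz ▸ pow_mem (mem_zpowers z₀) l : z₀ ^ l ∈ zpowers z)
  rw [hl''] at hky
  have hczx := hzcc x hx
  have hczy := hzcc y hy
  have hkzz : k * z * k⁻¹ = z⁻¹ := hkzp z hzU
  -- the exponent of `x` is one
  have hi1 : i = 1 := by
    have h1 : k * z * k⁻¹ = y * (x ^ i * y ^ j * z ^ l') * y⁻¹ * (x ^ i * y ^ j * z ^ l')⁻¹ := by
      rw [← hky, hz_def, hy_def]; group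
    rw [hkzz] at h1
    have c1 : Commute (z ^ l') y⁻¹ := ((show Commute z y from hczy).pow_left l').inv_right
    have h2 : y * (x ^ i * y ^ j * z ^ l') * y⁻¹ * (x ^ i * y ^ j * z ^ l')⁻¹ = y * x ^ i * y⁻¹ * (x ^ i)⁻¹ := by
      calc y * (x ^ i * y ^ j * z ^ l') * y⁻¹ * (x ^ i * y ^ j * z ^ l')⁻¹
          = y * x ^ i * y ^ j * (z ^ l' * y⁻¹) * (z ^ l')⁻¹ * (y ^ j)⁻¹ * (x ^ i)⁻¹ := by group
        _ = y * x ^ i * y ^ j * (y⁻¹ * z ^ l') * (z ^ l')⁻¹ * (y ^ j)⁻¹ * (x ^ i)⁻¹ := by rw [c1.eq]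
        _ = y * x ^ i * y⁻¹ * (x ^ i)⁻¹ := by group
    rw [h2] at h1
    have hyx : y * x * y⁻¹ = z⁻¹ * x := by
      rw [hz_def]; group
    have h3 : y * x ^ i * y⁻¹ = (z⁻¹) ^ i * x ^ i := by
      rw [show y * x ^ i * y⁻¹ = MulAut.conj y (x ^ i) from rfl, map_pow, MulAut.conj_apply, hyx,
        (show Commute z⁻¹ x from (show Commute z x from hczx).inv_left).mul_pow]
    rw [h3, mul_inv_cancel_right] at h1
    have h4 := orderOf_eq_prime (p := 3) (show (z⁻¹) ^ 3 = 1 by rw [inv_pow, cube' z hz1U, inv_one]) (inv_ne_one.2 hzne)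
    have h5 : (z⁻¹) ^ i = (z⁻¹) ^ 1 := by rw [pow_one]; exact h1.symm
    rw [pow_eq_pow_iff_modEq, h4] at h5
    unfold Nat.ModEq at h5
    omega
  subst hi1
  rw [pow_one] at hky
  -- the exponent of `y` is not zero
  have hj0 : j ≠ 0 := by
    intro h0
    rw [h0, pow_zero, mul_one] at hky
    refine hk2 (fixco (k * k) (mul_mem hk hk) x hx hxz ?_)
    have : k * k * x * (k * k)⁻¹ * x⁻¹ = z ^ l' := by
      rw [show k * k * x * (k * k)⁻¹ = k * y * k⁻¹ by rw [hy_def]; group, hky,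
        ((show Commute z x from hczx).pow_left l').symm.eq, mul_inv_cancel_right]
    rw [this, ← hpowz]
    exact pow_mem (mem_zpowers z) l'
  have gen : ∀ k' ∈ two U V, k' * z₀ * k'⁻¹ = z₀⁻¹ → k' * k' ≠ 1 →
      (k' * k' * (k' * k')) ≠ 1 → zpowers k' = two U V := by
    intro k' hk' _ h2 h4
    refine eq_of_le_of_card_ge (zpowers_le.2 hk') ?_
    rw [hK8, Nat.card_zpowers]
    have h8 := Subgroup.orderOf_dvd_natCard _ hk'
    rw [hK8] at h8
    obtain ⟨r, hr, e⟩ := (Nat.dvd_prime_pow Nat.prime_two).1 (show orderOf k' ∣ 2 ^ 3 from h8)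
    rw [e]
    by_contra hlt
    have hr2 : r ≤ 2 := by
      by_contra h
      rw [show r = 3 by omega] at hlt
      exact hlt le_rfl
    refine h4 ?_
    rw [show k' * k' * (k' * k') = k' ^ 4 by simp [pow_succ, mul_assoc]]
    exact orderOf_dvd_iff_pow_eq_one.1 (e ▸ pow_dvd_pow 2 hr2)
  -- the final normalisation
  have finish : ∀ k' ∈ two U V, k' * z₀ * k'⁻¹ = z₀⁻¹ → ∀ x' ∈ (U : Subgroup G), x' ∉ zpowers z₀ →
      ∀ y', k' * x' * k'⁻¹ = y' → x' * y' * x'⁻¹ * y'⁻¹ = z → k' * y' * k'⁻¹ = x' * y' →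
      ∃ U V : Sylow 3 G, ∃ x y z k : G, Gens S U V x y z k := by
    intro k' hk' hk'z x' hx' hx'z y' hxy' hzd hky'
    have hy' : y' ∈ (U : Subgroup G) := hxy' ▸ conjU k' hk' x' hx'
    have hk'zz : k' * z * k'⁻¹ = z⁻¹ := by
      obtain ⟨t, ht⟩ := mem_zpowers_iff.1 hzU
      rw [← ht, show k' * z₀ ^ t * k'⁻¹ = MulAut.conj k' (z₀ ^ t) from rfl, map_zpow, MulAut.conj_apply, hk'z, inv_zpow]
    refine ⟨U, V, x', y', z, k', hV, hx', hy', hz1U, hzne, hzd, hzcc, hk', hxy', hky', hk'zz, ?_⟩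
    have e2 : k' * k' * x' * (k' * k')⁻¹ = x' * y' := by
      rw [show k' * k' * x' * (k' * k')⁻¹ = k' * (k' * x' * k'⁻¹) * k'⁻¹ by group, hxy', hky']
    have hy'z : y' ∉ zpowers z₀ := fun hm => by
      have h1 : x' = k'⁻¹ * y' * k' := by rw [← hxy']; group
      obtain ⟨t, ht⟩ := mem_zpowers_iff.1 hm
      refine hx'z ⟨-t, ?_⟩
      show z₀ ^ (-t) = x'
      rw [h1, ← ht]
      have h2 : k' * z₀ ^ (-t) * k'⁻¹ = z₀ ^ t := by
        rw [show k' * z₀ ^ (-t) * k'⁻¹ = MulAut.conj k' (z₀ ^ (-t)) from rfl, map_zpow, MulAut.conj_apply, hk'z,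
          inv_zpow', neg_neg]
      rw [← h2]; group
    have hne2 : k' * k' ≠ 1 := fun h => by
      rw [h, inv_one, mul_one, one_mul, left_eq_mul] at e2
      exact hy'z (e2 ▸ one_mem _)
    refine gen k' hk' hk'z hne2 fun h => ?_
    have e4 : k' * k' * (x' * y') * (k' * k')⁻¹ = x' * y' * (k' * (x' * y') * k'⁻¹) := by
      rw [show k' * k' * (x' * y') * (k' * k')⁻¹ = (k' * k' * x' * (k' * k')⁻¹) * (k' * (k' * y' * k'⁻¹) * k'⁻¹) by group,
        e2, hky']
    have e5 : k' * k' * (k' * k') * x' * (k' * k' * (k' * k'))⁻¹ = x' * y' * (y' * (x' * y')) := by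
      rw [show k' * k' * (k' * k') * x' * (k' * k' * (k' * k'))⁻¹ =
        k' * k' * (k' * k' * x' * (k' * k')⁻¹) * (k' * k')⁻¹ by group, e2, e4,
        show k' * (x' * y') * k'⁻¹ = (k' * x' * k'⁻¹) * (k' * y' * k'⁻¹) by group, hxy', hky']
    rw [h, inv_one, mul_one, one_mul, mul_assoc, left_eq_mul] at e5
    -- then `x'` is central modulo the centre
    have hy3' := cube' y' hy'
    refine hx'z ?_
    have h6 : x' = (y' * (y' * x' * y'⁻¹ * x'⁻¹) * x' * (y' * y'))⁻¹ * x' := by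
      nth_rewrite 1 [show x' = 1⁻¹ * x' by group, ← e5]
      group
    have h7 : y' * (y' * x' * y'⁻¹ * x'⁻¹) * x' * (y' * y') = x' * (y' * x' * y'⁻¹ * x'⁻¹) * (y' * x' * y'⁻¹ * x'⁻¹) := by
      have hc : ∀ u ∈ (U : Subgroup G), Commute (y' * x' * y'⁻¹ * x'⁻¹) u := fun u hu =>
        hzmod u hu _ (S.comm_mem hU hz₀ hz3 hy' hx')
      calc y' * (y' * x' * y'⁻¹ * x'⁻¹) * x' * (y' * y') = (y' * x' * y'⁻¹ * x'⁻¹) * y' * x' * (y' * y') := by
            rw [(hc y' hy').eq]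
        _ = (y' * x' * y'⁻¹ * x'⁻¹) * ((y' * x' * y'⁻¹ * x'⁻¹) * x' * y' ^ 3) := by simp [pow_succ, mul_assoc]
        _ = x' * (y' * x' * y'⁻¹ * x'⁻¹) * (y' * x' * y'⁻¹ * x'⁻¹) := by
            rw [hy3', mul_one, ← mul_assoc, ((hc x' hx').mul_left (hc x' hx')).eq]; group
    rw [h7] at h6
    have h8 : x' * (y' * x' * y'⁻¹ * x'⁻¹) * (y' * x' * y'⁻¹ * x'⁻¹) = 1 := by
      have := h6.symm
      rwa [mul_eq_right, inv_eq_one] at this
    have h9 := S.comm_mem hU hz₀ hz3 hy' hx'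
    rw [mul_assoc, mul_eq_one_iff_eq_inv] at h8
    rw [h8]
    exact inv_mem (mul_mem h9 h9)
  have shift : ∀ k' ∈ two U V, k' * z₀ * k'⁻¹ = z₀⁻¹ → ∀ x' ∈ (U : Subgroup G), x' ∉ zpowers z₀ →
      ∀ y', k' * x' * k'⁻¹ = y' → x' * y' * x'⁻¹ * y'⁻¹ = z → ∀ n : ℕ, k' * y' * k'⁻¹ = x' * y' * z ^ n →
      ∃ U V : Sylow 3 G, ∃ x y z k : G, Gens S U V x y z k := by
    intro k' hk' hk'z x' hx' hx'z y' hxy' hzd n hky'
    have hy' : y' ∈ (U : Subgroup G) := hxy' ▸ conjU k' hk' x' hx'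
    have hw : z ^ n ∈ zpowers z₀ := pow_mem hzU n
    set w := z ^ n with hw_def
    have hk'w : k' * w⁻¹ * k'⁻¹ = w := by
      obtain ⟨t, ht⟩ := mem_zpowers_iff.1 (inv_mem hw)
      rw [← ht, show k' * z₀ ^ t * k'⁻¹ = MulAut.conj k' (z₀ ^ t) from rfl, map_zpow, MulAut.conj_apply, hk'z,
        inv_zpow, ht, inv_inv]
    have cx : Commute w x' := hzmod x' hx' w hw
    have cy : Commute w y' := hzmod y' hy' w hw
    refine finish k' hk' hk'z (x' * w⁻¹) (mul_mem hx' (inv_mem (zpowers_le.2 hz₀ hw))) (fun h => hx'z ?_)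
      (y' * w) ?_ ?_ ?_
    · have := mul_mem h hw
      rwa [inv_mul_cancel_right] at this
    · rw [show k' * (x' * w⁻¹) * k'⁻¹ = (k' * x' * k'⁻¹) * (k' * w⁻¹ * k'⁻¹) by group, hk'w, hxy']
    · calc x' * w⁻¹ * (y' * w) * (x' * w⁻¹)⁻¹ * (y' * w)⁻¹
          = x' * (w⁻¹ * y') * (w * w * x'⁻¹) * w⁻¹ * y'⁻¹ := by group
        _ = x' * (y' * w⁻¹) * (x'⁻¹ * (w * w)) * w⁻¹ * y'⁻¹ := by
            rw [cy.inv_left.eq, (cx.inv_right.mul_left cx.inv_right).eq]
        _ = x' * y' * (w⁻¹ * x'⁻¹) * w * y'⁻¹ := by group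
        _ = x' * y' * (x'⁻¹ * w⁻¹) * w * y'⁻¹ := by rw [cx.inv_right.inv_left.eq]
        _ = x' * y' * x'⁻¹ * y'⁻¹ := by group
        _ = z := hzd
    · rw [show k' * (y' * w) * k'⁻¹ = (k' * y' * k'⁻¹) * (k' * w⁻¹ * k'⁻¹)⁻¹ by group, hky', hk'w,
        mul_inv_cancel_right]
      calc x' * y' = x' * (w⁻¹ * (w * y')) := by group
        _ = x' * (w⁻¹ * (y' * w)) := by rw [cy.eq]
        _ = x' * w⁻¹ * (y' * w) := by group
  interval_cases j
  · exact absurd rfl hj0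
  · rw [pow_one] at hky
    exact shift k hk hkz x hx hxz y rfl hz_def.symm l' hky
  · -- replace `k` by its inverse
    have cz : ∀ u ∈ (U : Subgroup G), Commute (z ^ l') u := fun u hu =>
      (show Commute z u from hzcc u hu).pow_left l'
    have hkzl : k * z ^ l' * k⁻¹ = (z ^ l')⁻¹ := by
      rw [show k * z ^ l' * k⁻¹ = MulAut.conj k (z ^ l') from rfl, map_pow, MulAut.conj_apply, hkzz, inv_pow]
    have hkiz : k⁻¹ * z₀ * k⁻¹⁻¹ = z₀⁻¹ := by
      have := hkzp z₀⁻¹ (inv_mem (mem_zpowers z₀))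
      nth_rewrite 1 [show z₀ = k * z₀⁻¹ * k⁻¹ by rw [this, inv_inv]]
      group
    set y₂ := y * x * z ^ l' with hy₂
    have hky₂ : k * y₂ * k⁻¹ = x := by
      rw [hy₂, show k * (y * x * z ^ l') * k⁻¹ = (k * y * k⁻¹) * (k * x * k⁻¹) * (k * z ^ l' * k⁻¹) by group,
        hkzl, hky, ← hy_def]
      calc x * y ^ 2 * z ^ l' * y * (z ^ l')⁻¹ = x * y ^ 2 * (z ^ l' * y) * (z ^ l')⁻¹ := by group
        _ = x * y ^ 2 * (y * z ^ l') * (z ^ l')⁻¹ := by rw [(cz y hy).eq]
        _ = x * y ^ 3 := by group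
        _ = x := by rw [hy3, mul_one]
    have e1 : k⁻¹ * x * k = y₂ := by nth_rewrite 1 [← hky₂]; group
    refine shift k⁻¹ (inv_mem hk) hkiz x hx hxz y₂ (by rw [inv_inv, e1]) ?_ (2 * l') ?_
    · calc x * y₂ * x⁻¹ * y₂⁻¹ = x * y * x * (z ^ l' * x⁻¹) * (z ^ l')⁻¹ * x⁻¹ * y⁻¹ := by rw [hy₂]; group
        _ = x * y * x * (x⁻¹ * z ^ l') * (z ^ l')⁻¹ * x⁻¹ * y⁻¹ := by rw [(cz x hx).inv_right.eq]
        _ = z := by rw [hz_def]; group
    · have e2 : k⁻¹ * y * k = x := by rw [hy_def]; group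
      have e3 : k⁻¹ * z ^ l' * k = (z ^ l')⁻¹ := by
        nth_rewrite 1 [show z ^ l' = k * (z ^ l')⁻¹ * k⁻¹ by
          rw [show k * (z ^ l')⁻¹ * k⁻¹ = (k * z ^ l' * k⁻¹)⁻¹ by group, hkzl, inv_inv]]
        group
      rw [inv_inv, show k⁻¹ * y₂ * k = (k⁻¹ * y * k) * (k⁻¹ * x * k) * (k⁻¹ * z ^ l' * k) by rw [hy₂]; group,
        e1, e2, e3]
      congr 1
      rw [inv_eq_iff_mul_eq_one, ← pow_add, show l' + 2 * l' = 3 * l' by ring, pow_mul, cube' z hz1U, one_pow]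

end Ctx

end Cfsg.Lib.UThreeOrder
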