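import Cfsg.Agent.Recognition.USixtyFortyEight.Block

/-!
# The Sylow 3-subgroups of a simple group of order 6048

The values of the character of degree six single out the centre of a Sylow 3-subgroup and show that distinct Sylow
3-subgroups meet trivially.
-/

set_option autoImplicit false
set_option linter.unusedSectionVars false

namespace Cfsg.Lib.UThreeOrder

open Subgroup Cfsg.Lib.Chars
open scoped ComplexConjugate _root_.Classical

universe u

variable {G : Type u} [Group G] [Fintype G] {a b c : G → ℂ}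

/-- The sum of a character along a homomorphism is a natural multiple of the order of the source. -/
theorem sum_hom {K : Type u} [Group K] [Fintype K] (φ : K →* G) {χ : G → ℂ} (hχ : Cfsg.IsCharacter G χ) :
    ∃ k : ℕ, ∑ x : K, χ (φ x) = (k : ℂ) * (Nat.card K : ℂ) := by
  obtain ⟨k, hk⟩ := classInner_char_nat (IsCharacter.comp_hom hχ φ) (isCharacter_one (G := K))
  refine ⟨k, ?_⟩
  have hK : (Nat.card K : ℂ) ≠ 0 := Nat.cast_ne_zero.2 Nat.card_pos.ne'
  rw [← hk, Cfsg.classInner]
  simp only [map_one, mul_one, Function.comp_apply]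
  field_simp

/-- The map from a product of two commuting subgroups. -/
def pairHom (A B : Subgroup G) (hAB : ∀ x ∈ A, ∀ y ∈ B, Commute x y) : A × B →* G :=
  A.subtype.noncommCoprod B.subtype fun x y => hAB x x.2 y y.2

/-- The hypotheses together with the three characters. -/
structure Ctx (G : Type u) [Group G] [Fintype G] (a b c : G → ℂ) : Prop where
  hyp : Hyp G
  vals : Vals G a b c

theorem exists_ctx (h : Hyp G) : ∃ a b c : G → ℂ, Ctx G a b c :=
  (exists_vals h).imp fun _ h' => h'.imp fun _ h'' => h''.imp fun _ v => ⟨h, v⟩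

theorem card_dvd_six_eight {m : ℕ} (h : m ∣ 6048) (h7 : ¬ 7 ∣ m) : m ∣ 864 :=
  (Nat.Coprime.dvd_of_dvd_mul_left ((Nat.prime_seven.coprime_iff_not_dvd.2 h7).symm) (show m ∣ 7 * 864 by norm_num; exact h))

namespace Ctx

variable (S : Ctx G a b c)
include S

theorem conj_eq {χ : G → ℂ} (hχ : Cfsg.IsCharacter G χ) (g x : G) : χ (g * x * g⁻¹) = χ x :=
  isClassFunction_isChar hχ x g

theorem cube {P : Subgroup G} (hP : IsPGroup 3 P) {x : G} (hx : x ∈ P) : x ^ 3 = 1 := by
  obtain ⟨k, hk⟩ := hP ⟨x, hx⟩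
  have hk' : x ^ 3 ^ k = 1 := congrArg Subtype.val hk
  obtain ⟨i, hi, e⟩ := (Nat.dvd_prime_pow Nat.prime_three).1 (orderOf_dvd_of_pow_eq_one hk')
  rcases Nat.lt_or_ge i 2 with h2 | h2
  · exact orderOf_dvd_iff_pow_eq_one.1 (e ▸ pow_dvd_pow 3 (by omega : i ≤ 1))
  · exfalso
    refine (S.hyp.no (x ^ 3 ^ (i - 2))).1 ?_
    rw [orderOf_pow' x (pow_ne_zero _ (by norm_num)), e,
      Nat.gcd_eq_right (pow_dvd_pow 3 (by omega)), Nat.pow_div (by omega) (by norm_num),
      show i - (i - 2) = 2 by omega]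

theorem order_three {P : Subgroup G} (hP : IsPGroup 3 P) {x : G} (hx : x ∈ P) (h1 : x ≠ 1) : orderOf x = 3 :=
  have : Fact (Nat.Prime 3) := ⟨Nat.prime_three⟩
  orderOf_eq_prime (S.cube hP hx) h1

theorem apply_inv {x : G} (hx : orderOf x = 3) : a x⁻¹ = a x := by
  rw [IsCharacter.conj_inv S.vals.charA]
  rcases S.vals.three x hx with e | e <;> rw [e] <;> simp [map_ofNat]

theorem c_three {x : G} (hx : orderOf x = 3) : c x = a x - 1 := by
  rw [S.vals.rel x (by rw [hx]; norm_num), S.vals.b_zero x (by rw [hx]), add_zero]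

theorem no_seven {x g : G} (hx : orderOf x = 3) (hg : g * x = x * g) : orderOf g ≠ 7 := fun h7 => by
  refine (S.hyp.no (g * x)).2.2 ?_
  rw [(show Commute g x from hg).orderOf_mul_eq_mul_orderOf_of_coprime (by rw [h7, hx]; norm_num), h7, hx]

theorem not_seven_dvd {x : G} (hx : orderOf x = 3) :
    ¬ 7 ∣ Nat.card (centralizer ({x} : Set G)) := by
  intro h
  have : Fact (Nat.Prime 7) := ⟨Nat.prime_seven⟩
  obtain ⟨v, hv⟩ := exists_prime_orderOf_dvd_card' (G := centralizer ({x} : Set G)) 7 h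
  exact S.no_seven hx (mem_centralizer_singleton_iff.1 v.2) (by rw [Subgroup.orderOf_coe, hv])

/-- A subgroup of order nine is centralised by no involution. -/
theorem no_invol_nine {D : Subgroup G} (hD : Nat.card D = 9) {s : G} (hs : orderOf s = 2)
    (hc : ∀ d ∈ D, s * d = d * s) : False := by
  let φ := pairHom D (zpowers s) fun x hx y hy => by
    obtain ⟨i, rfl⟩ := mem_zpowers_iff.1 hy
    exact ((show Commute s x from hc x hx).zpow_left i).symm
  obtain ⟨k, hk⟩ := sum_hom φ S.vals.charB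
  have hD3 : IsPGroup 3 D := IsPGroup.of_card (n := 2) hD
  have hz : ∀ d : D, d ≠ 1 → ∀ t : zpowers s, b (φ (d, t)) = 0 := fun d hd t => by
    refine S.vals.b_zero _ ?_
    show 3 ∣ orderOf ((d : G) * (t : G))
    have hd3 := S.order_three hD3 d.2 fun e => hd (Subtype.ext e)
    have ht : orderOf (t : G) ∣ 2 := by
      obtain ⟨i, hi⟩ := mem_zpowers_iff.1 t.2
      exact hs ▸ hi ▸ orderOf_dvd_of_mem_zpowers ⟨i, rfl⟩
    have hco : Commute (d : G) (t : G) := by
      obtain ⟨i, hi⟩ := mem_zpowers_iff.1 t.2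
      exact hi ▸ ((show Commute s (d : G) from hc d d.2).zpow_left i).symm
    rw [hco.orderOf_mul_eq_mul_orderOf_of_coprime (by
      rw [hd3]
      exact (Nat.Coprime.coprime_dvd_right ht (by norm_num))), hd3]
    exact dvd_mul_right 3 _
  rw [Fintype.sum_prod_type, Finset.sum_eq_single (1 : D) (fun d _ hd => Finset.sum_eq_zero fun t _ => hz d hd t)
    (by simp)] at hk
  have hs1 : s ≠ 1 := fun e => by rw [e, orderOf_one] at hs; omega
  have hu : (Finset.univ : Finset (zpowers s)) = {1, ⟨s, mem_zpowers s⟩} := by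
    refine (Finset.eq_univ_of_card _ ?_).symm
    rw [Finset.card_pair (fun e => hs1 (congrArg Subtype.val e).symm), ← Nat.card_eq_fintype_card,
      Nat.card_zpowers, hs]
  rw [hu, Finset.sum_pair (fun e => hs1 (congrArg Subtype.val e).symm), Nat.card_prod, hD, Nat.card_zpowers, hs] at hk
  have e1 : φ ((1 : D), (1 : zpowers s)) = 1 := map_one φ
  have e2 : φ ((1 : D), (⟨s, mem_zpowers s⟩ : zpowers s)) = s := one_mul s
  rw [e1, e2, S.vals.b_one, (S.vals.invol s hs).2.1] at hk
  have : (30 : ℕ) = k * (9 * 2) := by exact_mod_cast (show (30 : ℂ) = ((k * (9 * 2) : ℕ) : ℂ) by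
    push_cast
    linear_combination hk)
  omega

/-- The centraliser of a subgroup of order nine is a 3-group. -/
theorem centralizer_nine {D : Subgroup G} (hD : Nat.card D = 9) : IsPGroup 3 (centralizer (D : Set G)) := by
  set C := centralizer (D : Set G)
  have hd : Nat.card C ∣ 6048 := S.hyp.card ▸ card_subgroup_dvd_card C
  have h2 : ¬ 2 ∣ Nat.card C := fun h => by
    have : Fact (Nat.Prime 2) := ⟨Nat.prime_two⟩
    obtain ⟨v, hv⟩ := exists_prime_orderOf_dvd_card' (G := C) 2 h
    exact S.no_invol_nine hD (s := (v : G)) (by rw [Subgroup.orderOf_coe, hv]) fun d hd =>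
      (mem_centralizer_iff.1 v.2 d hd).symm
  have h7 : ¬ 7 ∣ Nat.card C := fun h => by
    obtain ⟨d, hd1⟩ : ∃ d : D, d ≠ 1 := by
      by_contra! hall
      rw [Nat.card_eq_one_iff_exists.2 ⟨1, hall⟩] at hD
      omega
    have hC : C ≤ centralizer ({(d : G)} : Set G) := centralizer_le (Set.singleton_subset_iff.2 d.2)
    exact S.not_seven_dvd (S.order_three (IsPGroup.of_card (n := 2) hD) d.2 fun e => hd1 (Subtype.ext e))
      (h.trans (card_dvd_of_le hC))
  have h32 : Nat.card C ∣ 27 := (Nat.Coprime.pow_right 5 (Nat.prime_two.coprime_iff_not_dvd.2 h2).symm).dvd_of_dvd_mul_left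
    (by have := card_dvd_six_eight hd h7; exact this)
  obtain ⟨i, -, e⟩ := (Nat.dvd_prime_pow Nat.prime_three).1 (show Nat.card C ∣ 3 ^ 3 from h32)
  exact IsPGroup.of_card e

/-- A 3-subgroup of order at least nine has exactly one pair of elements with value `-3`. -/
theorem line {H : Subgroup G} (hH : Nat.card H = 9 ∨ Nat.card H = 27) :
    ∃ z ∈ H, z ≠ 1 ∧ a z = -3 ∧ ∀ d ∈ H, a d = -3 → d = z ∨ d = z⁻¹ := by
  have hP : IsPGroup 3 H := by
    rcases hH with e | e
    · exact IsPGroup.of_card (n := 2) e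
    · exact IsPGroup.of_card (n := 3) e
  obtain ⟨k, hk⟩ := sum_hom H.subtype S.vals.charA
  set A := ((Finset.univ : Finset H).erase 1).filter fun x : H => a x = -3 with hA
  have hs : ∑ x : H, a (H.subtype x) = 6 - 3 * (A.card : ℂ) := by
    simp only [Subgroup.coe_subtype]
    rw [← Finset.add_sum_erase _ _ (Finset.mem_univ (1 : H)), OneMemClass.coe_one, S.vals.a_one,
      ← Finset.sum_filter_add_sum_filter_not _ (fun x : H => a x = -3),
      ← hA, Finset.sum_congr (s₁ := A) rfl (g := fun _ => (-3 : ℂ)) (fun x hx => (Finset.mem_filter.1 hx).2),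
      Finset.sum_eq_zero (s := Finset.filter (fun x => ¬ _) _) (fun x hx => ?_), Finset.sum_const, nsmul_eq_mul]
    · ring
    · obtain ⟨hx1, hx2⟩ := Finset.mem_filter.1 hx
      exact (S.vals.three _ (S.order_three hP x.2 fun e => Finset.ne_of_mem_erase hx1 (Subtype.ext e))).resolve_right hx2
  rw [hs] at hk
  have hk' : (6 : ℕ) = k * Nat.card H + 3 * A.card := by
    exact_mod_cast (show (6 : ℂ) = ((k * Nat.card H + 3 * A.card : ℕ) : ℂ) by push_cast; linear_combination hk)
  have hA2 : A.card = 2 := by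
    rcases Nat.eq_zero_or_pos k with e | e
    · rw [e] at hk'; omega
    · have := Nat.le_mul_of_pos_left (Nat.card H) e
      omega
  obtain ⟨z, hz⟩ := Finset.card_pos.1 (show 0 < A.card by omega)
  obtain ⟨hz1, hz3⟩ := Finset.mem_filter.1 hz
  have hzne : (z : G) ≠ 1 := fun e => Finset.ne_of_mem_erase hz1 (Subtype.ext e)
  have ho := S.order_three hP z.2 hzne
  have hzi : z⁻¹ ∈ A := Finset.mem_filter.2 ⟨Finset.mem_erase.2 ⟨inv_ne_one.2 (Finset.ne_of_mem_erase hz1),
    Finset.mem_univ _⟩, by rw [InvMemClass.coe_inv, S.apply_inv ho, hz3]⟩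
  have hne : z ≠ z⁻¹ := fun e => by
    have h2 := orderOf_dvd_of_pow_eq_one (x := (z : G)) (n := 2) (by
      rw [pow_two]; nth_rewrite 2 [show (z : G) = (z : G)⁻¹ from congrArg Subtype.val e]; exact mul_inv_cancel _)
    rw [ho] at h2; norm_num at h2
  have hAeq : {z, z⁻¹} = A := Finset.eq_of_subset_of_card_le (by
      intro x hx
      rcases Finset.mem_insert.1 hx with rfl | hx
      · exact hz
      · rw [Finset.mem_singleton.1 hx]; exact hzi) (by rw [Finset.card_pair hne, hA2])
  refine ⟨z, z.2, hzne, hz3, fun d hd hd3 => ?_⟩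
  have hd1 : d ≠ 1 := fun e => by rw [e, S.vals.a_one] at hd3; norm_num at hd3
  have hm : (⟨d, hd⟩ : H) ∈ A := Finset.mem_filter.2 ⟨Finset.mem_erase.2
    ⟨fun e => hd1 (congrArg Subtype.val e), Finset.mem_univ _⟩, hd3⟩
  rw [← hAeq, Finset.mem_insert, Finset.mem_singleton] at hm
  rcases hm with e | e
  · exact Or.inl (congrArg Subtype.val e)
  · exact Or.inr (congrArg Subtype.val e)

/-- Two commuting elements of order three generating a group of order nine. -/
theorem card_pair {x y : G} (hx : orderOf x = 3) (hy : orderOf y = 3) (hxy : x * y = y * x) (hn : y ∉ zpowers x) :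
    Nat.card ↥(zpowers x ⊔ zpowers y) = 9 := by
  have hcomm : ∀ u ∈ zpowers x, ∀ v ∈ zpowers y, Commute u v := fun u hu v hv => by
    obtain ⟨i, rfl⟩ := mem_zpowers_iff.1 hu
    obtain ⟨j, rfl⟩ := mem_zpowers_iff.1 hv
    exact (show Commute x y from hxy).zpow_zpow i j
  let φ := pairHom (zpowers x) (zpowers y) hcomm
  have hr : φ.range = zpowers x ⊔ zpowers y := by
    rw [show φ.range = _ from MonoidHom.noncommCoprod_range _ _ _, range_subtype, range_subtype]
  have hinj : Function.Injective φ := by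
    rw [injective_iff_map_eq_one]
    rintro ⟨u, v⟩ e
    have e' : (u : G) * (v : G) = 1 := e
    have hv1 : v = 1 := by
      by_contra hv
      have h3 : Fact (Nat.Prime 3) := ⟨Nat.prime_three⟩
      have htop : zpowers v = ⊤ := zpowers_eq_top_of_prime_card (p := 3) (by rw [Nat.card_zpowers, hy]) hv
      obtain ⟨j, hj⟩ := mem_zpowers_iff.1 (htop ▸ mem_top (⟨y, mem_zpowers y⟩ : zpowers y))
      refine hn ?_
      rw [show y = (v : G) ^ j from (congrArg Subtype.val hj).symm.trans (SubgroupClass.coe_zpow v j),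
        eq_inv_of_mul_eq_one_right e']
      exact zpow_mem (inv_mem u.2) j
    subst hv1
    rw [OneMemClass.coe_one, mul_one] at e'
    exact Prod.ext (Subtype.ext e') rfl
  rw [← hr, ← Nat.card_congr (MonoidHom.ofInjective hinj).toEquiv, Nat.card_prod, Nat.card_zpowers,
    Nat.card_zpowers, hx, hy]

variable {U : Subgroup G} (hU : Nat.card U = 27)
include hU

theorem pgroup : IsPGroup 3 U := IsPGroup.of_card (n := 3) hU

variable {z : G} (hz : z ∈ U) (hz3 : a z = -3)
include hz hz3

theorem z_ne : z ≠ 1 := fun e => by rw [e, S.vals.a_one] at hz3; norm_num at hz3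

theorem z_order : orderOf z = 3 := S.order_three (S.pgroup hU) hz (S.z_ne hU hz hz3)

theorem unique_z {d : G} (hd : d ∈ U) (hd3 : a d = -3) : d = z ∨ d = z⁻¹ := by
  obtain ⟨z', -, -, hz', hall⟩ := S.line (H := U) (Or.inr hU)
  rcases hall z hz hz3 with e | e <;> rcases hall d hd hd3 with e' | e' <;> simp [e, e']

theorem mem_zp {d : G} (hd : d ∈ U) (hd3 : a d = -3) : d ∈ zpowers z := by
  rcases S.unique_z hU hz hz3 hd hd3 with rfl | rfl
  · exact mem_zpowers _
  · exact inv_mem (mem_zpowers _)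

/-- The element with value `-3` lies in each subgroup of order nine of `U`. -/
theorem z_mem_nine {D : Subgroup G} (hD : Nat.card D = 9) (hDU : D ≤ U) : z ∈ D := by
  obtain ⟨z', hz', -, hz'3, -⟩ := S.line (H := D) (Or.inl hD)
  rcases S.unique_z hU hz hz3 (hDU hz') hz'3 with e | e
  · exact e ▸ hz'
  · have := inv_mem hz'
    rwa [e, inv_inv] at this

/-- The centraliser in `U` of an element with value zero. -/
theorem commuting_span {d x : G} (hd : d ∈ U) (hd0 : a d = 0) (hx : x ∈ U) (hdx : d * x = x * d) :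
    x ∈ zpowers d ⊔ zpowers z := by
  by_cases hxd : x ∈ zpowers d
  · exact mem_sup_left hxd
  have hd1 : d ≠ 1 := fun e => by rw [e, S.vals.a_one] at hd0; norm_num at hd0
  have hx1 : x ≠ 1 := fun e => hxd (e ▸ one_mem _)
  have hdo := S.order_three (S.pgroup hU) hd hd1
  have hxo := S.order_three (S.pgroup hU) hx hx1
  set D := zpowers d ⊔ zpowers x with hDdef
  have hD : Nat.card D = 9 := S.card_pair hdo hxo hdx hxd
  have hzD : z ∈ D := S.z_mem_nine hU hz hz3 hD (sup_le (zpowers_le.2 hd) (zpowers_le.2 hx))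
  have hDc : ∀ u ∈ D, d * u = u * d := by
    intro u hu
    have : D ≤ centralizer ({d} : Set G) := sup_le (zpowers_le.2 (mem_centralizer_singleton_iff.2 rfl))
      (zpowers_le.2 (mem_centralizer_singleton_iff.2 hdx.symm))
    exact (mem_centralizer_singleton_iff.1 (this hu)).symm
  have hzd : z ∉ zpowers d := by
    intro h
    obtain ⟨i, hi⟩ := mem_zpowers_iff.1 h
    have hzz := S.z_ne hU hz hz3
    obtain ⟨j, hj⟩ := mem_zpowers_iff.1 h
    have h3 : d ^ 3 = 1 := S.cube (S.pgroup hU) hd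
    have hmod : z = d ^ (i % 3) := by
      rw [← hi]; exact (zpow_eq_zpow_iff_modEq.2 (by rw [hdo]; exact (Int.mod_modEq i 3).symm))
    have h0 := Int.emod_nonneg i (show (3 : ℤ) ≠ 0 by norm_num)
    have h3' := Int.emod_lt_of_pos i (show (0 : ℤ) < 3 by norm_num)
    interval_cases h : i % 3
    · exact hzz (by simpa using hmod)
    · rw [hmod, zpow_one, hd0] at hz3; norm_num at hz3
    · have : z = d⁻¹ := by
        rw [hmod, eq_inv_iff_mul_eq_one, show (2 : ℤ) = ((2 : ℕ) : ℤ) from rfl, zpow_natCast, ← pow_succ]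
        exact h3
      rw [this, S.apply_inv hdo, hd0] at hz3; norm_num at hz3
  have hE : Nat.card ↥(zpowers d ⊔ zpowers z) = 9 :=
    S.card_pair hdo (S.z_order hU hz hz3) (hDc z hzD) hzd
  have : zpowers d ⊔ zpowers z = D :=
    eq_of_le_of_card_ge (sup_le le_sup_left (zpowers_le.2 hzD)) (by rw [hD, hE])
  rw [this]
  exact mem_sup_right (mem_zpowers x)

/-- The element with value `-3` is central. -/
theorem z_comm {x : G} (hx : x ∈ U) : z * x = x * z := by
  have : Fact (Nat.Prime 3) := ⟨Nat.prime_three⟩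
  have : Nontrivial U := Finite.one_lt_card_iff_nontrivial.1 (by omega)
  have := (S.pgroup hU).center_nontrivial
  obtain ⟨⟨e, he⟩, he1⟩ := exists_ne (1 : Subgroup.center U)
  have hec : ∀ y ∈ U, (e : G) * y = y * e := fun y hy =>
    (congrArg Subtype.val (Subgroup.mem_center_iff.1 he ⟨y, hy⟩)).symm
  have he' : (e : G) ≠ 1 := fun h => he1 (Subtype.ext (Subtype.ext h))
  rcases S.vals.three _ (S.order_three (S.pgroup hU) e.2 he') with h0 | h3
  · exfalso
    have hsub : U ≤ zpowers (e : G) ⊔ zpowers z := fun y hy => S.commuting_span hU hz hz3 e.2 h0 hy (hec y hy)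
    by_cases hze : z ∈ zpowers (e : G)
    · have := card_le_of_le (hsub.trans (sup_le le_rfl (zpowers_le.2 hze)))
      rw [hU, Nat.card_zpowers, S.order_three (S.pgroup hU) e.2 he'] at this
      omega
    · have := card_le_of_le hsub
      rw [hU, S.card_pair (S.order_three (S.pgroup hU) e.2 he') (S.z_order hU hz hz3) (hec z hz) hze] at this
      omega
  · rcases S.unique_z hU hz hz3 e.2 h3 with h | h
    · rw [← h]; exact hec x hx
    · have h' : Commute z⁻¹ x := by rw [← h]; exact hec x hx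
      exact Commute.inv_left_iff.1 h'

/-- Commutators in `U` are powers of the central element. -/
theorem comm_mem {x y : G} (hx : x ∈ U) (hy : y ∈ U) : x * y * x⁻¹ * y⁻¹ ∈ zpowers z := by
  have : Fact (Nat.Prime 3) := ⟨Nat.prime_three⟩
  set Z := (zpowers z).subgroupOf U with hZ
  have hn : Z.Normal := ⟨fun n hn g => by
    rw [hZ, mem_subgroupOf] at hn ⊢
    obtain ⟨i, hi⟩ := mem_zpowers_iff.1 hn
    have hc : Commute (g : G) z := (S.z_comm hU hz hz3 g.2).symm
    show (g : G) * (n : G) * (g : G)⁻¹ ∈ zpowers z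
    rw [← hi, (hc.zpow_right i).eq, mul_inv_cancel_right]
    exact ⟨i, rfl⟩⟩
  have hq : Nat.card (U ⧸ Z) = 3 ^ 2 := by
    have h1 := Z.card_eq_card_quotient_mul_card_subgroup
    rw [hU, Nat.card_congr (subgroupOfEquivOfLe (zpowers_le.2 hz)).toEquiv, Nat.card_zpowers,
      S.z_order hU hz hz3] at h1
    omega
  have hcomm := IsPGroup.isMulCommutative_of_card_eq_prime_sq hq
  have h2 : ((⟨x, hx⟩ * ⟨y, hy⟩ * (⟨x, hx⟩ : U)⁻¹ * (⟨y, hy⟩ : U)⁻¹ : U) : U ⧸ Z) = 1 := by
    simp only [QuotientGroup.mk_mul, QuotientGroup.mk_inv]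
    rw [IsMulCommutative.is_comm.comm ((⟨x, hx⟩ : U) : U ⧸ Z)]
    group
  rw [QuotientGroup.eq_one_iff, mem_subgroupOf] at h2
  exact h2

end Ctx

end Cfsg.Lib.UThreeOrder
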