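import Mathlib.Data.List.Basic
import Mathlib.Tactic

/-!
# Tables for the 28 points of a simple group of order 6048

The points are the 27 elements `x^a y^b z^c` (number `a + 3b + 9c`) of a Sylow 3-subgroup and a further point 27.
-/

set_option autoImplicit false

namespace Cfsg.Lib.UThreeOrder.Tab

/-- The product of two elements of the Heisenberg group of order 27. -/
def mulN (i j : ℕ) : ℕ :=
  if i < 27 then
    (if j < 27 then
      (i + j) % 3 + 3 * ((i / 3 + j / 3) % 3) + 9 * ((i / 9 + j / 9 + 2 * (i / 3 % 3) * (j % 3)) % 3)
    else j)
  else i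

/-- An entry of a packed table. -/
def get (n j : ℕ) : ℕ := n / 2 ^ (5 * j) % 32

/-- Powers. -/
def powN (i : ℕ) : ℕ → ℕ
  | 0 => 0
  | n + 1 => mulN (powN i n) i

/-- The automorphism of order eight and its powers. -/
def apows : List ℕ :=
  [1212501494925312236363414443023805295200288,
   1207801158776458375196538903758075614861408,
   1202917277985586671188545690189531057023104,
   1192691947736501399796224055400182720093984,
   1206560515333709384975936399889428103581024,
   1185591732209326583450773593084631724602112,
   1178899229715636702575944155109372177373440,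
   1184368495577770570779709586192989540097472]

/-- The powers of the automorphism as functions. -/
def aN (i j : ℕ) : ℕ := get (apows.getD (i % 8) 0) j

/-- The orbit representatives. -/
def reps : ℕ := 1201921998800237036915111764435025920052256

/-- The exponents taking the representatives to the points. -/
def pows : ℕ := 8301322244086202330069540430839598321664

/-- The map of the points determined by an exponent and three values. -/
def fN (m p q r : ℕ) (j : ℕ) : ℕ :=
  let s := get reps j
  aN (m * get pows j)
    (if s = 0 then 27 else if s = 27 then 0 else if s = 9 then 9 else if s = 1 then p else if s = 10 then q else r)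

/-- The standard map exchanging the two base points. -/
def f0 : ℕ := 1667863815325114971894132549891125551195

/-- The map fixing the point at infinity attached to an element. -/
def hN (F : ℕ → ℕ) (u : ℕ) (j : ℕ) : ℕ := F (mulN (powN (F u) 2) (F (mulN u (F j))))

/-- The points. -/
def pts : List ℕ := [0, 1, 2, 3, 4, 5, 6, 7, 8, 9, 10, 11, 12, 13, 14, 15, 16, 17, 18, 19, 20, 21, 22, 23, 24, 25, 26, 27]

/-- The test whether a map is in the group fixing the point at infinity. -/
def affine (h : ℕ → ℕ) : Bool :=
  let c := h 0
  [0, 1, 2, 3, 4, 5, 6, 7].any fun i => (h 1 == mulN c (aN i 1)) && pts.all fun j => h j == mulN c (aN i j)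

/-- The test whether a map is, up to the automorphism, the standard one. -/
def standard (F : ℕ → ℕ) : Bool :=
  [0, 1, 2, 3, 4, 5, 6, 7].any fun i => pts.all fun j => F j == aN i (get f0 j)

/-- The necessary condition on a map. -/
def cond (F : ℕ → ℕ) : Bool :=
  affine (hN F 9) && affine (hN F 1) && affine (hN F 10) && affine (hN F 19)

/-- The values permitted at a representative. -/
def moved : List ℕ := [1, 2, 3, 4, 5, 6, 7, 8, 10, 11, 12, 13, 14, 15, 16, 17, 19, 20, 21, 22, 23, 24, 25, 26]

/-- The search for one exponent. -/
def search (m : ℕ) : Bool :=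
  moved.all fun p => moved.all fun q => moved.all fun r =>
    (get reps p == get reps q) || (get reps p == get reps r) || (get reps q == get reps r) ||
      !cond (fN m p q r) || standard (fN m p q r)

theorem search_one : search 1 = true := by decide +kernel

theorem search_three : search 3 = true := by decide +kernel

theorem search_five : search 5 = true := by decide +kernel

theorem search_seven : search 7 = true := by decide +kernel

theorem fix_square : ∀ m ∈ [1, 3, 5, 7], ∀ j < 27, aN (2 * m) j = j → j = 0 ∨ j = 9 ∨ j = 18 := by decide +kernel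

theorem a_facts : (∀ j < 28, aN 0 j = j) ∧ (∀ i < 8, aN i 0 = 0 ∧ aN i 27 = 27) ∧
    (∀ i < 8, ∀ j < 28, aN i j < 28 ∧ aN (i + 1) j = aN 1 (aN i j)) ∧
    aN 1 18 = 9 ∧ aN 2 9 = 9 ∧ (∀ i < 27, aN 1 i = mulN (powN 3 (i % 3)) (mulN (powN 4 (i / 3 % 3)) (powN 18 (i / 9)))) := by
  decide +kernel

theorem rep_facts : ∀ j < 28, aN (get pows j) (get reps j) = j ∧ get reps j ∈ [0, 27, 9, 1, 10, 19] := by
  decide +kernel

theorem moved_facts : ∀ j < 27, j ≠ 0 ∧ j ≠ 9 ∧ j ≠ 18 → j ∈ moved := by decide +kernel

theorem orbit_facts : ∀ p < 28, ∀ q < 28, get reps p = get reps q → ∃ i < 8, aN i p = q := by decide +kernel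

end Cfsg.Lib.UThreeOrder.Tab
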