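import Cfsg.Agent.Recognition.USixtyFortyEight.Gens
import Cfsg.Agent.Recognition.USixtyFortyEight.Tables

/-!
# A simple group of order 6048 as a fixed permutation group on 28 points
-/

set_option autoImplicit false
set_option linter.unusedSectionVars false

namespace Cfsg.Lib.UThreeOrder

open Subgroup MulAction Tab
open scoped Pointwise _root_.Classical

universe u

variable {G : Type u} [Group G] [Fintype G] {a b c : G → ℂ} {U V : Sylow 3 G} {x y z k : G}

/-- The permutations given by the standard tables. -/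
def stdSet : Set (Equiv.Perm (Fin 28)) :=
  {σ | (∀ j, ((σ j : Fin 28) : ℕ) = mulN 1 j) ∨ (∀ j, ((σ j : Fin 28) : ℕ) = mulN 3 j) ∨
    (∀ j, ((σ j : Fin 28) : ℕ) = aN 1 j) ∨ (∀ j, ((σ j : Fin 28) : ℕ) = get f0 j)}

/-- The element of the Sylow subgroup with a given number. -/
def el (x y z : G) (i : ℕ) : G := x ^ (i % 3) * y ^ (i / 3 % 3) * z ^ (i / 9)

namespace Gens

variable {S : Ctx G a b c} (h : Gens S U V x y z k)
include h

theorem el_mem (i : ℕ) : el x y z i ∈ (U : Subgroup G) :=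
  mul_mem (mul_mem (pow_mem h.x_mem _) (pow_mem h.y_mem _)) (pow_mem h.z_mem _)

theorem cube_x : x ^ 3 = 1 := S.cube U.2 h.x_mem

theorem cube_y : y ^ 3 = 1 := S.cube U.2 h.y_mem

theorem cube_z : z ^ 3 = 1 := S.cube U.2 h.z_mem

theorem z_commute {u : G} (hu : u ∈ (U : Subgroup G)) : Commute z u := h.z_cent u hu

theorem swap_one : y * x = x * (y * z ^ 2) := by
  have h1 : x * y = z * (y * x) := by rw [← h.z_def]; group
  have h2 : z ^ 2 * (x * y) = y * x := by
    rw [h1, ← mul_assoc, ← pow_succ, h.cube_z, one_mul]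
  rw [← h2, ((h.z_commute (mul_mem h.x_mem h.y_mem)).pow_left 2).eq, mul_assoc]

theorem swap : ∀ n m : ℕ, y ^ m * x ^ n = x ^ n * y ^ m * z ^ (2 * m * n) := by
  have hm : ∀ m : ℕ, y ^ m * x = x * y ^ m * z ^ (2 * m) := by
    intro m
    induction m with
    | zero => simp
    | succ m ih =>
      have cy : Commute (z ^ 2) (y ^ m) := ((h.z_commute h.y_mem).pow_left 2).pow_right m
      calc y ^ (m + 1) * x = y * (y ^ m * x) := by rw [pow_succ', mul_assoc]
        _ = y * x * (y ^ m * z ^ (2 * m)) := by rw [ih]; simp [mul_assoc]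
        _ = x * (y * (z ^ 2 * y ^ m) * z ^ (2 * m)) := by rw [h.swap_one]; simp [mul_assoc]
        _ = x * y ^ (m + 1) * z ^ (2 * (m + 1)) := by
          rw [cy.eq, pow_succ' y, ← pow_succ' y, pow_succ y, show 2 * (m + 1) = 2 + 2 * m by ring, pow_add,
            pow_two]
          simp only [← mul_assoc]
          rw [mul_assoc x y (y ^ m), ← pow_succ' y, pow_succ y]
          simp only [← mul_assoc]
  intro n m
  induction n with
  | zero => simp
  | succ n ih =>
    have cx : Commute (z ^ (2 * m * n)) x := (h.z_commute h.x_mem).pow_left _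
    calc y ^ m * x ^ (n + 1) = (y ^ m * x ^ n) * x := by rw [pow_succ, mul_assoc]
      _ = x ^ n * y ^ m * (z ^ (2 * m * n) * x) := by rw [ih]; simp [mul_assoc]
      _ = x ^ n * (y ^ m * x) * z ^ (2 * m * n) := by rw [cx.eq]; simp [mul_assoc]
      _ = x ^ (n + 1) * y ^ m * z ^ (2 * m * (n + 1)) := by
        rw [hm, pow_succ, show 2 * m * (n + 1) = 2 * m + 2 * m * n by ring, pow_add]; simp [mul_assoc]

set_option maxHeartbeats 1000000 in
theorem el_mul {i j : ℕ} (hi : i < 27) (hj : j < 27) : el x y z (mulN i j) = el x y z i * el x y z j := by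
  have hz : ∀ u ∈ (U : Subgroup G), ∀ n : ℕ, Commute (z ^ n) u := fun u hu n => (h.z_commute hu).pow_left n
  have e : el x y z i * el x y z j = x ^ (i % 3 + j % 3) * y ^ (i / 3 % 3 + j / 3 % 3) *
      z ^ (i / 9 + j / 9 + 2 * (i / 3 % 3) * (j % 3)) := by
    set a₁ := i % 3
    set b₁ := i / 3 % 3
    set c₁ := i / 9
    set a₂ := j % 3
    set b₂ := j / 3 % 3
    set c₂ := j / 9
    show x ^ a₁ * y ^ b₁ * z ^ c₁ * (x ^ a₂ * y ^ b₂ * z ^ c₂) = _
    calc x ^ a₁ * y ^ b₁ * z ^ c₁ * (x ^ a₂ * y ^ b₂ * z ^ c₂)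
        = x ^ a₁ * y ^ b₁ * (z ^ c₁ * (x ^ a₂ * y ^ b₂)) * z ^ c₂ := by simp [mul_assoc]
      _ = x ^ a₁ * (y ^ b₁ * x ^ a₂) * y ^ b₂ * (z ^ c₁ * z ^ c₂) := by
        rw [(hz _ (mul_mem (pow_mem h.x_mem a₂) (pow_mem h.y_mem b₂)) c₁).eq]; simp [mul_assoc]
      _ = x ^ a₁ * x ^ a₂ * y ^ b₁ * (z ^ (2 * b₁ * a₂) * y ^ b₂) * (z ^ c₁ * z ^ c₂) := by
        rw [h.swap]; simp [mul_assoc]
      _ = x ^ (a₁ + a₂) * y ^ (b₁ + b₂) * z ^ (c₁ + c₂ + 2 * b₁ * a₂) := by
        rw [(hz _ (pow_mem h.y_mem b₂) _).eq, show c₁ + c₂ + 2 * b₁ * a₂ = 2 * b₁ * a₂ + (c₁ + c₂) by ring,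
          pow_add x, pow_add y, pow_add z, pow_add z]
        simp [mul_assoc]
  rw [e, el, mulN, if_pos hi, if_pos hj]
  have hmod : ∀ {g : G}, g ^ 3 = 1 → ∀ n m : ℕ, n % 3 = m % 3 → g ^ n = g ^ m := fun {g} hg n m hnm => by
    rw [← Nat.mod_add_div n 3, ← Nat.mod_add_div m 3, pow_add, pow_add, pow_mul, pow_mul, hg, one_pow, one_pow, hnm]
  obtain ⟨d1, d2, d3⟩ : (∀ r s t : ℕ, r < 3 → s < 3 → t < 3 →
      (r + 3 * s + 9 * t) % 3 = r ∧ (r + 3 * s + 9 * t) / 3 % 3 = s ∧ (r + 3 * s + 9 * t) / 9 = t) ∧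
      (i + j) % 3 = (i % 3 + j % 3) % 3 ∧ (i / 3 + j / 3) % 3 = (i / 3 % 3 + j / 3 % 3) % 3 :=
    ⟨fun r s t hr hs ht => by omega, Nat.add_mod i j 3, Nat.add_mod (i / 3) (j / 3) 3⟩
  obtain ⟨q1, q2, q3⟩ := d1 ((i + j) % 3) ((i / 3 + j / 3) % 3)
    ((i / 9 + j / 9 + 2 * (i / 3 % 3) * (j % 3)) % 3) (Nat.mod_lt _ (by norm_num)) (Nat.mod_lt _ (by norm_num))
    (Nat.mod_lt _ (by norm_num))
  rw [q1, q2, q3, hmod h.cube_x _ (i % 3 + j % 3) (by rw [d2, Nat.mod_mod]),
    hmod h.cube_y _ (i / 3 % 3 + j / 3 % 3) (by rw [d3, Nat.mod_mod]),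
    hmod h.cube_z _ (i / 9 + j / 9 + 2 * (i / 3 % 3) * (j % 3)) (Nat.mod_mod _ _)]

theorem el_zero : el x y z 0 = 1 := by simp [el]

theorem powN_lt {i : ℕ} (hi : i < 27) : ∀ n, powN i n < 27 ∧ el x y z (powN i n) = el x y z i ^ n
  | 0 => ⟨by simp [powN], by simp [powN, el]⟩
  | n + 1 => by
    obtain ⟨h1, h2⟩ := powN_lt hi n
    refine ⟨by rw [powN, mulN, if_pos h1, if_pos hi]; omega, ?_⟩
    rw [powN, h.el_mul h1 hi, h2, pow_succ]

theorem el_surj {u : G} (hu : u ∈ (U : Subgroup G)) : ∃ i < 27, el x y z i = u := by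
  let R : Subgroup G :=
    { carrier := {g | ∃ i < 27, el x y z i = g}
      one_mem' := ⟨0, by norm_num, el_zero h⟩
      mul_mem' := by
        rintro _ _ ⟨i, hi, rfl⟩ ⟨j, hj, rfl⟩
        exact ⟨mulN i j, by rw [mulN, if_pos hi, if_pos hj]; omega, h.el_mul hi hj⟩
      inv_mem' := by
        rintro _ ⟨i, hi, rfl⟩
        refine ⟨powN i 2, (h.powN_lt hi 2).1, ?_⟩
        rw [(h.powN_lt hi 2).2, eq_inv_iff_mul_eq_one, ← pow_succ]
        exact S.cube U.2 (h.el_mem i) }
  have hR : R ≤ (U : Subgroup G) := by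
    rintro _ ⟨i, -, rfl⟩
    exact h.el_mem i
  have hx : x ∈ R := ⟨1, by norm_num, by simp [el]⟩
  have hy : y ∈ R := ⟨3, by norm_num, by simp [el]⟩
  suffices hRU : R = (U : Subgroup G) by
    rw [← hRU] at hu
    exact hu
  have hd := card_dvd_of_le hR
  rw [S.card_sylow_three U] at hd
  obtain ⟨e, he, hRe⟩ := (Nat.dvd_prime_pow Nat.prime_three).1 (show Nat.card R ∣ 3 ^ 3 from hd)
  refine eq_of_le_of_card_ge hR ?_
  rw [S.card_sylow_three U, hRe]
  by_contra hlt
  have : Fact (Nat.Prime 3) := ⟨Nat.prime_three⟩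
  have hab : IsMulCommutative R := by
    rcases (show e = 0 ∨ e = 1 ∨ e = 2 ∨ e = 3 by omega) with rfl | rfl | rfl | rfl
    · have := (Nat.card_eq_one_iff_unique.1 (hRe.trans (pow_zero 3))).1
      exact ⟨⟨fun p q => Subsingleton.elim _ _⟩⟩
    · have := isCyclic_of_prime_card (p := 3) (α := R) (hRe.trans (pow_one 3))
      exact IsCyclic.isMulCommutative
    · exact IsPGroup.isMulCommutative_of_card_eq_prime_sq hRe
    · exact absurd le_rfl hlt
  have hxy : x * y = y * x := congrArg Subtype.val (hab.is_comm.comm (⟨x, hx⟩ : R) ⟨y, hy⟩)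
  exact h.z_ne (by rw [← h.z_def, hxy]; group)

theorem conj_k {i : ℕ} (hi : i < 27) : k * el x y z i * k⁻¹ = el x y z (aN 1 i) := by
  rw [a_facts.2.2.2.2.2 i hi]
  obtain ⟨l1, e1⟩ := h.powN_lt (i := 3) (by norm_num) (i % 3)
  obtain ⟨l2, e2⟩ := h.powN_lt (i := 4) (by norm_num) (i / 3 % 3)
  obtain ⟨l3, e3⟩ := h.powN_lt (i := 18) (by norm_num) (i / 9)
  rw [h.el_mul l1 (by rw [mulN, if_pos l2, if_pos l3]; omega), h.el_mul l2 l3, e1, e2, e3]
  have h18 : el x y z 18 = z⁻¹ := by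
    rw [el, eq_inv_iff_mul_eq_one]
    norm_num
    rw [← pow_succ, h.cube_z]
  rw [show el x y z 3 = y by simp [el], show el x y z 4 = x * y by simp [el], h18, el,
    show k * (x ^ (i % 3) * y ^ (i / 3 % 3) * z ^ (i / 9)) * k⁻¹ =
      (k * x ^ (i % 3) * k⁻¹) * ((k * y ^ (i / 3 % 3) * k⁻¹) * (k * z ^ (i / 9) * k⁻¹)) by group]
  simp only [← conj_pow, h.kx, h.ky, h.kz]

/-- The point with a given number. -/
noncomputable def pt (_h : Gens S U V x y z k) (i : Fin 28) : Sylow 3 G :=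
  if (i : ℕ) < 27 then el x y z i • V else U

theorem pt_of_lt {i : ℕ} (hi : i < 27) : h.pt ⟨i, by omega⟩ = el x y z i • V := by
  rw [pt, if_pos hi]

theorem pt_last : h.pt ⟨27, by norm_num⟩ = U := by rw [pt, if_neg (lt_irrefl 27)]

theorem pt_bijective : Function.Bijective h.pt := by
  have hsurj : Function.Surjective h.pt := by
    intro W
    by_cases hW : W = U
    · exact ⟨⟨27, by norm_num⟩, h.pt_last.trans hW.symm⟩
    · obtain ⟨u, hu, e⟩ := S.regular h.hne hW
      obtain ⟨i, hi, rfl⟩ := h.el_surj hu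
      exact ⟨⟨i, by omega⟩, (h.pt_of_lt hi).trans e⟩
  have := Fintype.ofFinite (Sylow 3 G)
  exact (Fintype.bijective_iff_surjective_and_card h.pt).2
    ⟨hsurj, by rw [Fintype.card_fin, ← Nat.card_eq_fintype_card, S.card_sylow U]⟩

/-- The action on the numbers. -/
noncomputable def pi : G →* Equiv.Perm (Fin 28) where
  toFun g := ((Equiv.ofBijective h.pt h.pt_bijective).trans (MulAction.toPerm g)).trans
    (Equiv.ofBijective h.pt h.pt_bijective).symm
  map_one' := by ext i; simp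
  map_mul' g g' := by
    ext i
    simp only [Equiv.Perm.mul_apply, Equiv.trans_apply, MulAction.toPerm_apply, mul_smul]
    erw [Equiv.apply_symm_apply (Equiv.ofBijective h.pt h.pt_bijective)]

theorem pt_pi (g : G) (i : Fin 28) : h.pt (h.pi g i) = g • h.pt i :=
  (Equiv.ofBijective h.pt h.pt_bijective).apply_symm_apply _

theorem pi_val {g : G} {i : Fin 28} {j : ℕ} (hj : j < 28) (e : g • h.pt i = h.pt ⟨j, hj⟩) :
    ((h.pi g i : Fin 28) : ℕ) = j := by
  rw [← h.pt_pi] at e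
  rw [h.pt_bijective.1 e]

theorem pi_el {d : ℕ} (hc : d < 27) (i : Fin 28) : ((h.pi (el x y z d) i : Fin 28) : ℕ) = mulN d i := by
  by_cases hi : (i : ℕ) < 27
  · refine h.pi_val (by rw [mulN, if_pos hc, if_pos hi]; omega) ?_
    rw [h.pt_of_lt hi, h.pt_of_lt (by rw [mulN, if_pos hc, if_pos hi]; omega), ← mul_smul, h.el_mul hc hi]
  · obtain rfl : i = ⟨27, by norm_num⟩ := Fin.ext (by have := i.2; show (i : ℕ) = 27; omega)
    refine h.pi_val (by simp [mulN, hc]) ?_
    have e : mulN d 27 = 27 := by simp [mulN, hc]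
    rw [show (⟨mulN d 27, _⟩ : Fin 28) = ⟨27, by norm_num⟩ from Fin.ext e, h.pt_last]
    exact S.smul_self (h.el_mem d)

theorem pi_k (n : ℕ) (i : Fin 28) : ((h.pi (k ^ n) i : Fin 28) : ℕ) = aN n i := by
  have h1 : ∀ i : Fin 28, ((h.pi k i : Fin 28) : ℕ) = aN 1 i := by
    intro i
    refine h.pi_val (a_facts.2.2.1 1 (by norm_num) i i.2).1 ?_
    obtain ⟨hkU, hkV⟩ := mem_two.1 h.k_mem
    by_cases hi : (i : ℕ) < 27
    · have h27 : aN 1 i < 27 := by
        have := (a_facts.2.2.1 1 (by norm_num) i i.2).1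
        have hne : aN 1 i ≠ 27 := by
          intro e
          have := (show ∀ j < 27, aN 1 j ≠ 27 by decide +kernel) i hi
          exact this e
        omega
      rw [show i = ⟨i, by omega⟩ from rfl, h.pt_of_lt hi, h.pt_of_lt h27, ← h.conj_k hi,
        mul_smul, mul_smul, inv_smul_eq_iff.2 hkV.symm]
    · obtain rfl : i = ⟨27, by norm_num⟩ := Fin.ext (by have := i.2; show (i : ℕ) = 27; omega)
      rw [show (⟨aN 1 27, _⟩ : Fin 28) = ⟨27, by norm_num⟩ from Fin.ext (a_facts.2.1 1 (by norm_num)).2, h.pt_last]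
      exact hkU
  have hp : ∀ n < 9, ∀ j < 28, aN (n + 1) j = aN 1 (aN n j) := by decide +kernel
  induction n with
  | zero => simp [a_facts.1 i i.2]
  | succ n ih =>
    rw [pow_succ', map_mul, Equiv.Perm.mul_apply, h1, ih]
    have e : ∀ n : ℕ, aN n i = aN (n % 8) i := fun n => by rw [aN, aN, Nat.mod_mod]
    rw [e n, e (n + 1), show (n + 1) % 8 = (n % 8 + 1) % 8 by omega, ← e (n % 8 + 1)]
    exact (hp (n % 8) (by omega) i i.2).symm

theorem order_k : orderOf k = 8 := by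
  rw [← Nat.card_zpowers, h.k_gen, S.card_two h.hne]

theorem mem_pows {g : G} (hg : g ∈ two U V) : ∃ n < 8, g = k ^ n := by
  rw [← h.k_gen] at hg
  obtain ⟨n, hn⟩ := (Submonoid.mem_powers_iff _ _).1 (mem_powers_iff_mem_zpowers.2 hg)
  exact ⟨n % 8, Nat.mod_lt _ (by norm_num), by rw [← h.order_k, pow_mod_orderOf]; exact hn.symm⟩

/-- An element exchanging the base points is, up to the stabiliser, the standard one. -/
theorem exists_swap : ∃ w : G, w • U = V ∧ w • V = U ∧
    ∀ i : Fin 28, ((h.pi w i : Fin 28) : ℕ) = get f0 i := by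
  -- some exchanging element
  obtain ⟨w, hwU, hwV⟩ : ∃ w : G, w • U = V ∧ w • V = U := by
    obtain ⟨g, hg⟩ := MulAction.exists_smul_eq G U V
    have hne : g • V ≠ V := fun e => h.hne (MulAction.injective g (hg.trans e.symm))
    obtain ⟨u, hu, hu'⟩ := S.regular (U := V) (V := g • V) (fun e => hne e.symm) (W := U) h.hne
    exact ⟨u * g, by rw [mul_smul, hg, S.smul_self hu], by rw [mul_smul, hu']⟩
  obtain ⟨m, hm8, hm⟩ : ∃ m < 8, w * k * w⁻¹ = k ^ m := by
    refine h.mem_pows (mem_two.2 ⟨?_, ?_⟩)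
    · rw [mul_smul, mul_smul, inv_smul_eq_iff.2 hwV.symm, (mem_two.1 h.k_mem).2, hwV]
    · rw [mul_smul, mul_smul, inv_smul_eq_iff.2 hwU.symm, (mem_two.1 h.k_mem).1, hwU]
  have hmodd : m ∈ [1, 3, 5, 7] := by
    have hc : ∀ n : ℕ, w * k ^ n * w⁻¹ = k ^ (m * n) := fun n => by
      rw [pow_mul, ← hm, conj_pow]
    by_contra hev
    have h4 : k ^ 4 = 1 := by
      have e := hc 4
      have h8 : k ^ (m * 4) = 1 := by
        obtain ⟨r, rfl⟩ : 2 ∣ m := by
          simp only [List.mem_cons, List.not_mem_nil, or_false] at hev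
          omega
        rw [show 2 * r * 4 = 8 * r by ring, pow_mul, show k ^ 8 = 1 from h.order_k ▸ pow_orderOf_eq_one k, one_pow]
      rw [h8] at e
      have := congrArg (fun g => w⁻¹ * g * w) e
      simpa [mul_assoc] using this
    have := orderOf_dvd_of_pow_eq_one h4
    rw [h.order_k] at this
    norm_num at this
  -- its map
  have hcomm : ∀ (n : ℕ) (i : Fin 28), ∀ (g : G), g * k * g⁻¹ = k ^ m →
      ((h.pi g (h.pi (k ^ n) i) : Fin 28) : ℕ) = aN (m * n) (h.pi g i) := by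
    intro n i g hg
    rw [← h.pi_k (m * n) (h.pi g i), ← Equiv.Perm.mul_apply, ← Equiv.Perm.mul_apply, ← map_mul, ← map_mul]
    congr 3
    rw [pow_mul, ← hg, conj_pow]
    group
  -- normalise at the centre
  obtain ⟨g, hgU, hgV, hgk, hg9⟩ : ∃ g : G, g • U = V ∧ g • V = U ∧ g * k * g⁻¹ = k ^ m ∧
      ((h.pi g ⟨9, by norm_num⟩ : Fin 28) : ℕ) = 9 := by
    have hfix := hcomm 2 ⟨9, by norm_num⟩ w hm
    have e9 : h.pi (k ^ 2) ⟨9, by norm_num⟩ = ⟨9, by norm_num⟩ := Fin.ext (by rw [h.pi_k]; exact a_facts.2.2.2.2.1)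
    rw [e9] at hfix
    set j := ((h.pi w ⟨9, by norm_num⟩ : Fin 28) : ℕ) with hj
    have hj27 : j < 27 := by
      by_contra hge
      have e : h.pi w ⟨9, by norm_num⟩ = h.pi w ⟨0, by norm_num⟩ := by
        apply h.pt_bijective.1
        rw [h.pt_pi w ⟨0, by norm_num⟩, h.pt_of_lt (i := 0) (by norm_num), h.el_zero, one_smul, hwV]
        refine Eq.trans ?_ h.pt_last
        congr 1
        have h28 : j < 28 := (h.pi w ⟨9, by norm_num⟩).2
        exact Fin.ext (show j = 27 by omega)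
      have := (h.pi w).injective e
      simp at this
    rcases fix_square m hmodd j hj27 (by rw [mul_comm]; exact hfix.symm) with e | e | e
    · exfalso
      have e' : h.pi w ⟨9, by norm_num⟩ = h.pi w ⟨27, by norm_num⟩ := by
        apply h.pt_bijective.1
        rw [h.pt_pi w ⟨27, by norm_num⟩, h.pt_last, hwU, show h.pi w ⟨9, by norm_num⟩ = ⟨0, by norm_num⟩ from Fin.ext e,
          h.pt_of_lt (by norm_num), h.el_zero, one_smul]
      have := (h.pi w).injective e'
      simp at this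
    · exact ⟨w, hwU, hwV, hm, e⟩
    · refine ⟨k * w, by rw [mul_smul, hwU, (mem_two.1 h.k_mem).2], by rw [mul_smul, hwV, (mem_two.1 h.k_mem).1],
        ?_, ?_⟩
      · rw [show k * w * k * (k * w)⁻¹ = k * (w * k * w⁻¹) * k⁻¹ by group, hm,
          (Commute.pow_right (Commute.refl k) m).eq, mul_inv_cancel_right]
      · have e1 : k * w = k ^ 1 * w := by rw [pow_one]
        rw [e1, map_mul, Equiv.Perm.mul_apply, h.pi_k, ← hj, e]
        exact a_facts.2.2.2.1
  set p := ((h.pi g ⟨1, by norm_num⟩ : Fin 28) : ℕ) with hp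
  set q := ((h.pi g ⟨10, by norm_num⟩ : Fin 28) : ℕ) with hq
  set r := ((h.pi g ⟨19, by norm_num⟩ : Fin 28) : ℕ) with hr
  have g0 : h.pi g ⟨0, by norm_num⟩ = ⟨27, by norm_num⟩ := by
    apply h.pt_bijective.1
    rw [h.pt_pi, h.pt_of_lt (by norm_num), h.el_zero, one_smul, hgV, h.pt_last]
  have g27 : h.pi g ⟨27, by norm_num⟩ = ⟨0, by norm_num⟩ := by
    apply h.pt_bijective.1
    rw [h.pt_pi, h.pt_last, hgU, h.pt_of_lt (by norm_num), h.el_zero, one_smul]
  have hF : ∀ i : Fin 28, ((h.pi g i : Fin 28) : ℕ) = fN m p q r i := by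
    intro i
    obtain ⟨e, hs⟩ := rep_facts i i.2
    set s := get reps i
    have hs28 : s < 28 := by simp at hs; omega
    have ei : h.pi (k ^ get pows i) ⟨s, hs28⟩ = i := Fin.ext (by rw [h.pi_k]; exact e)
    nth_rewrite 1 [← ei]
    rw [hcomm _ _ g hgk, fN]
    congr 1
    simp at hs
    rcases hs with e' | e' | e' | e' | e' | e' <;>
      [rw [show (⟨s, hs28⟩ : Fin 28) = ⟨0, by norm_num⟩ from Fin.ext e', g0];
       rw [show (⟨s, hs28⟩ : Fin 28) = ⟨27, by norm_num⟩ from Fin.ext e', g27];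
       rw [show (⟨s, hs28⟩ : Fin 28) = ⟨9, by norm_num⟩ from Fin.ext e', hg9];
       rw [show (⟨s, hs28⟩ : Fin 28) = ⟨1, by norm_num⟩ from Fin.ext e', ← hp];
       rw [show (⟨s, hs28⟩ : Fin 28) = ⟨10, by norm_num⟩ from Fin.ext e', ← hq];
       rw [show (⟨s, hs28⟩ : Fin 28) = ⟨19, by norm_num⟩ from Fin.ext e', ← hr]] <;>
      simp [show get reps (i : ℕ) = s from rfl, e']
  -- the images of the representatives are moved
  have hmoved : ∀ s : Fin 28, get reps s ∈ [1, 10, 19] → ((h.pi g s : Fin 28) : ℕ) ∈ moved := by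
    intro s hs
    have hne : ∀ t : Fin 28, get reps t ∉ [1, 10, 19] → ((h.pi g s : Fin 28) : ℕ) ≠ ((h.pi g t : Fin 28) : ℕ) := by
      intro t ht e
      exact ht ((h.pi g).injective (Fin.ext e) ▸ hs)
    have a := hne ⟨27, by norm_num⟩ (by decide +kernel)
    have b := hne ⟨9, by norm_num⟩ (by decide +kernel)
    have c := hne ⟨18, by norm_num⟩ (by decide +kernel)
    have d := hne ⟨0, by norm_num⟩ (by decide +kernel)
    rw [g27] at a
    rw [hg9] at b
    rw [g0] at d
    have e18 : ((h.pi g ⟨18, by norm_num⟩ : Fin 28) : ℕ) = 18 := by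
      rw [hF]
      show fN m p q r 18 = 18
      rw [show fN m p q r 18 = fN m 0 0 0 18 by simp [fN, show get reps 18 = 9 by decide +kernel]]
      exact (show ∀ m ∈ [1, 3, 5, 7], fN m 0 0 0 18 = 18 by decide +kernel) m hmodd
    rw [e18] at c
    have := (h.pi g s).2
    exact moved_facts _ (by simp at d; omega) ⟨a, b, c⟩
  have hdist : ∀ s t : Fin 28, get reps s ≠ get reps t →
      get reps ((h.pi g s : Fin 28) : ℕ) ≠ get reps ((h.pi g t : Fin 28) : ℕ) := by
    intro s t hst e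
    obtain ⟨i, hi, hi'⟩ := orbit_facts _ (h.pi g s).2 _ (h.pi g t).2 e
    obtain ⟨n, hn, hn'⟩ : ∃ n < 8, m * n % 8 = i := by
      have : ∀ m ∈ [1, 3, 5, 7], ∀ i < 8, ∃ n < 8, m * n % 8 = i := by decide +kernel
      exact this m hmodd i hi
    have h1 := hcomm n s g hgk
    rw [show aN (m * n) ((h.pi g s : Fin 28) : ℕ) = aN i ((h.pi g s : Fin 28) : ℕ) by
      rw [aN, aN, hn', Nat.mod_eq_of_lt hi], hi'] at h1
    have h2 := congrArg Fin.val ((h.pi g).injective (Fin.ext h1))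
    rw [h.pi_k] at h2
    refine hst ?_
    rw [← h2]
    exact ((show ∀ n < 8, ∀ j < 28, get reps (aN n j) = get reps j by decide +kernel) n hn s s.2).symm
  -- the condition
  have hcond : ∀ u : Fin 28, get reps u ∈ [9, 1, 10, 19] → affine (hN (fN m p q r) u) = true := by
    intro u hu
    have hu27 : (u : ℕ) < 27 := by
      by_contra hge
      rw [show (u : ℕ) = 27 by have := u.2; omega, show get reps 27 = 27 by decide +kernel] at hu
      simp at hu
    have hv27 : ((h.pi g u : Fin 28) : ℕ) < 27 := by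
      by_contra hge
      have e : h.pi g u = h.pi g ⟨0, by norm_num⟩ := by
        rw [g0]; exact Fin.ext (by have := (h.pi g u).2; show _ = 27; omega)
      rw [(h.pi g).injective e, show get reps ((⟨0, by norm_num⟩ : Fin 28) : ℕ) = 0 by decide +kernel] at hu
      simp at hu
    set v := ((h.pi g u : Fin 28) : ℕ) with hv
    obtain ⟨l2, e2⟩ := h.powN_lt hv27 2
    set t := g * (el x y z (powN v 2) * (g * (el x y z u * g))) with ht
    have htU : t • U = U := by
      have hgu : g • (el x y z u • V) = el x y z v • V := by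
        have := h.pt_pi g ⟨u, by omega⟩
        rw [h.pt_of_lt hu27, show h.pi g ⟨(u : ℕ), _⟩ = ⟨v, by omega⟩ from Fin.ext rfl, h.pt_of_lt hv27] at this
        exact this.symm
      rw [ht, mul_smul, mul_smul, mul_smul, mul_smul, hgU, hgu, e2, ← mul_smul (el x y z v ^ 2), ← pow_succ,
        S.cube U.2 (h.el_mem v), one_smul, hgV]
    obtain ⟨e, he, he'⟩ := S.regular h.hne (W := t • V) (fun e => h.hne (MulAction.injective t (htU.trans e.symm)))
    obtain ⟨n, hn, hn'⟩ := h.mem_pows (g := e⁻¹ * t) (mem_two.2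
      ⟨by rw [mul_smul, htU, inv_smul_eq_iff, S.smul_self he], by rw [mul_smul, inv_smul_eq_iff, he']⟩)
    obtain ⟨d, hd, rfl⟩ := h.el_surj he
    have ht2 : t = el x y z d * k ^ n := by rw [← hn']; group
    have hval : ∀ j : Fin 28, hN (fN m p q r) u j = mulN d (aN n j) := by
      intro j
      have e3 : ((h.pi t j : Fin 28) : ℕ) = mulN d (aN n j) := by
        rw [ht2, map_mul, Equiv.Perm.mul_apply, h.pi_el hd, h.pi_k]
      rw [← e3, ht, hN, ← hF u, ← hv]
      simp only [map_mul, Equiv.Perm.mul_apply, hF, h.pi_el l2, h.pi_el hu27]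
    rw [affine]
    simp only [List.any_eq_true]
    have hc0 : hN (fN m p q r) u 0 = d := by
      rw [show (0 : ℕ) = ((⟨0, by norm_num⟩ : Fin 28) : ℕ) from rfl, hval, (a_facts.2.1 n hn).1]
      simp [mulN, hd]
      omega
    refine ⟨n, by simp; omega, ?_⟩
    rw [Bool.and_eq_true, beq_iff_eq, List.all_eq_true, hc0]
    refine ⟨hval ⟨1, by norm_num⟩, fun j hj => beq_iff_eq.2 ?_⟩
    have hj28 : j < 28 := (show ∀ j ∈ pts, j < 28 by decide +kernel) j hj
    exact hval ⟨j, hj28⟩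
  have hsearch : search m = true := by
    simp at hmodd
    rcases hmodd with rfl | rfl | rfl | rfl
    exacts [search_one, search_three, search_five, search_seven]
  rw [search, List.all_eq_true] at hsearch
  have h1 := hsearch p (hp ▸ hmoved ⟨1, by norm_num⟩ (by decide +kernel))
  rw [List.all_eq_true] at h1
  have h2 := h1 q (hq ▸ hmoved ⟨10, by norm_num⟩ (by decide +kernel))
  rw [List.all_eq_true] at h2
  have h3 := h2 r (hr ▸ hmoved ⟨19, by norm_num⟩ (by decide +kernel))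
  simp only [Bool.or_eq_true, beq_iff_eq, Bool.not_eq_true'] at h3
  have hcv : Tab.cond (fN m p q r) = true := by
    simp only [Tab.cond, Bool.and_eq_true]
    exact ⟨⟨⟨hcond ⟨9, by norm_num⟩ (by decide +kernel), hcond ⟨1, by norm_num⟩ (by decide +kernel)⟩,
      hcond ⟨10, by norm_num⟩ (by decide +kernel)⟩, hcond ⟨19, by norm_num⟩ (by decide +kernel)⟩
  have h4 : standard (fN m p q r) = true := by
    rcases h3 with ((((e | e) | e) | e) | e)
    · exact absurd e (hdist ⟨1, by norm_num⟩ ⟨10, by norm_num⟩ (by decide +kernel))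
    · exact absurd e (hdist ⟨1, by norm_num⟩ ⟨19, by norm_num⟩ (by decide +kernel))
    · exact absurd e (hdist ⟨10, by norm_num⟩ ⟨19, by norm_num⟩ (by decide +kernel))
    · rw [hcv] at e; exact absurd e (by simp)
    · exact e
  rw [standard, List.any_eq_true] at h4
  obtain ⟨n, hn, hn'⟩ := h4
  rw [List.all_eq_true] at hn'
  have hn8 : n < 8 := by simp at hn; omega
  refine ⟨k ^ (8 - n) * g, by rw [mul_smul, hgU]; exact (mem_two.1 (pow_mem h.k_mem _)).2,
    by rw [mul_smul, hgV]; exact (mem_two.1 (pow_mem h.k_mem _)).1, fun i => ?_⟩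
  rw [map_mul, Equiv.Perm.mul_apply, h.pi_k, hF,
    beq_iff_eq.1 (hn' i ((show ∀ j < 28, j ∈ pts by decide +kernel) i i.2))]
  have hcan : ∀ n < 8, ∀ j < 28, get f0 j < 28 ∧ aN (8 - n) (aN n (get f0 j)) = get f0 j := by decide +kernel
  exact (hcan n hn8 i i.2).2

theorem range_eq : h.pi.range = Subgroup.closure stdSet := by
  obtain ⟨w, hwU, hwV, hw⟩ := h.exists_swap
  have e1 : el x y z 1 = x := by simp [el]
  have e3 : el x y z 3 = y := by simp [el]
  have vx : ∀ j : Fin 28, ((h.pi x j : Fin 28) : ℕ) = mulN 1 j := fun j => by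
    have e := h.pi_el (d := 1) (by norm_num) j
    rwa [show h.pi (el x y z 1) = h.pi x from congrArg h.pi e1] at e
  have vy : ∀ j : Fin 28, ((h.pi y j : Fin 28) : ℕ) = mulN 3 j := fun j => by
    have e := h.pi_el (d := 3) (by norm_num) j
    rwa [show h.pi (el x y z 3) = h.pi y from congrArg h.pi e3] at e
  have vk : ∀ j : Fin 28, ((h.pi k j : Fin 28) : ℕ) = aN 1 j := fun j => by
    have e := h.pi_k 1 j
    rwa [show h.pi (k ^ 1) = h.pi k from congrArg h.pi (pow_one k)] at e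
  have px : h.pi x ∈ stdSet := Or.inl vx
  have py : h.pi y ∈ stdSet := Or.inr (Or.inl vy)
  have pk : h.pi k ∈ stdSet := Or.inr (Or.inr (Or.inl vk))
  have pw : h.pi w ∈ stdSet := Or.inr (Or.inr (Or.inr hw))
  refine le_antisymm ?_ ((Subgroup.closure_le _).2 ?_)
  · rintro _ ⟨g, rfl⟩
    set H := (Subgroup.closure stdSet).comap h.pi with hH
    have hx : x ∈ H := Subgroup.subset_closure px
    have hy : y ∈ H := Subgroup.subset_closure py
    have hk : k ∈ H := Subgroup.subset_closure pk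
    have hwH : w ∈ H := Subgroup.subset_closure pw
    have hzH : z ∈ H := h.z_def ▸ mul_mem (mul_mem (mul_mem hx hy) (inv_mem hx)) (inv_mem hy)
    have hU : ∀ u ∈ (U : Subgroup G), u ∈ H := fun u hu => by
      obtain ⟨i, -, rfl⟩ := h.el_surj hu
      exact mul_mem (mul_mem (pow_mem hx _) (pow_mem hy _)) (pow_mem hzH _)
    have hN : ∀ g : G, g • U = U → g ∈ H := fun g hg => by
      obtain ⟨u, hu, hu'⟩ := S.regular h.hne (W := g • V) (fun e => h.hne (MulAction.injective g (hg.trans e.symm)))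
      obtain ⟨n, -, hn⟩ := h.mem_pows (g := u⁻¹ * g) (mem_two.2
        ⟨by rw [mul_smul, hg, inv_smul_eq_iff, S.smul_self hu], by rw [mul_smul, inv_smul_eq_iff, hu']⟩)
      rw [show g = u * k ^ n by rw [← hn]; group]
      exact mul_mem (hU u hu) (pow_mem hk n)
    show g ∈ H
    by_cases hg : g • U = U
    · exact hN g hg
    · obtain ⟨u, hu, hu'⟩ := S.regular h.hne (W := g • U) hg
      have h1 : (u * w)⁻¹ * g ∈ H := hN _ (by rw [mul_smul, inv_smul_eq_iff, mul_smul, hwU, hu'])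
      have h2 := mul_mem (mul_mem (hU u hu) hwH) h1
      rwa [mul_inv_cancel_left] at h2
  · rintro σ (hσ | hσ | hσ | hσ)
    · exact ⟨x, Equiv.ext fun j => Fin.ext (by rw [hσ]; exact vx j)⟩
    · exact ⟨y, Equiv.ext fun j => Fin.ext (by rw [hσ]; exact vy j)⟩
    · exact ⟨k, Equiv.ext fun j => Fin.ext (by rw [hσ]; exact vk j)⟩
    · exact ⟨w, Equiv.ext fun j => Fin.ext (by rw [hσ]; exact hw j)⟩

theorem pi_injective : Function.Injective h.pi := by
  have := S.hyp.simple
  rw [← MonoidHom.ker_eq_bot_iff]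
  refine (MonoidHom.normal_ker h.pi).eq_bot_or_eq_top.resolve_right fun e => ?_
  obtain ⟨g, hg⟩ := MulAction.exists_smul_eq G U V
  have h1 : h.pi g = 1 := MonoidHom.mem_ker.1 (e ▸ Subgroup.mem_top g)
  have h2 := h.pt_pi g ⟨27, by norm_num⟩
  rw [h1, Equiv.Perm.one_apply, h.pt_last, hg] at h2
  exact h.hne h2

end Gens

/-- A simple group of order 6048 without elements of order 9, 14 or 21 is a fixed group of permutations. -/
theorem nonempty_equiv {G : Type u} [Group G] [Finite G] (hyp : Hyp G) :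
    Nonempty (G ≃* ↥(Subgroup.closure stdSet)) := by
  have := Fintype.ofFinite G
  obtain ⟨a, b, c, S⟩ := exists_ctx hyp
  obtain ⟨U, V, x, y, z, k, h⟩ := S.exists_gens
  exact ⟨(MonoidHom.ofInjective h.pi_injective).trans (MulEquiv.subgroupCongr h.range_eq)⟩

/-- Simple groups of order 6048 without elements of order 9, 14 or 21 are isomorphic. -/
theorem equiv {G : Type u} [Group G] [Finite G] {H : Type*} [Group H] [Finite H] (hG : Hyp G) (hH : Hyp H) :
    Nonempty (G ≃* H) := by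
  obtain ⟨e⟩ := nonempty_equiv hG
  obtain ⟨e'⟩ := nonempty_equiv hH
  exact ⟨e.trans e'.symm⟩

end Cfsg.Lib.UThreeOrder
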