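import Cfsg.Agent.Recognition.USixtyFortyEight.Local

/-!
# Trivial intersections, the stabiliser of two points and normalised generators
-/

set_option autoImplicit false
set_option linter.unusedSectionVars false

namespace Cfsg.Lib.UThreeOrder

open Subgroup Cfsg.Lib.Chars MulAction
open scoped ComplexConjugate Pointwise _root_.Classical

universe u

variable {G : Type u} [Group G] [Fintype G] {a b c : G → ℂ}

theorem fix_mem (U : Sylow 3 G) {g : G} : g • U = U ↔ g ∈ normalizer ((U : Subgroup G) : Set G) :=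
  Sylow.smul_eq_iff_mem_normalizer

theorem count_cases : ∀ n ∈ Nat.divisors 224, n % 9 = 1 → n = 1 ∨ n = 28 := by decide +kernel

theorem local_cases : ∀ n ∈ Nat.divisors 32, n % 9 = 1 → n = 1 := by decide +kernel

theorem exists_mul_card (H : Subgroup G) : ∃ k, Nat.card G = k * Nat.card H := ⟨_, H.index_mul_card.symm⟩

namespace Ctx

variable (S : Ctx G a b c)
include S

theorem card_sylow_three (U : Sylow 3 G) : Nat.card (U : Subgroup G) = 27 := by
  have : Fact (Nat.Prime 3) := ⟨Nat.prime_three⟩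
  rw [U.card_eq_multiplicity, S.hyp.card]
  have hf : (6048 : ℕ).factorization 3 = 3 := by
    rw [show (6048 : ℕ) = 3 ^ 3 * 224 by norm_num, Nat.factorization_mul (by norm_num) (by norm_num),
      Finsupp.add_apply, Nat.Prime.factorization_pow Nat.prime_three, Finsupp.single_eq_same,
      Nat.factorization_eq_zero_of_not_dvd (show ¬ 3 ∣ 224 by norm_num)]
  rw [hf]
  norm_num

theorem exists_z (U : Sylow 3 G) : ∃ z ∈ (U : Subgroup G), a z = -3 :=
  (S.line (H := (U : Subgroup G)) (Or.inr (S.card_sylow_three U))).imp fun _ h => ⟨h.1, h.2.2.1⟩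

/-- Step one: no two Sylow subgroups share a subgroup of order nine. -/
theorem eq_of_nine {U V : Sylow 3 G} {D : Subgroup G} (hD : Nat.card D = 9) (hDU : D ≤ (U : Subgroup G))
    (hDV : D ≤ (V : Subgroup G)) : U = V := by
  obtain ⟨z, hz, hz1, hz3, -⟩ := S.line (H := D) (Or.inl hD)
  have hCu := S.card_sylow_three U
  have hCv := S.card_sylow_three V
  let H : Subgroup G :=
    { carrier := {g | g * z * g⁻¹ = z ∧ ∀ d ∈ D, g * d * g⁻¹ * d⁻¹ ∈ zpowers z}
      one_mem' := ⟨by group, fun d _ => by simp⟩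
      mul_mem' := by
        rintro g h ⟨g1, g2⟩ ⟨h1, h2⟩
        refine ⟨by rw [show g * h * z * (g * h)⁻¹ = g * (h * z * h⁻¹) * g⁻¹ by group, h1, g1], fun d hd => ?_⟩
        have hm : g * (h * d * h⁻¹ * d⁻¹) * g⁻¹ ∈ zpowers z := by
          obtain ⟨i, hi⟩ := mem_zpowers_iff.1 (h2 d hd)
          refine ⟨i, ?_⟩
          show z ^ i = _
          rw [← hi, show g * z ^ i * g⁻¹ = MulAut.conj g (z ^ i) from rfl, map_zpow, MulAut.conj_apply, g1]
        have := mul_mem hm (g2 d hd)
        rwa [show g * (h * d * h⁻¹ * d⁻¹) * g⁻¹ * (g * d * g⁻¹ * d⁻¹) = g * h * d * (g * h)⁻¹ * d⁻¹ by group] at this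
      inv_mem' := by
        rintro g ⟨g1, g2⟩
        refine ⟨by nth_rewrite 1 [← g1]; group, fun d hd => ?_⟩
        obtain ⟨i, hi⟩ := mem_zpowers_iff.1 (g2 d hd)
        refine ⟨-i, ?_⟩
        show z ^ (-i) = _
        have e2 : g⁻¹ * z ^ i * g⁻¹⁻¹ = z ^ i := by
          have e : g⁻¹ * z * g⁻¹⁻¹ = z := by nth_rewrite 1 [← g1]; group
          rw [show g⁻¹ * z ^ i * g⁻¹⁻¹ = MulAut.conj g⁻¹ (z ^ i) from rfl, map_zpow, MulAut.conj_apply, e]
        have e3 : g⁻¹ * (z ^ i)⁻¹ * g⁻¹⁻¹ = (z ^ i)⁻¹ := by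
          nth_rewrite 2 [← e2]
          group
        rw [zpow_neg, ← e3, hi]
        group }
  have hle : ∀ W : Sylow 3 G, D ≤ (W : Subgroup G) → (W : Subgroup G) ≤ H := fun W hW g hg =>
    ⟨by rw [← S.z_comm (S.card_sylow_three W) (hW hz) hz3 hg, mul_inv_cancel_right],
      fun d hd => S.comm_mem (S.card_sylow_three W) (hW hz) hz3 hg (hW hd)⟩
  have hp : IsPGroup 3 H := by
    intro g
    obtain ⟨g1, g2⟩ := g.2
    have hz' : z ^ 3 = 1 := S.cube (IsPGroup.of_card (n := 2) hD) hz
    have hC : (g : G) ^ 3 ∈ centralizer (D : Set G) := by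
      refine mem_centralizer_iff.2 fun d hd => ?_
      obtain ⟨i, hi⟩ := mem_zpowers_iff.1 (g2 d hd)
      have hi' : (g : G) * d * (g : G)⁻¹ = z ^ i * d := by rw [hi, inv_mul_cancel_right]
      have hzi : ∀ j : ℤ, (g : G) * z ^ j * (g : G)⁻¹ = z ^ j := fun j => by
        rw [show (g : G) * z ^ j * (g : G)⁻¹ = MulAut.conj (g : G) (z ^ j) from rfl, map_zpow, MulAut.conj_apply, g1]
      have e3 : (g : G) ^ 3 * d * ((g : G) ^ 3)⁻¹ = z ^ (i + i + i) * d := by
        rw [show (g : G) ^ 3 * d * ((g : G) ^ 3)⁻¹ =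
          (g : G) * ((g : G) * ((g : G) * d * (g : G)⁻¹) * (g : G)⁻¹) * (g : G)⁻¹ by simp [pow_succ, mul_assoc],
          hi', show (g : G) * (z ^ i * d) * (g : G)⁻¹ = (g : G) * z ^ i * (g : G)⁻¹ * ((g : G) * d * (g : G)⁻¹) by group,
          hzi, hi', show (g : G) * (z ^ i * (z ^ i * d)) * (g : G)⁻¹ =
            (g : G) * z ^ i * (g : G)⁻¹ * ((g : G) * z ^ i * (g : G)⁻¹) * ((g : G) * d * (g : G)⁻¹) by group,
          hzi, hi', zpow_add, zpow_add]
        group
      rw [show z ^ (i + i + i) = 1 by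
        rw [show i + i + i = ((3 : ℕ) : ℤ) * i by push_cast; ring, zpow_mul, zpow_natCast, hz', one_zpow],
        one_mul, mul_inv_eq_iff_eq_mul] at e3
      exact e3.symm
    obtain ⟨k, hk⟩ := S.centralizer_nine hD ⟨_, hC⟩
    refine ⟨k + 1, Subtype.ext ?_⟩
    have hk' : ((g : G) ^ 3) ^ 3 ^ k = 1 := congrArg Subtype.val hk
    push_cast
    rw [pow_succ', pow_mul]
    exact hk'
  exact Sylow.ext ((U.is_maximal' hp (hle U hDU)).symm.trans (V.is_maximal' hp (hle V hDV)))

theorem inf_card {U V : Sylow 3 G} (hne : U ≠ V) :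
    Nat.card ↥((U : Subgroup G) ⊓ V) ∣ 3 := by
  have : Fact (Nat.Prime 3) := ⟨Nat.prime_three⟩
  have hd : Nat.card ↥((U : Subgroup G) ⊓ V) ∣ 3 ^ 3 := by
    have := card_dvd_of_le (inf_le_left : (U : Subgroup G) ⊓ V ≤ U)
    rwa [S.card_sylow_three U] at this
  obtain ⟨i, hi, e⟩ := (Nat.dvd_prime_pow Nat.prime_three).1 hd
  rcases Nat.lt_or_ge i 2 with h | h
  · rw [e]
    exact (pow_dvd_pow 3 (show i ≤ 1 by omega)).trans (by norm_num)
  · exfalso
    obtain ⟨D, hD⟩ := Sylow.exists_subgroup_card_pow_prime (G := ↥((U : Subgroup G) ⊓ V)) 3 (n := 2)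
      (by rw [e]; exact pow_dvd_pow 3 h)
    have hD9 : Nat.card (D.map ((U : Subgroup G) ⊓ V).subtype) = 9 := by
      rw [card_map_of_injective (subtype_injective _), hD]; norm_num
    exact hne (S.eq_of_nine hD9 ((map_subtype_le _).trans inf_le_left) ((map_subtype_le _).trans inf_le_right))

/-- The Sylow subgroups of a subgroup containing one of them number one modulo nine. -/
theorem ncard_mod_nine (U : Sylow 3 G) (T : Finset (Sylow 3 G)) (hU : U ∈ T)
    (hstab : ∀ g ∈ (U : Subgroup G), ∀ V ∈ T, g • V ∈ T) : T.card % 9 = 1 := by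
  have : Fact (Nat.Prime 3) := ⟨Nat.prime_three⟩
  have hne : ∀ (g : (U : Subgroup G)) (V : Sylow 3 G), V ∈ T.erase U → (g : G) • V ∈ T.erase U := by
    intro g V hV
    obtain ⟨h1, h2⟩ := Finset.mem_erase.1 hV
    refine Finset.mem_erase.2 ⟨fun e => h1 ?_, hstab g g.2 V h2⟩
    have hgU : (g : G) • U = U := (fix_mem U).2 (le_normalizer g.2)
    exact MulAction.injective (g : G) (e.trans hgU.symm)
  letI : MulAction (U : Subgroup G) {V // V ∈ T.erase U} :=
    { smul := fun g V => ⟨(g : G) • V.1, hne g V.1 V.2⟩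
      one_smul := fun V => Subtype.ext (one_smul G V.1)
      mul_smul := fun g h V => Subtype.ext (mul_smul (g : G) (h : G) V.1) }
  have horb : ∀ V : {V // V ∈ T.erase U}, 9 ∣ Nat.card (orbit (U : Subgroup G) V) := by
    intro V
    have hst : Nat.card (stabilizer (U : Subgroup G) V) ∣ 3 := by
      refine dvd_trans ?_ (S.inf_card (U := U) (V := V.1) (Finset.ne_of_mem_erase V.2).symm)
      have hle : (stabilizer (U : Subgroup G) V).map (U : Subgroup G).subtype ≤ (U : Subgroup G) ⊓ V.1 := by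
        rintro _ ⟨g, hg, rfl⟩
        have h1 : (g : G) • V.1 = V.1 := congrArg Subtype.val (mem_stabilizer_iff.1 hg)
        have h2 : (g : G) ∈ (U : Subgroup G) ⊓ normalizer ((V.1 : Subgroup G) : Set G) :=
          ⟨g.2, (fix_mem V.1).1 h1⟩
        change (g : G) ∈ (U : Subgroup G) ⊓ normalizer (V.1 : Set G) at h2
        rw [U.2.inf_normalizer_sylow V.1] at h2
        exact h2
      rw [← card_map_of_injective (U : Subgroup G).subtype_injective]
      exact card_dvd_of_le hle
    have hos : Nat.card (orbit (U : Subgroup G) V) * Nat.card (stabilizer (U : Subgroup G) V) = 27 := by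
      rw [← S.card_sylow_three U, ← Nat.card_prod]
      exact Nat.card_congr (orbitProdStabilizerEquivGroup (U : Subgroup G) V)
    rcases (Nat.dvd_prime Nat.prime_three).1 hst with e | e <;> rw [e] at hos <;> omega
  have h1 : 9 ∣ (T.erase U).card := by
    have := Fintype.ofFinite (orbitRel.Quotient (U : Subgroup G) {V // V ∈ T.erase U})
    rw [← Nat.card_eq_finsetCard, Nat.card_congr (selfEquivSigmaOrbits (U : Subgroup G) {V // V ∈ T.erase U}),
      Nat.card_sigma]
    exact Finset.dvd_sum fun ω _ => horb _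
  have h2 := Finset.card_erase_add_one hU
  omega

/-- Two Sylow subgroups sharing a central element are equal. -/
theorem eq_of_z {U V : Sylow 3 G} {z : G} (hz : z ∈ (U : Subgroup G)) (hzV : z ∈ (V : Subgroup G))
    (hz3 : a z = -3) : U = V := by
  have : Fact (Nat.Prime 3) := ⟨Nat.prime_three⟩
  set C := centralizer ({z} : Set G)
  set T := Finset.univ.filter fun W : Sylow 3 G => (W : Subgroup G) ≤ C with hT
  have hmem : ∀ W : Sylow 3 G, z ∈ (W : Subgroup G) → W ∈ T := fun W hW => Finset.mem_filter.2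
    ⟨Finset.mem_univ _, fun g hg => mem_centralizer_singleton_iff.2 (S.z_comm (S.card_sylow_three W) hW hz3 hg).symm⟩
  have hUC : (U : Subgroup G) ≤ C := (Finset.mem_filter.1 (hmem U hz)).2
  have h9 : T.card % 9 = 1 := S.ncard_mod_nine U T (hmem U hz) fun g hg W hW => by
    refine Finset.mem_filter.2 ⟨Finset.mem_univ _, ?_⟩
    rw [Sylow.coe_subgroup_smul]
    rintro _ ⟨x, hx, rfl⟩
    exact mul_mem (mul_mem (hUC hg) ((Finset.mem_filter.1 hW).2 hx)) (inv_mem (hUC hg))
  have hcard : T.card = Nat.card (Sylow 3 C) := by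
    rw [← Nat.card_eq_finsetCard]
    refine Nat.card_congr (Equiv.ofBijective (fun W => W.1.subtype (Finset.mem_filter.1 W.2).2) ⟨?_, ?_⟩)
    · intro W W' e
      exact Subtype.ext (Sylow.subtype_injective e)
    · intro P
      have hP27 : Nat.card (P : Subgroup C) = 27 := by
        have h1 : 27 ∣ Nat.card C := S.card_sylow_three U ▸ card_dvd_of_le hUC
        have h2 : Nat.card (P : Subgroup C) ∣ 6048 := S.hyp.card ▸
          (card_subgroup_dvd_card _).trans (card_subgroup_dvd_card C)
        obtain ⟨i, hi⟩ := IsPGroup.iff_card.1 P.2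
        have h3 : 3 ^ 3 ∣ Nat.card (P : Subgroup C) := P.pow_dvd_card_of_pow_dvd_card (by exact h1)
        rw [hi] at h2 h3
        have h4 : i < 4 := by
          by_contra hge
          have := (pow_dvd_pow 3 (show 4 ≤ i by omega)).trans h2
          norm_num at this
        have h5 : 3 ≤ i := (Nat.pow_dvd_pow_iff_le_right (by norm_num)).1 h3
        rw [hi, show i = 3 by omega]; norm_num
      obtain ⟨W, hW⟩ := (IsPGroup.of_card (p := 3) (n := 3)
        (G := ↥((P : Subgroup C).map C.subtype)) (by rw [card_map_of_injective (subtype_injective _), hP27]; norm_num)).exists_le_sylow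
      have hWe : (P : Subgroup C).map C.subtype = (W : Subgroup G) :=
        eq_of_le_of_card_ge hW (by rw [card_map_of_injective (subtype_injective _), hP27, S.card_sylow_three W])
      have hWC : (W : Subgroup G) ≤ C := hWe ▸ map_subtype_le _
      refine ⟨⟨W, Finset.mem_filter.2 ⟨Finset.mem_univ _, hWC⟩⟩, Sylow.ext ?_⟩
      show (W : Subgroup G).subgroupOf C = P
      rw [← hWe, subgroupOf, comap_map_eq_self_of_injective (subtype_injective _)]
  have hdvd : Nat.card (Sylow 3 C) ∣ 32 := by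
    obtain ⟨W⟩ : Nonempty (Sylow 3 C) := inferInstance
    have h1 := W.card_dvd_index
    have h2 : Nat.card (W : Subgroup C) * (W : Subgroup C).index = Nat.card C := card_mul_index _
    have h3 : Nat.card C ∣ 864 := card_dvd_six_eight (S.hyp.card ▸ card_subgroup_dvd_card C)
      (S.not_seven_dvd (S.order_three U.2 hz (S.z_ne (S.card_sylow_three U) hz hz3)))
    refine h1.trans ?_
    have h4 : ¬ 3 ∣ (W : Subgroup C).index := W.not_dvd_index
    refine (Nat.Coprime.pow_right 3 (Nat.prime_three.coprime_iff_not_dvd.2 h4).symm).dvd_of_dvd_mul_left ?_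
    exact (dvd_trans ⟨_, by rw [mul_comm]; exact h2.symm⟩ h3 : (W : Subgroup C).index ∣ 27 * 32)
  have h1 : T.card = 1 := local_cases _ (Nat.mem_divisors.2 ⟨hcard ▸ hdvd, by norm_num⟩) h9
  obtain ⟨X, hX⟩ := Finset.card_eq_one.1 h1
  rw [hX] at hmem
  exact (Finset.mem_singleton.1 (hmem U hz)).trans (Finset.mem_singleton.1 (hmem V hzV)).symm

theorem card_sylow (U : Sylow 3 G) : Nat.card (Sylow 3 G) = 28 := by
  have : Fact (Nat.Prime 3) := ⟨Nat.prime_three⟩
  have := S.hyp.simple
  have h9 : (Finset.univ : Finset (Sylow 3 G)).card % 9 = 1 :=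
    S.ncard_mod_nine U _ (Finset.mem_univ _) fun _ _ _ _ => Finset.mem_univ _
  rw [Finset.card_univ, ← Nat.card_eq_fintype_card] at h9
  have hd : Nat.card (Sylow 3 G) ∣ 224 := by
    have h1 := U.card_dvd_index
    have h2 := (U : Subgroup G).card_mul_index
    rw [S.card_sylow_three U, S.hyp.card] at h2
    rwa [show (U : Subgroup G).index = 224 by omega] at h1
  refine (count_cases _ (Nat.mem_divisors.2 ⟨hd, by norm_num⟩) h9).resolve_left fun e => ?_
  have := (Nat.card_eq_one_iff_unique.1 e).1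
  rcases (Sylow.normal_of_subsingleton (P := U)).eq_bot_or_eq_top with e' | e' <;>
    have h27 := S.card_sylow_three U <;> rw [e'] at h27
  · rw [card_bot] at h27; omega
  · rw [card_top, S.hyp.card] at h27; omega

/-- An element with value zero has a centraliser of order 9 or 18. -/
theorem centralizer_zero {U : Sylow 3 G} {d z : G} (hd : d ∈ (U : Subgroup G)) (hd0 : a d = 0)
    (hz : z ∈ (U : Subgroup G)) (hz3 : a z = -3) :
    zpowers d ⊔ zpowers z ≤ centralizer ({d} : Set G) ∧ Nat.card ↥(zpowers d ⊔ zpowers z) = 9 ∧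
      (Nat.card (centralizer ({d} : Set G)) = 9 ∨ Nat.card (centralizer ({d} : Set G)) = 18) := by
  have : Fact (Nat.Prime 3) := ⟨Nat.prime_three⟩
  have hU := S.card_sylow_three U
  have hd1 : d ≠ 1 := fun e => by rw [e, S.vals.a_one] at hd0; norm_num at hd0
  have hdo := S.order_three U.2 hd hd1
  have hzo := S.z_order hU hz hz3
  set C := centralizer ({d} : Set G)
  have hzd : z ∉ zpowers d := by
    intro h
    have h2 : d ∈ zpowers z := by
      have e : zpowers z = zpowers d :=
        eq_of_le_of_card_ge (zpowers_le.2 h) (by rw [Nat.card_zpowers, Nat.card_zpowers, hdo, hzo])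
      exact e ▸ mem_zpowers d
    obtain ⟨i, hlt, hi⟩ : ∃ i, i < 3 ∧ z ^ i = d := by
      obtain ⟨i, hi⟩ := Submonoid.mem_powers_iff _ _ |>.1 (mem_powers_iff_mem_zpowers.2 h2)
      exact ⟨i % 3, Nat.mod_lt _ (by norm_num), by rw [← hzo, pow_mod_orderOf]; exact hi⟩
    interval_cases i
    · exact hd1 (by rw [← hi, pow_zero])
    · rw [← hi, pow_one, hz3] at hd0; norm_num at hd0
    · have : d = z⁻¹ := by
        rw [← hi, eq_inv_iff_mul_eq_one, ← pow_succ]; exact S.cube U.2 hz
      rw [this, S.apply_inv hzo, hz3] at hd0; norm_num at hd0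
  have hW : zpowers d ⊔ zpowers z ≤ C := sup_le (zpowers_le.2 (mem_centralizer_singleton_iff.2 rfl))
    (zpowers_le.2 (mem_centralizer_singleton_iff.2 (S.z_comm hU hz hz3 hd)))
  have hW9 := S.card_pair hdo hzo (S.z_comm hU hz hz3 hd).symm hzd
  have h9 : 9 ∣ Nat.card C := hW9 ▸ card_dvd_of_le hW
  have h864 : Nat.card C ∣ 864 :=
    card_dvd_six_eight (S.hyp.card ▸ card_subgroup_dvd_card C) (S.not_seven_dvd hdo)
  have h27 : ¬ 27 ∣ Nat.card C := by
    intro h
    obtain ⟨P, hP⟩ := Sylow.exists_subgroup_card_pow_prime (G := C) 3 (n := 3) (by simpa using h)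
    have hP' : Nat.card (P.map C.subtype) = 27 := by
      rw [card_map_of_injective (subtype_injective _), hP]; norm_num
    obtain ⟨W, hW'⟩ := (IsPGroup.of_card (p := 3) (n := 3) (G := ↥(P.map C.subtype)) hP').exists_le_sylow
    have hWe : P.map C.subtype = (W : Subgroup G) :=
      eq_of_le_of_card_ge hW' (by rw [hP', S.card_sylow_three W])
    have hWC : (W : Subgroup G) ≤ C := hWe ▸ map_subtype_le _
    -- `d` lies in `W`
    have hp : IsPGroup 3 ↥((W : Subgroup G) ⊔ zpowers d) := by
      refine IsPGroup.to_sup_of_normal_right' W.2 (IsPGroup.of_card (n := 1) (by rw [Nat.card_zpowers, hdo]; norm_num)) ?_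
      refine le_trans (show (W : Subgroup G) ≤ centralizer ({d} : Set G) from hWC) ?_
      intro g hg
      rw [mem_normalizer_iff]
      intro x
      have hgd : Commute g d := mem_centralizer_singleton_iff.1 hg
      constructor
      · intro hx
        obtain ⟨i, rfl⟩ := mem_zpowers_iff.1 hx
        rw [(hgd.zpow_right i).eq, mul_inv_cancel_right]
        exact hx
      · intro hx
        obtain ⟨i, hi⟩ := mem_zpowers_iff.1 hx
        refine ⟨i, ?_⟩
        show d ^ i = x
        have : g⁻¹ * (g * x * g⁻¹) * g = x := by group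
        rw [← this, ← hi, ((hgd.zpow_right i).inv_left).eq, inv_mul_cancel_right]
    have hdW : d ∈ (W : Subgroup G) := W.is_maximal' hp le_sup_left ▸ mem_sup_right (mem_zpowers d)
    obtain ⟨z', hz', hz'3⟩ := S.exists_z W
    have hle : (W : Subgroup G) ≤ zpowers d ⊔ zpowers z' := fun x hx =>
      S.commuting_span (S.card_sylow_three W) hz' hz'3 hdW hd0 hx (mem_centralizer_singleton_iff.1 (hWC hx)).symm
    have hle2 := card_le_of_le hle
    rw [S.card_sylow_three W] at hle2
    by_cases hz'd : z' ∈ zpowers d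
    · rw [sup_eq_left.2 (zpowers_le.2 hz'd), Nat.card_zpowers, hdo] at hle2; omega
    · rw [S.card_pair hdo (S.z_order (S.card_sylow_three W) hz' hz'3)
        (S.z_comm (S.card_sylow_three W) hz' hz'3 hdW).symm hz'd] at hle2
      omega
  have h4 : ¬ 4 ∣ Nat.card C := by
    intro h
    have : Fact (Nat.Prime 2) := ⟨Nat.prime_two⟩
    obtain ⟨R, hR⟩ := Sylow.exists_subgroup_card_pow_prime (G := C) 2 (n := 2) (by simpa using h)
    let φ := pairHom (zpowers d) (R.map C.subtype) fun x hx y hy => by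
      obtain ⟨i, rfl⟩ := mem_zpowers_iff.1 hx
      obtain ⟨y, -, rfl⟩ := hy
      exact (show Commute d (y : G) from (mem_centralizer_singleton_iff.1 y.2).symm).zpow_left i
    obtain ⟨k, hk⟩ := sum_hom φ S.vals.charC
    have hR' : Nat.card (R.map C.subtype) = 4 := by
      rw [card_map_of_injective (subtype_injective _), hR]; norm_num
    have hz0 : ∀ (u : zpowers d) (t : R.map C.subtype), t ≠ 1 → c (φ (u, t)) = 0 := by
      intro u t ht
      refine S.vals.c_zero _ ?_
      show 2 ∣ orderOf ((u : G) * (t : G))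
      obtain ⟨j, hj, e⟩ := (Nat.dvd_prime_pow Nat.prime_two).1
        (show orderOf (t : G) ∣ 2 ^ 2 by rw [show (2 : ℕ) ^ 2 = 4 from rfl, ← hR']; exact Subgroup.orderOf_dvd_natCard _ t.2)
      have hj0 : j ≠ 0 := fun e0 => ht (Subtype.ext (orderOf_eq_one_iff.1 (by rw [e, e0, pow_zero])))
      have hu : orderOf (u : G) ∣ 3 := hdo ▸ orderOf_dvd_of_mem_zpowers u.2
      have hco : Commute (u : G) (t : G) := by
        obtain ⟨i, hi⟩ := mem_zpowers_iff.1 u.2
        obtain ⟨y, -, hy⟩ := t.2
        rw [← hi, ← hy]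
        exact (show Commute d (y : G) from (mem_centralizer_singleton_iff.1 y.2).symm).zpow_left i
      rw [hco.orderOf_mul_eq_mul_orderOf_of_coprime (by
        rw [e]; exact Nat.Coprime.coprime_dvd_left hu (Nat.Coprime.pow_right j (by norm_num))), e]
      exact Dvd.dvd.mul_left (dvd_pow_self 2 hj0) _
    rw [Fintype.sum_prod_type, Finset.sum_comm, Finset.sum_eq_single (1 : R.map C.subtype)
      (fun t _ ht => Finset.sum_eq_zero fun u _ => hz0 u t ht) (by simp), Nat.card_prod, hR', Nat.card_zpowers, hdo] at hk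
    have hu : (Finset.univ : Finset (zpowers d)) = {1, ⟨d, mem_zpowers d⟩, ⟨d⁻¹, inv_mem (mem_zpowers d)⟩} := by
      refine (Finset.eq_univ_of_card _ ?_).symm
      rw [Finset.card_insert_of_notMem (by
          simp only [Finset.mem_insert, Finset.mem_singleton, Subtype.ext_iff, OneMemClass.coe_one]
          rintro (e | e)
          · exact hd1 e.symm
          · exact hd1 (inv_eq_one.1 e.symm)),
        Finset.card_pair (by
          simp only [ne_eq, Subtype.mk.injEq]
          intro e
          have h2 := orderOf_dvd_of_pow_eq_one (x := d) (n := 2) (by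
            rw [pow_two]; nth_rewrite 2 [e]; exact mul_inv_cancel d)
          rw [hdo] at h2; norm_num at h2),
        ← Nat.card_eq_fintype_card, Nat.card_zpowers, hdo]
    have hφ : ∀ u : zpowers d, φ (u, 1) = (u : G) := fun u => mul_one _
    simp only [hφ] at hk
    rw [hu, Finset.sum_insert (by
        simp only [Finset.mem_insert, Finset.mem_singleton, Subtype.ext_iff, OneMemClass.coe_one]
        rintro (e | e)
        · exact hd1 e.symm
        · exact hd1 (inv_eq_one.1 e.symm)),
      Finset.sum_pair (by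
        simp only [ne_eq, Subtype.mk.injEq]
        intro e
        have h2 := orderOf_dvd_of_pow_eq_one (x := d) (n := 2) (by
          rw [pow_two]; nth_rewrite 2 [e]; exact mul_inv_cancel d)
        rw [hdo] at h2; norm_num at h2),
      OneMemClass.coe_one, S.vals.c_one, S.c_three hdo, S.c_three (by rw [orderOf_inv, hdo]),
      S.apply_inv hdo, hd0] at hk
    have : (30 : ℕ) = k * (3 * 4) := by
      exact_mod_cast (show (30 : ℂ) = ((k * (3 * 4) : ℕ) : ℂ) by push_cast; linear_combination hk)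
    omega
  refine ⟨hW, hW9, ?_⟩
  have key : ∀ n ∈ Nat.divisors 864, n % 9 = 0 → n % 27 ≠ 0 → n % 4 ≠ 0 → n = 9 ∨ n = 18 := by decide +kernel
  exact key _ (Nat.mem_divisors.2 ⟨h864, by norm_num⟩) (Nat.mod_eq_zero_of_dvd h9)
    (fun h => h27 (Nat.dvd_of_mod_eq_zero h)) (fun h => h4 (Nat.dvd_of_mod_eq_zero h))

/-- Distinct Sylow 3-subgroups meet trivially. -/
theorem ti {U V : Sylow 3 G} {d : G} (hd : d ∈ (U : Subgroup G)) (hdV : d ∈ (V : Subgroup G)) (hd1 : d ≠ 1) :
    U = V := by
  have : Fact (Nat.Prime 3) := ⟨Nat.prime_three⟩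
  rcases S.vals.three d (S.order_three U.2 hd hd1) with h0 | h3
  swap
  · exact S.eq_of_z hd hdV h3
  obtain ⟨z, hz, hz3⟩ := S.exists_z U
  obtain ⟨z', hz', hz'3⟩ := S.exists_z V
  obtain ⟨hW, hW9, hC⟩ := S.centralizer_zero hd h0 hz hz3
  obtain ⟨hW', hW'9, -⟩ := S.centralizer_zero hdV h0 hz' hz'3
  set C := centralizer ({d} : Set G)
  have heq : zpowers d ⊔ zpowers z = zpowers d ⊔ zpowers z' := by
    have hP : ∀ H : Subgroup G, Nat.card H = 9 → H ≤ C → ∃ P : Sylow 3 C, (P : Subgroup C) = H.subgroupOf C := by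
      intro H hH hHC
      have hcard : Nat.card (H.subgroupOf C) = 9 := by rw [Nat.card_congr (subgroupOfEquivOfLe hHC).toEquiv, hH]
      refine ⟨Sylow.ofCard (H.subgroupOf C) ?_, rfl⟩
      rcases hC with e | e <;> rw [hcard, e]
      · rw [show (9 : ℕ) = 3 ^ 2 from rfl, Nat.Prime.factorization_pow Nat.prime_three]; simp
      · rw [show (18 : ℕ) = 3 ^ 2 * 2 from rfl, Nat.factorization_mul (by norm_num) (by norm_num)]
        rw [Finsupp.add_apply, Nat.Prime.factorization_pow Nat.prime_three, Finsupp.single_eq_same,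
          Nat.factorization_eq_zero_of_not_dvd (show ¬ 3 ∣ 2 by norm_num)]
        norm_num
    obtain ⟨P, hP1⟩ := hP _ hW9 hW
    obtain ⟨P', hP2⟩ := hP _ hW'9 hW'
    have hn : Nat.card (Sylow 3 C) = 1 := by
      have h1 := P.card_dvd_index
      have h2 : Nat.card (Sylow 3 C) % 3 = 1 % 3 := card_sylow_modEq_one 3 C
      have h3 : (P : Subgroup C).index * 9 = Nat.card C := by
        have := (P : Subgroup C).index_mul_card
        rw [show Nat.card (P : Subgroup C) = 9 by rw [hP1, Nat.card_congr (subgroupOfEquivOfLe hW).toEquiv, hW9]] at this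
        exact this
      have h4 : (P : Subgroup C).index ∣ 2 := by
        rcases hC with e | e
        · rw [show (P : Subgroup C).index = 1 by omega]; norm_num
        · rw [show (P : Subgroup C).index = 2 by omega]
      rcases (Nat.dvd_prime Nat.prime_two).1 (h1.trans h4) with e | e
      · exact e
      · rw [e] at h2; norm_num at h2
    have hPP : P = P' := (Nat.card_eq_one_iff_unique.1 hn).1.elim P P'
    have h := congrArg (fun Q : Sylow 3 C => (Q : Subgroup C).map C.subtype) hPP
    simp only [hP1, hP2, map_subgroupOf_eq_of_le hW, map_subgroupOf_eq_of_le hW'] at h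
    exact h
  exact S.eq_of_nine hW9 (sup_le (zpowers_le.2 hd) (zpowers_le.2 hz))
    (heq ▸ sup_le (zpowers_le.2 hdV) (zpowers_le.2 hz'))

end Ctx

end Cfsg.Lib.UThreeOrder
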