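import Cfsg.Agent.Blocks.DegreeEquation.Check

/-!
# The values at an involution of a group with a self-centralising subgroup of order seven
-/

set_option autoImplicit false
set_option linter.unusedSectionVars false

namespace Cfsg.Lib.UThreeOrder

open Cfsg.Lib.Chars Cfsg.Lib.Blocks Cfsg.Lib.Blocks.SmallOrder Cfsg.Lib.Blocks.SylowCount
  Cfsg.Lib.Blocks.DegreeEquation
open scoped ComplexConjugate _root_.Classical

universe u

variable {G : Type u} [Group G] [Fintype G] [IsSimpleGroup G] {p : ℕ} [Fact p.Prime]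
  {M : Ideal AlgInt} {C : Cyc G p} {ν : (ZMod p)ˣ → IrrCharacter G} {δ : ℤ}

/-- An inverting involution with a commuting element of order three gives exactly `p` pairs. -/
theorem exists_involution_six (hC : Core C) (hV : Nat.card C.V = 1) (he : 2 ∣ eC C) (he3 : 3 ∣ eC C) :
    ∃ s : G, s * s = 1 ∧ s ≠ 1 ∧ (∃ u : G, orderOf u = 3 ∧ u * s = s * u) ∧
      Nat.card {w : G × G // IsConj s w.1 ∧ IsConj s w.2 ∧ w.1 * w.2 = C.y} = p := by
  have : Fact (Nat.Prime 2) := ⟨Nat.prime_two⟩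
  have hp2 : p ≠ 2 := by have := hC.three_le; omega
  have hv : ∀ v : C.V, v = 1 := fun v => (Nat.card_eq_one_iff_unique.1 hV).1.elim v 1
  have hinj : Function.Injective C.act :=
    (injective_iff_map_eq_one _).2 fun a ha => congrArg Subtype.val (hv ⟨a, ha⟩)
  obtain ⟨b, hb⟩ := exists_prime_orderOf_dvd_card' (G := C.act.range) 2 he
  obtain ⟨a, ha⟩ := b.2
  have ha2 : orderOf a = 2 := by rw [← orderOf_injective C.act hinj, ha, Subgroup.orderOf_coe, hb]
  have haa : a * a = 1 := by rw [← pow_two, ← ha2, pow_orderOf_eq_one]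
  have ha1 : a ≠ 1 := fun e => by rw [e, orderOf_one] at ha2; omega
  have hsgn : ∀ k : C.H, k * k = 1 → k ≠ 1 → (C.act k : ZMod p) = -1 := by
    intro k hkk hk1
    have h1 : (C.act k : ZMod p) * (C.act k : ZMod p) = 1 := by
      rw [← Units.val_mul, ← map_mul, hkk, map_one, Units.val_one]
    refine (mul_self_eq_one_iff.1 h1).resolve_left fun e => hk1 (hinj ?_)
    rw [map_one]
    exact Units.ext (by rw [e, Units.val_one])
  have : Fact (Nat.Prime 3) := ⟨Nat.prime_three⟩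
  obtain ⟨b₃, hb₃⟩ := exists_prime_orderOf_dvd_card' (G := C.act.range) 3 he3
  obtain ⟨a₃, ha₃⟩ := b₃.2
  have hau : orderOf (a₃ : G) = 3 ∧ (a₃ : G) * a = (a : G) * a₃ := by
    refine ⟨by rw [Subgroup.orderOf_coe, ← orderOf_injective C.act hinj, ha₃, Subgroup.orderOf_coe, hb₃],
      congrArg Subtype.val (hinj ?_ : a₃ * a = a * a₃)⟩
    rw [map_mul, map_mul, mul_comm]
  set s : G := (a : G) with hs
  have hss : s * s = 1 := congrArg Subtype.val haa
  have hs1 : s ≠ 1 := fun e => ha1 (Subtype.ext e)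
  have hact := hsgn a haa ha1
  have hinv : ∀ i : ZMod p, s * C.yP i * s⁻¹ = C.yP (-i) := fun i => by
    rw [hs, C.conj_yP, hact, neg_one_mul]
  have h20 : (2 : ZMod p) ≠ 0 := fun e => hp2 ((Nat.prime_dvd_prime_iff_eq (Fact.out : p.Prime)
    Nat.prime_two).1 ((ZMod.natCast_eq_zero_iff 2 p).1 (by exact_mod_cast e)))
  have hconj : ∀ i : ZMod p, IsConj s (C.yP i * s) := by
    intro i
    refine isConj_iff.2 ⟨C.yP (i * (2 : ZMod p)⁻¹), ?_⟩
    set j := i * (2 : ZMod p)⁻¹
    rw [← C.yP_neg, mul_assoc, show s * C.yP (-j) = C.yP j * s by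
      rw [← neg_neg j, ← hinv (-j), neg_neg, inv_mul_cancel_right], ← mul_assoc, ← C.yP_add,
      ← two_mul, mul_comm (2 : ZMod p), mul_assoc, inv_mul_cancel₀ h20, mul_one]
  have hsqc : ∀ {x : G}, IsConj s x → x * x = 1 := fun {x} hx => by
    obtain ⟨c, rfl⟩ := isConj_iff.1 hx
    rw [show c * s * c⁻¹ * (c * s * c⁻¹) = c * (s * s) * c⁻¹ by group, hss]
    group
  have hfirst : ∀ u w : G, u * u = 1 → w * w = 1 → u * w = C.y → ∃ i, u = C.yP i * s := by
    intro u w hu hw huw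
    have hiu : u⁻¹ = u := inv_eq_of_mul_eq_one_left hu
    have hiw : w⁻¹ = w := inv_eq_of_mul_eq_one_left hw
    have h1 : u * C.y * u⁻¹ = C.y⁻¹ := by
      rw [← huw, mul_inv_rev, hiw, hiu, ← mul_assoc, hu, one_mul]
    have hn : u⁻¹ ∈ Subgroup.normalizer (Subgroup.zpowers C.y : Set G) :=
      C.norm_of_mem (i := 1) (j := -1) one_ne_zero
        (by rw [inv_inv, C.yP_neg, C.yP_one, h1])
    obtain ⟨i, k, hk, e⟩ := C.decomp u (by simpa using inv_mem hn)
    refine ⟨i, ?_⟩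
    have hyk : C.y ^ i * C.yP (C.act ⟨k, hk⟩ : ZMod p) * (C.y ^ i)⁻¹ = C.y⁻¹ := by
      rw [← h1, e, ← mul_one (C.act ⟨k, hk⟩ : ZMod p), ← C.conj_yP ⟨k, hk⟩ 1, C.yP_one]
      group
    have hkm : (C.act ⟨k, hk⟩ : ZMod p) = -1 := by
      refine C.yP_injective ?_
      rw [C.yP_neg, C.yP_one, ← hyk, ← C.yP_natCast i, ← C.yP_neg, ← C.yP_add, ← C.yP_add]
      congr 1
      ring
    have hka : (⟨k, hk⟩ : C.H) = a := hinj (Units.ext (by rw [hkm, hact]))
    rw [e, C.yP_natCast i]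
    exact congrArg (C.y ^ i * ·) (congrArg Subtype.val hka)
  refine ⟨s, hss, hs1, ⟨(a₃ : G), hau⟩, (Nat.card_congr (Equiv.ofBijective (fun i : ZMod p =>
    (⟨(C.yP i * s, C.yP (i - 1) * s), hconj _, hconj _, ?_⟩ :
      {w : G × G // IsConj s w.1 ∧ IsConj s w.2 ∧ w.1 * w.2 = C.y})) ⟨?_, ?_⟩)).symm.trans
    (Nat.card_zmod p)⟩
  · show C.yP i * s * (C.yP (i - 1) * s) = C.y
    rw [show C.yP i * s * (C.yP (i - 1) * s) = C.yP i * (s * C.yP (i - 1) * s⁻¹) * (s * s) by group,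
      hss, mul_one, hinv, ← C.yP_add, show i + -(i - 1) = (1 : ZMod p) by ring, C.yP_one]
  · intro i j e
    exact C.yP_injective (mul_right_cancel (congrArg Prod.fst (congrArg Subtype.val e)))
  · rintro ⟨⟨u', w'⟩, hu', hw', huw'⟩
    obtain ⟨i, rfl⟩ := hfirst u' w' (hsqc hu') (hsqc hw') huw'
    refine ⟨i, Subtype.ext (Prod.ext rfl (mul_left_cancel (a := C.yP i * s) ?_))⟩
    show C.yP i * s * (C.yP (i - 1) * s) = C.yP i * s * w'
    rw [show C.yP i * s * (C.yP (i - 1) * s) = C.yP i * (s * C.yP (i - 1) * s⁻¹) * (s * s) by group,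
      hss, mul_one, hinv, ← C.yP_add, show i + -(i - 1) = (1 : ZMod p) by ring, C.yP_one]
    exact huw'.symm

/-- What the involution gives, with the integrality of the central characters. -/
theorem exists_invValues (hC : Core C) (hM : IsPModular p M) (hD : C.OrbitData C.oneV ν δ)
    (hV : Nat.card C.V = 1) (he : 2 ∣ eC C) (he3 : 3 ∣ eC C) :
    ∃ (s : G) (a : ℤ) (l : List (ℤ × ℤ)), l.length + 1 = eC C ∧ s * s = 1 ∧ s ≠ 1 ∧
      (∃ u : G, orderOf u = 3 ∧ u * s = s * u) ∧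
      (∀ q ∈ l, q.1 ∣ (Nat.card {x : G // IsConj s x} : ℤ) * q.2) ∧
      a ∣ (Nat.card {x : G // IsConj s x} : ℤ) * (1 + (l.map Prod.snd).sum) ∧
      InvPairsAt p (Nat.card G) (Nat.card C.V) ((p - 1) / eC C) (idx C * eC C) (eC C : ℤ) a l
        (Nat.card {x : G // IsConj s x}) := by
  obtain ⟨s, hss, hs1, hu3, hT⟩ := exists_involution_six hC hV he he3
  have hp := hC.three_le
  have hreg : ¬ p ∣ orderOf s := fun hd => by
    have h2 : orderOf s ∣ 2 := orderOf_dvd_of_pow_eq_one (by rw [pow_two, hss])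
    have := Nat.le_of_dvd Nat.zero_lt_two (hd.trans h2)
    omega
  choose r hr h4 hle using fun χ : IrrCharacter G => value_involution hC χ hss
  obtain ⟨P, hP⟩ := hC.sylow
  have hv : ∀ v : C.V, v = 1 := fun v => (Nat.card_eq_one_iff_unique.1 hV).1.elim v 1
  have hone : ∀ θ : IrrCharacter C.V, θ = C.oneV := fun θ => by
    refine Subtype.ext (funext fun v => ?_)
    rw [hv v, irr_deg_one_of_comm (fun a b => by rw [hv a, hv b]) θ.2]
    rfl
  have hzero : ∀ η : IrrCharacter G, ¬ C.Lies η C.oneV → (η : G → ℂ) C.y = 0 := fun η hl =>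
    C.apply_singular_of_forall_not_lies (fun θ => hone θ ▸ hl) P hP (dvd_of_eq C.order.symm)
  have hdisj : Disjoint (ordSet C ν) (Finset.univ.image ν) := Finset.disjoint_left.2 fun χ h1 h2 => by
    obtain ⟨u, -, rfl⟩ := Finset.mem_image.1 h2
    exact (mem_ordSet.1 h1).2 ⟨u, rfl⟩
  have hblock : ∀ f : IrrCharacter G → ℂ, (∀ η, ¬ C.Lies η C.oneV → f η = 0) →
      ∑ η, f η = ∑ η ∈ ordSet C ν, f η + ∑ η ∈ Finset.univ.image ν, f η := by
    intro f hf
    rw [← Finset.sum_union hdisj]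
    refine (Finset.sum_subset (Finset.subset_univ _) fun η _ hη => hf η fun hl => hη ?_).symm
    rw [Finset.mem_union]
    by_cases hn : η ∈ Set.range ν
    · obtain ⟨u, rfl⟩ := hn
      exact Or.inr (Finset.mem_image_of_mem _ (Finset.mem_univ _))
    · exact Or.inl (mem_ordSet.2 ⟨hl, hn⟩)
  have hexc : ∀ η ∈ Finset.univ.image ν, r η = r (ν 1) ∧ deg (η : G → ℂ) = deg (ν 1 : G → ℂ) := by
    intro η hη
    obtain ⟨u, -, rfl⟩ := Finset.mem_image.1 hη
    refine ⟨Int.cast_injective (α := ℂ) ?_, deg_exc hD u⟩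
    rw [← hr, ← hr]
    exact apply_exc_regular hD u hreg
  have hy : ∀ η ∈ ordSet C ν, (η : G → ℂ) C.y = (C.bI η C.oneV 1 : ℂ) := fun η hη => by
    rw [← C.yP_one]
    exact apply_yP_ord hM hD (mem_ordSet.1 hη).2 (mem_ordSet.1 hη).1 one_ne_zero
  set K := Nat.card {x : G // IsConj s x} with hK
  -- orthogonality with `y`
  have horth := second_orthogonality s C.y
  rw [if_neg (fun hc => hreg (by
    obtain ⟨c, hc⟩ := isConj_iff.1 hc
    rw [show orderOf s = orderOf C.y from (by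
      rw [← hc]; exact (MulEquiv.orderOf_eq (MulAut.conj c) s).symm), C.order])),
    hblock _ (fun η hl => by rw [hzero η hl, map_zero, mul_zero]),
    Finset.sum_congr (s₁ := ordSet C ν) rfl (g := fun η : IrrCharacter G =>
      (((C.bI η C.oneV 1 * r η : ℤ)) : ℂ)) (fun η hη => by
        rw [hy η hη, hr η, map_intCast]
        push_cast
        ring),
    Finset.sum_congr (s₁ := Finset.univ.image ν) rfl (g := fun η : IrrCharacter G => (r (ν 1) : ℂ) * conj ((η : G → ℂ) C.y))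
      (fun η hη => by rw [hr η, (hexc η hη).1]),
    ← Finset.mul_sum, ← map_sum, ← C.yP_one, sum_exc hM hD one_ne_zero] at horth
  simp only [map_neg, map_intCast] at horth
  have hrel : ∑ η ∈ ordSet C ν, C.bI η C.oneV 1 * r η = δ * r (ν 1) := by
    apply Int.cast_injective (α := ℂ)
    push_cast at horth ⊢
    linear_combination horth
  -- the class multiplication
  have hf := class_mult_formula s s C.y
  rw [hT, ← hK, hblock _ (fun η hl => by rw [hzero η hl, map_zero, mul_zero, zero_div]),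
    Finset.sum_congr (s₁ := ordSet C ν) rfl (g := fun η : IrrCharacter G =>
      ((C.bI η C.oneV 1 * r η : ℤ) : ℂ) * ((C.bI η C.oneV 1 * r η : ℤ) : ℂ) /
        ((C.bI η C.oneV 1 * (deg (η : G → ℂ) : ℤ) : ℤ) : ℂ)) (fun η hη => by
        rw [hy η hη, hr η, map_intCast, irr_apply_one_eq_deg]
        rcases hD.sign_diff (χ := η) (mem_ordSet.1 hη) with e | e <;> rw [e] <;>
          simp [div_neg, neg_div]),
    Finset.sum_congr (s₁ := Finset.univ.image ν) rfl (g := fun η : IrrCharacter G =>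
      (r (ν 1) : ℂ) * (r (ν 1) : ℂ) / (deg (ν 1 : G → ℂ) : ℂ) * conj ((η : G → ℂ) C.y)) (fun η hη => by
        rw [hr η, (hexc η hη).1, irr_apply_one_eq_deg, (hexc η hη).2]
        ring),
    ← Finset.mul_sum, ← map_sum, ← C.yP_one, sum_exc hM hD one_ne_zero] at hf
  simp only [map_neg, map_intCast] at hf
  -- the centralizer
  have hcs : (∑ η ∈ ordSet C ν, r η * r η +
      ((C.E (C.oneV : C.V → ℂ)).index : ℤ) * (r (ν 1) * r (ν 1))) * K ≤ (Nat.card G : ℤ) := by
    have h1 := second_orthogonality s s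
    rw [if_pos (IsConj.refl s), Finset.sum_congr rfl (g := fun η : IrrCharacter G =>
      ((r η * r η : ℤ) : ℂ)) (fun η _ => by rw [hr η, map_intCast]; push_cast; ring),
      ← Int.cast_sum] at h1
    have h2 : ∑ η : IrrCharacter G, r η * r η =
        (Nat.card (Subgroup.centralizer ({s} : Set G)) : ℤ) := by exact_mod_cast h1
    have h3 : ∑ η ∈ ordSet C ν ∪ Finset.univ.image ν, r η * r η ≤
        ∑ η : IrrCharacter G, r η * r η :=
      Finset.sum_le_sum_of_subset_of_nonneg (Finset.subset_univ _) fun η _ _ => mul_self_nonneg _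
    rw [Finset.sum_union hdisj, Finset.sum_congr (s₁ := Finset.univ.image ν) rfl (g := fun _ : IrrCharacter G =>
      r (ν 1) * r (ν 1)) (fun η hη => by rw [(hexc η hη).1]),
      Finset.sum_const, card_image hD, nsmul_eq_mul, h2] at h3
    refine (mul_le_mul_of_nonneg_right h3 (Int.natCast_nonneg K)).trans_eq ?_
    rw [hK, card_isConj]
    exact_mod_cast Subgroup.card_mul_index _
  have ht : (C.E (C.oneV : C.V → ℂ)).index = (p - 1) / eC C := by
    have h1 := index_eq (C := C)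
    have := hC.two_le_eC
    rw [show p - 1 = (C.E (C.oneV : C.V → ℂ)).index * eC C by omega,
      Nat.mul_div_cancel _ (by omega)]
  have hKd : K ∣ Nat.card G := by
    rw [hK, card_isConj]
    exact Subgroup.index_dvd_card _
  have habs : ∀ {χ : IrrCharacter G}, χ ∈ ordSet C ν →
      (C.bI χ C.oneV 1 * (deg (χ : G → ℂ) : ℤ)).natAbs = deg (χ : G → ℂ) ∧
      (C.bI χ C.oneV 1 * r χ).natAbs = (r χ).natAbs ∧
      (4 : ℤ) ∣ C.bI χ C.oneV 1 * (deg (χ : G → ℂ) : ℤ) - C.bI χ C.oneV 1 * r χ ∧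
      C.bI χ C.oneV 1 * r χ * (C.bI χ C.oneV 1 * r χ) = r χ * r χ := fun {χ} hχ => by
    refine ⟨?_, ?_, by rw [← mul_sub]; exact (h4 χ).mul_left _, ?_⟩ <;>
      rcases hD.sign_diff (χ := χ) (mem_ordSet.1 hχ) with e | e <;> simp [e]
  have hterm : ∀ {χ : IrrCharacter G}, χ ∈ ordSet C ν → χ ≠ oneG G →
      (IsTerm p (idx C * eC C) (Nat.card G) 1 (C.bI χ C.oneV 1 * (deg (χ : G → ℂ) : ℤ)) ∧
        Allowed p (Nat.card G) (Nat.card C.V)
          (C.bI χ C.oneV 1 * (deg (χ : G → ℂ) : ℤ)).natAbs) ∧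
      (4 : ℤ) ∣ C.bI χ C.oneV 1 * (deg (χ : G → ℂ) : ℤ) - C.bI χ C.oneV 1 * r χ ∧
      (C.bI χ C.oneV 1 * r χ).natAbs ≤ (C.bI χ C.oneV 1 * (deg (χ : G → ℂ) : ℤ)).natAbs := by
    intro χ hχ hne
    obtain ⟨e1, e2, e3, -⟩ := habs hχ
    refine ⟨⟨isTerm_ord hC hM hD hχ hne, ?_⟩, e3, by rw [e1, e2]; exact hle χ⟩
    rw [e1]
    exact allowed_of_lies hC hM hp (mem_ordSet.1 hχ).1 hne
  let pr : IrrCharacter G → ℤ × ℤ := fun χ =>
    (C.bI χ C.oneV 1 * (deg (χ : G → ℂ) : ℤ), C.bI χ C.oneV 1 * r χ)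
  have hint : ∀ χ : IrrCharacter G, (deg (χ : G → ℂ) : ℤ) ∣ (K : ℤ) * r χ := fun χ => by
    obtain ⟨w, m, hm, hw, -⟩ := BrauerTuan.exists_int_central χ hss
    rw [hr χ] at hm
    rw [Int.cast_injective hm]
    exact ⟨w, hw⟩
  have hdvd : ∀ {χ : IrrCharacter G}, χ ∈ ordSet C ν →
      (C.bI χ C.oneV 1 * (deg (χ : G → ℂ) : ℤ)) ∣ (K : ℤ) * (C.bI χ C.oneV 1 * r χ) := fun {χ} _ => by
    rw [mul_left_comm]
    exact mul_dvd_mul_left _ (hint χ)
  have hfold : ∀ A : Finset (IrrCharacter G), A ⊆ ordSet C ν →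
      (fracs (A.toList.map pr)).2 ≠ 0 ∧
      ((fracs (A.toList.map pr)).1 : ℂ) / ((fracs (A.toList.map pr)).2 : ℂ) =
        1 + ∑ η ∈ A, ((C.bI η C.oneV 1 * r η : ℤ) : ℂ) * ((C.bI η C.oneV 1 * r η : ℤ) : ℂ) /
          ((C.bI η C.oneV 1 * (deg (η : G → ℂ) : ℤ) : ℤ) : ℂ) := by
    intro A hA
    obtain ⟨h1, h2⟩ := fracs_spec (A.toList.map pr) (fun q hq => by
      obtain ⟨χ, hχ, rfl⟩ := List.mem_map.1 hq
      have h5 := (habs (hA (Finset.mem_toList.1 hχ))).1
      have := deg_irr_pos χ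
      intro h6
      rw [show C.bI χ C.oneV 1 * (deg (χ : G → ℂ) : ℤ) = 0 from h6] at h5
      simp at h5
      omega)
    refine ⟨h1, ?_⟩
    rw [h2, List.map_map, ← Finset.sum_map_toList]
    rfl
  have hg : (Nat.card G : ℂ) ≠ 0 := Nat.cast_ne_zero.2 Nat.card_pos.ne'
  have hx0 : (deg (ν 1 : G → ℂ) : ℂ) ≠ 0 := Nat.cast_ne_zero.2 (deg_irr_pos (ν 1)).ne'
  by_cases hn : oneG G ∈ Set.range ν
  · obtain ⟨u, hu⟩ := hn
    have hx : deg (ν 1 : G → ℂ) = 1 := by rw [← deg_exc hD u, hu, deg_oneG]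
    have hr1 : r (ν 1) = 1 := by
      apply Int.cast_injective (α := ℂ)
      rw [← hr, ← apply_exc_regular hD u hreg, hu, Int.cast_one]
      rfl
    have hne : ∀ χ ∈ ordSet C ν, χ ≠ oneG G := fun χ hχ e =>
      (mem_ordSet.1 hχ).2 ⟨u, by rw [hu, e]⟩
    have hcong := congr_exc hM hD
    have he2 := hC.two_le_eC
    have hep : eC C + 1 ≤ p := by
      have := Nat.le_of_dvd (by omega) (eC_dvd C)
      omega
    rw [hx, Nat.cast_one] at hcong
    have hδ : δ = -1 ∧ eC C + 1 = p := by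
      rcases hD.sign with e | e <;> rw [e] at hcong
      · rw [one_mul] at hcong
        have h1 : (p : ℤ) ∣ (eC C : ℤ) - 1 := by rwa [dvd_sub_comm]
        have := Int.le_of_dvd (by omega) h1
        omega
      · rw [neg_one_mul, sub_neg_eq_add] at hcong
        have := Int.le_of_dvd (by omega) hcong
        exact ⟨e, by omega⟩
    have hdeg := relation hD
    obtain ⟨χ₁, hχ₁⟩ := Finset.card_pos.1 (show 0 < (ordSet C ν).card by
      rw [card_ordSet hD]; omega)
    obtain ⟨h1, h2⟩ := hfold ((ordSet C ν).erase χ₁) (Finset.erase_subset _ _)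
    rw [← Finset.add_sum_erase _ _ hχ₁] at hrel hdeg hf hcs
    rw [hδ.1] at hrel hdeg hf
    rw [hr1] at hrel hf hcs
    rw [hx, Nat.cast_one] at hdeg hf
    have hsnd : 1 + ((((ordSet C ν).erase χ₁).toList.map pr).map Prod.snd).sum =
        -(C.bI χ₁ C.oneV 1 * r χ₁) := by
      rw [List.map_map, Finset.sum_map_toList]
      simp only [pr, Function.comp_apply]
      omega
    obtain ⟨⟨⟨t1, t2, t3, t4, t5⟩, hA⟩, h4', hle'⟩ := hterm hχ₁ (hne _ hχ₁)
    refine ⟨s, -(C.bI χ₁ C.oneV 1 * (deg (χ₁ : G → ℂ) : ℤ)), ((ordSet C ν).erase χ₁).toList.map pr,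
      ?_, hss, hs1, hu3, ?_, ?_, ?_, ⟨⟨by rwa [Int.natAbs_neg], by rwa [Int.natAbs_neg], by rwa [Int.natAbs_neg],
        by rwa [Int.natAbs_neg], ?_⟩, by rwa [Int.natAbs_neg]⟩, ?_, ?_, hKd, ?_, ?_⟩
    · rw [List.length_map, Finset.length_toList, Finset.card_erase_of_mem hχ₁, card_ordSet hD]
      omega
    · intro q hq
      obtain ⟨χ, hχ, rfl⟩ := List.mem_map.1 hq
      exact hdvd (Finset.mem_of_mem_erase (Finset.mem_toList.1 hχ))
    · rw [hsnd, mul_neg, Int.neg_dvd, dvd_neg]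
      exact hdvd hχ₁
    · rw [List.map_map, Finset.sum_map_toList]
      simp only [pr, Function.comp_apply]
      omega
    · rw [show -(C.bI χ₁ C.oneV 1 * (deg (χ₁ : G → ℂ) : ℤ)) - (eC C : ℤ) =
        -(C.bI χ₁ C.oneV 1 * (deg (χ₁ : G → ℂ) : ℤ) - 1) - (p : ℤ) by
          have : (eC C : ℤ) + 1 = p := by exact_mod_cast hδ.2
          omega]
      exact dvd_sub t5.neg_right dvd_rfl
    · intro q hq
      obtain ⟨χ, hχ, rfl⟩ := List.mem_map.1 hq
      have hχ' := Finset.mem_of_mem_erase (Finset.mem_toList.1 hχ)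
      exact hterm hχ' (hne _ hχ')
    · rw [hsnd, Int.natAbs_neg, Int.natAbs_neg]
      exact hle'
    · rw [hsnd]
      apply Int.cast_injective (α := ℂ)
      push_cast
      refine pairs_eq hg ?_ (Int.cast_ne_zero.2 h1) ?_
      · have := deg_irr_pos χ₁
        rcases hD.sign_diff (χ := χ₁) (mem_ordSet.1 hχ₁) with e | e <;> simp [e] <;> omega
      · rw [h2]
        push_cast at hf ⊢
        linear_combination hf
    · rw [hsnd, List.map_map, Finset.sum_map_toList, ht.symm]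
      simp only [pr, Function.comp_apply]
      rw [Finset.sum_congr rfl fun η hη => (habs (Finset.mem_of_mem_erase hη)).2.2.2]
      have hidx : (C.E (C.oneV : C.V → ℂ)).index = 1 := by
        have h5 := index_eq (C := C)
        have h6 : (C.E (C.oneV : C.V → ℂ)).index * eC C = 1 * eC C := by omega
        exact Nat.eq_of_mul_eq_mul_right (by omega) h6
      rw [hidx] at hcs ⊢
      rw [neg_mul_neg, (habs hχ₁).2.2.2]
      push_cast at hcs ⊢
      linarith
  · have hm : oneG G ∈ ordSet C ν := mem_ordSet.2 ⟨lies_oneG, hn⟩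
    have hr1 : r (oneG G) = 1 := by
      apply Int.cast_injective (α := ℂ)
      rw [← hr, Int.cast_one]
      rfl
    have hdeg := relation hD
    obtain ⟨h1, h2⟩ := hfold ((ordSet C ν).erase (oneG G)) (Finset.erase_subset _ _)
    rw [← Finset.add_sum_erase _ _ hm] at hrel hdeg hf hcs
    rw [bI_oneG' hM hD hn, deg_oneG] at hdeg hf
    rw [bI_oneG' hM hD hn, hr1] at hrel
    rw [hr1] at hf hcs
    have hsnd : 1 + ((((ordSet C ν).erase (oneG G)).toList.map pr).map Prod.snd).sum =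
        δ * r (ν 1) := by
      rw [List.map_map, Finset.sum_map_toList]
      simp only [pr, Function.comp_apply]
      omega
    have hδ : δ * δ = 1 := by rcases hD.sign with e | e <;> rw [e] <;> rfl
    have hδC : (δ : ℂ) * (δ : ℂ) = 1 := by exact_mod_cast congrArg (Int.cast (R := ℂ)) hδ
    refine ⟨s, δ * (deg (ν 1 : G → ℂ) : ℤ), ((ordSet C ν).erase (oneG G)).toList.map pr,
      ?_, hss, hs1, hu3, ?_, ?_, ?_, ⟨isTerm_exc hC hM hD hn, ?_⟩, ?_, ?_, hKd, ?_, ?_⟩
    · rw [List.length_map, Finset.length_toList, Finset.card_erase_of_mem hm, card_ordSet hD]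
      have := hC.two_le_eC
      omega
    · intro q hq
      obtain ⟨χ, hχ, rfl⟩ := List.mem_map.1 hq
      exact hdvd (Finset.mem_of_mem_erase (Finset.mem_toList.1 hχ))
    · rw [hsnd, mul_left_comm]
      exact mul_dvd_mul_left _ (hint _)
    · rw [List.map_map, Finset.sum_map_toList]
      simp only [pr, Function.comp_apply]
      push_cast at hdeg
      omega
    · rw [show (δ * (deg (ν 1 : G → ℂ) : ℤ)).natAbs = deg (ν 1 : G → ℂ) by
        rcases hD.sign with e | e <;> simp [e]]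
      exact allowed_of_lies hC hM hp (lies_exc hD 1) fun e => hn ⟨1, e⟩
    · intro q hq
      obtain ⟨χ, hχ, rfl⟩ := List.mem_map.1 hq
      exact hterm (Finset.mem_of_mem_erase (Finset.mem_toList.1 hχ))
        (Finset.ne_of_mem_erase (Finset.mem_toList.1 hχ))
    · rw [hsnd]
      rcases hD.sign with e | e <;> rw [e] <;> simpa using hle (ν 1)
    · rw [hsnd]
      apply Int.cast_injective (α := ℂ)
      push_cast
      refine pairs_eq hg (mul_ne_zero (fun e => by simp [e] at hδC) hx0) (Int.cast_ne_zero.2 h1) ?_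
      rw [h2]
      rcases hD.sign with e | e <;> rw [e] at hf ⊢ <;> push_cast at hf ⊢ <;>
        simp only [div_neg, neg_div, one_mul, neg_mul, div_one] at hf ⊢ <;>
        linear_combination hf
    · rw [hsnd, List.map_map, Finset.sum_map_toList, ht.symm]
      simp only [pr, Function.comp_apply]
      rw [Finset.sum_congr rfl fun η hη => (habs (Finset.mem_of_mem_erase hη)).2.2.2,
        show δ * r (ν 1) * (δ * r (ν 1)) = δ * δ * (r (ν 1) * r (ν 1)) by ring, hδ, one_mul]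
      linarith

end Cfsg.Lib.UThreeOrder
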